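import Mathlib
import Cfsg.Agent.Lib.Helper10.BR0

/-!
# S0999 (Brauer–Reynolds), piece BR-G4 (helper34): `[N(P) : C(P)]` divides `p - 1` for `|P| = p`.
-/

set_option autoImplicit false

namespace Cfsg.Agent.Lib.Helper10.BR

open Cfsg

/-- BR-G4 -/
theorem relIndex_dvd {G : Type*} [Group G] [Finite G] (p : ℕ) [Fact p.Prime] (P : Sylow p G)
    (hP : Nat.card P = p) :
    (Subgroup.centralizer ((P : Subgroup G) : Set G)).relIndex
      (Subgroup.normalizer ((P : Subgroup G) : Set G)) ∣ p - 1 := by
  have hp : p.Prime := Fact.out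
  have hP' : Nat.card (P : Subgroup G) = p := hP
  have hcyc : IsCyclic (P : Subgroup G) := isCyclic_of_prime_card hP'
  have key := Subgroup.card_dvd_of_injective _
    (QuotientGroup.kerLift_injective (P : Subgroup G).normalizerMonoidHom)
  rw [Subgroup.normalizerMonoidHom_ker, ← Subgroup.index, ← Subgroup.relIndex] at key
  rw [IsCyclic.card_mulAut, hP', Nat.totient_prime hp] at key
  exact key

end Cfsg.Agent.Lib.Helper10.BR
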