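import Mathlib
import Cfsg.Agent.Lib.Helper10.BR0
import Cfsg.Agent.Lib.Helper83.IrrBasic
import Cfsg.Agent.Lib.Helper4.CharExp2

/-!
# S0999 (Brauer–Reynolds), piece BR-II10 (helper34): `|C(τ)| = p - 1`, `χ(τ) = ± t` on `A`,
`p ψ(τ) = ψ(1)` on `D` (Cauchy–Schwarz equality).
-/

set_option autoImplicit false

namespace Cfsg.Agent.Lib.Helper10.BR

open Cfsg
open Cfsg.Agent.Lib.Helper83 (trivIrr)
open scoped ComplexConjugate

section T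

variable {G : Type*} [Group G] [Fintype G] {p e t : ℕ} {P : Subgroup G} {ε : ℤ} {x₀ : ℕ}
  {A B Y D : Finset (IrrCharacter G)}

/-- BR-II10 -/
theorem z_eq_of (h : Tab G p e t P ε x₀ A B Y D) (ha : A.card * t + 2 = e)
    (τ : G) (hτ2 : orderOf τ = 2)
    (hez : e ∣ Nat.card (Subgroup.centralizer ({τ} : Set G)))
    (h1 : ((Nat.card (Subgroup.centralizer ({τ} : Set G)) : ℂ)) ^ 2 =
      (((p - 1) * (p - e + 1) : ℕ) : ℂ) + (e : ℂ) * ∑ χ ∈ A, ((χ : G → ℂ) τ) ^ 2)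
    (h2 : ∑ ψ ∈ D, (ψ : G → ℂ) 1 * (ψ : G → ℂ) τ = (((t - 1) * p : ℕ) : ℂ))
    (h3 : ∑ ψ ∈ D, ((ψ : G → ℂ) 1) ^ 2 = (((t - 1) * p ^ 2 : ℕ) : ℂ))
    (h4 : (Nat.card (Subgroup.centralizer ({τ} : Set G)) : ℂ) =
      1 + ∑ χ ∈ A, ((χ : G → ℂ) τ) ^ 2 + (t : ℂ) + ∑ ψ ∈ D, ((ψ : G → ℂ) τ) ^ 2)
    (h5 : ∀ χ ∈ A, ‖(χ : G → ℂ) τ‖ ≤ (t : ℝ)) :
    Nat.card (Subgroup.centralizer ({τ} : Set G)) = p - 1 ∧
    (∀ χ ∈ A, (χ : G → ℂ) τ = (t : ℂ) ∨ (χ : G → ℂ) τ = -(t : ℂ)) ∧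
    (∀ ψ ∈ D, (p : ℂ) * (ψ : G → ℂ) τ = (ψ : G → ℂ) 1) := by
  classical
  obtain ⟨j, hj⟩ := hez
  generalize Nat.card (Subgroup.centralizer ({τ} : Set G)) = z at hj h1 h4 ⊢
  have hp5 := h.hp5
  have he := h.he
  have ht := h.ht
  have het := h.het
  have hpet : p = e * t + 1 := by omega
  have hple : e ≤ p := by
    have : e * 1 ≤ e * t := Nat.mul_le_mul_left e (by omega)
    omega
  -- reality of the values
  have hτinv : τ⁻¹ = τ := by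
    have h6 : τ ^ 2 = 1 := by rw [← hτ2]; exact pow_orderOf_eq_one τ
    rw [sq] at h6
    exact inv_eq_of_mul_eq_one_left h6
  have hreal : ∀ ψ : IrrCharacter G, (ψ : G → ℂ) τ = ((((ψ : G → ℂ) τ).re : ℝ) : ℂ) := by
    intro ψ
    have h6 := Cfsg.Agent.Lib.Helper83.irr_inv ψ.2 τ
    rw [hτinv] at h6
    exact (Complex.conj_eq_iff_re.1 h6.symm).symm
  have hreal1 : ∀ ψ : IrrCharacter G, (ψ : G → ℂ) 1 = ((((ψ : G → ℂ) 1).re : ℝ) : ℂ) := by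
    intro ψ
    obtain ⟨n, -, hn⟩ := Cfsg.Agent.Lib.Helper4.irr_one_nat ψ
    rw [hn]
    simp
  -- real versions of the hypotheses
  have hSc : ∑ χ ∈ A, ((χ : G → ℂ) τ) ^ 2 =
      ((∑ χ ∈ A, (((χ : G → ℂ) τ).re) ^ 2 : ℝ) : ℂ) := by
    push_cast
    exact Finset.sum_congr rfl fun χ _ => by rw [← hreal χ]
  have hTc : ∑ ψ ∈ D, ((ψ : G → ℂ) τ) ^ 2 =
      ((∑ ψ ∈ D, (((ψ : G → ℂ) τ).re) ^ 2 : ℝ) : ℂ) := by
    push_cast
    exact Finset.sum_congr rfl fun ψ _ => by rw [← hreal ψ]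
  have hKdc : ∑ ψ ∈ D, (ψ : G → ℂ) 1 * (ψ : G → ℂ) τ =
      ((∑ ψ ∈ D, ((ψ : G → ℂ) 1).re * ((ψ : G → ℂ) τ).re : ℝ) : ℂ) := by
    push_cast
    exact Finset.sum_congr rfl fun ψ _ => by rw [← hreal ψ, ← hreal1 ψ]
  have hKKc : ∑ ψ ∈ D, ((ψ : G → ℂ) 1) ^ 2 =
      ((∑ ψ ∈ D, (((ψ : G → ℂ) 1).re) ^ 2 : ℝ) : ℂ) := by
    push_cast
    exact Finset.sum_congr rfl fun ψ _ => by rw [← hreal1 ψ]
  rw [hSc] at h1 h4
  rw [hTc] at h4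
  rw [hKdc] at h2
  rw [hKKc] at h3
  set S : ℝ := ∑ χ ∈ A, (((χ : G → ℂ) τ).re) ^ 2 with hSdef
  set T : ℝ := ∑ ψ ∈ D, (((ψ : G → ℂ) τ).re) ^ 2 with hTdef
  set Kd : ℝ := ∑ ψ ∈ D, ((ψ : G → ℂ) 1).re * ((ψ : G → ℂ) τ).re with hKddef
  set KK : ℝ := ∑ ψ ∈ D, (((ψ : G → ℂ) 1).re) ^ 2 with hKKdef
  have hPp : (p : ℝ) = (e : ℝ) * (t : ℝ) + 1 := by rw [hpet]; push_cast; ring
  have hE2 : (2 : ℝ) ≤ (e : ℝ) := by exact_mod_cast he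
  have hT3 : (3 : ℝ) ≤ (t : ℝ) := by exact_mod_cast ht
  have hZ0 : (0 : ℝ) ≤ (z : ℝ) := Nat.cast_nonneg z
  have r1 : (z : ℝ) ^ 2 = (e : ℝ) * (t : ℝ) * ((e : ℝ) * (t : ℝ) - (e : ℝ) + 2) + (e : ℝ) * S := by
    have h6 : ((z : ℝ)) ^ 2 = (((p - 1) * (p - e + 1) : ℕ) : ℝ) + (e : ℝ) * S := by
      exact_mod_cast h1
    rw [h6]
    have h7 : (((p - 1) * (p - e + 1) : ℕ) : ℝ) = ((p : ℝ) - 1) * ((p : ℝ) - (e : ℝ) + 1) := by
      rw [Nat.cast_mul, Nat.cast_add, Nat.cast_sub hple, Nat.cast_sub (by omega : 1 ≤ p)]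
      push_cast
      ring
    rw [h7, hPp]
    ring
  have r2 : Kd = ((t : ℝ) - 1) * (p : ℝ) := by
    have h6 : Kd = (((t - 1) * p : ℕ) : ℝ) := by exact_mod_cast h2
    rw [h6, Nat.cast_mul, Nat.cast_sub (by omega : 1 ≤ t)]
    push_cast
    ring
  have r3 : KK = ((t : ℝ) - 1) * (p : ℝ) ^ 2 := by
    have h6 : KK = (((t - 1) * p ^ 2 : ℕ) : ℝ) := by exact_mod_cast h3
    rw [h6, Nat.cast_mul, Nat.cast_sub (by omega : 1 ≤ t)]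
    push_cast
    ring
  have r4 : (z : ℝ) = 1 + S + (t : ℝ) + T := by exact_mod_cast h4
  have hS0 : 0 ≤ S := Finset.sum_nonneg fun χ _ => sq_nonneg _
  -- Cauchy–Schwarz
  have hQ : ∑ ψ ∈ D, ((p : ℝ) * ((ψ : G → ℂ) τ).re - ((ψ : G → ℂ) 1).re) ^ 2 =
      (p : ℝ) ^ 2 * (T - ((t : ℝ) - 1)) := by
    have h6 : ∀ ψ : IrrCharacter G, ((p : ℝ) * ((ψ : G → ℂ) τ).re - ((ψ : G → ℂ) 1).re) ^ 2 =
        (p : ℝ) ^ 2 * (((ψ : G → ℂ) τ).re) ^ 2 -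
          2 * (p : ℝ) * (((ψ : G → ℂ) 1).re * ((ψ : G → ℂ) τ).re) + (((ψ : G → ℂ) 1).re) ^ 2 := by
      intro ψ
      ring
    rw [Finset.sum_congr rfl (fun ψ _ => h6 ψ), Finset.sum_add_distrib, Finset.sum_sub_distrib,
      ← Finset.mul_sum, ← Finset.mul_sum, ← hTdef, ← hKddef, ← hKKdef, r2, r3]
    ring
  have hQ0 : 0 ≤ ∑ ψ ∈ D, ((p : ℝ) * ((ψ : G → ℂ) τ).re - ((ψ : G → ℂ) 1).re) ^ 2 :=
    Finset.sum_nonneg fun ψ _ => sq_nonneg _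
  have hPpos : (0 : ℝ) < (p : ℝ) ^ 2 := by
    have : (0 : ℝ) < (p : ℝ) := by exact_mod_cast (by omega : 0 < p)
    positivity
  have hT1 : (t : ℝ) - 1 ≤ T := by
    rw [hQ] at hQ0
    have := (mul_nonneg_iff_of_pos_left hPpos).1 hQ0
    linarith
  -- upper bound
  have hup : (z : ℝ) ≤ (e : ℝ) * (t : ℝ) := by
    by_contra hcon
    push Not at hcon
    have h6 : 0 < ((z : ℝ) - (e : ℝ) * (t : ℝ)) * ((z : ℝ) + (e : ℝ) * (t : ℝ) - (e : ℝ)) := by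
      apply mul_pos (by linarith)
      nlinarith
    have h7 : (e : ℝ) * S ≤ (e : ℝ) * ((z : ℝ) - 2 * (t : ℝ)) :=
      mul_le_mul_of_nonneg_left (by linarith) (by linarith)
    nlinarith
  -- lower bound
  have hlow : (e : ℝ) * (t : ℝ) - (e : ℝ) + 1 < (z : ℝ) := by
    by_contra hcon
    push Not at hcon
    have h6 : (z : ℝ) ^ 2 ≤ ((e : ℝ) * (t : ℝ) - (e : ℝ) + 1) ^ 2 :=
      pow_le_pow_left₀ hZ0 hcon 2
    have h7 : 0 ≤ (e : ℝ) * S := mul_nonneg (by linarith) hS0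
    have h8 : 0 ≤ (e : ℝ) * ((t : ℝ) - 1) := mul_nonneg (by linarith) (by linarith)
    nlinarith
  have hzle : z ≤ e * t := by exact_mod_cast hup
  have hzgt : e * t + 1 < z + e := by
    have : ((e * t + 1 : ℕ) : ℝ) < ((z + e : ℕ) : ℝ) := by push_cast; linarith
    exact_mod_cast this
  have hjt : j = t := by
    rw [hj] at hzle hzgt
    have h6 : j ≤ t := Nat.le_of_mul_le_mul_left hzle (by omega)
    have h7 : t < j + 1 := by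
      by_contra hcon
      push Not at hcon
      have : e * (j + 1) ≤ e * t := Nat.mul_le_mul_left e hcon
      rw [Nat.mul_add, Nat.mul_one] at this
      omega
    omega
  have hz : z = e * t := by rw [hj, hjt]
  have hZ : (z : ℝ) = (e : ℝ) * (t : ℝ) := by rw [hz]; push_cast; ring
  have hSval : S = (A.card : ℝ) * (t : ℝ) ^ 2 := by
    have h6 : (e : ℝ) * S = (e : ℝ) * ((t : ℝ) * ((e : ℝ) - 2)) := by
      rw [hZ] at r1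
      linarith
    have h7 : S = (t : ℝ) * ((e : ℝ) - 2) := mul_left_cancel₀ (by linarith) h6
    have h8 : (e : ℝ) = (A.card : ℝ) * (t : ℝ) + 2 := by rw [← ha]; push_cast; ring
    rw [h7, h8]
    ring
  have hTval : T = (t : ℝ) - 1 := by
    have h8 : (e : ℝ) = (A.card : ℝ) * (t : ℝ) + 2 := by rw [← ha]; push_cast; ring
    rw [hZ, hSval, h8] at r4
    linarith
  refine ⟨by rw [hz, het], ?_, ?_⟩
  · intro χ hχ
    have h6 : ∑ χ ∈ A, ((t : ℝ) ^ 2 - (((χ : G → ℂ) τ).re) ^ 2) = 0 := by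
      rw [Finset.sum_sub_distrib, ← hSdef, hSval, Finset.sum_const, nsmul_eq_mul]
      ring
    have h7 : ∀ χ ∈ A, 0 ≤ (t : ℝ) ^ 2 - (((χ : G → ℂ) τ).re) ^ 2 := by
      intro χ hχ
      have h8 : |((χ : G → ℂ) τ).re| ≤ (t : ℝ) :=
        (Complex.abs_re_le_norm _).trans (h5 χ hχ)
      have h9 := sq_le_sq' (neg_le_of_abs_le h8) (le_of_abs_le h8)
      linarith
    have h8 := (Finset.sum_eq_zero_iff_of_nonneg h7).1 h6 χ hχ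
    have h9 : (((χ : G → ℂ) τ).re) ^ 2 = (t : ℝ) ^ 2 := by linarith
    rcases sq_eq_sq_iff_eq_or_eq_neg.1 h9 with h10 | h10
    · left
      rw [hreal χ, h10]
      push_cast
      rfl
    · right
      rw [hreal χ, h10]
      push_cast
      rfl
  · intro ψ hψ
    have h6 : ∑ ψ ∈ D, ((p : ℝ) * ((ψ : G → ℂ) τ).re - ((ψ : G → ℂ) 1).re) ^ 2 = 0 := by
      rw [hQ, hTval]
      ring
    have h7 := (Finset.sum_eq_zero_iff_of_nonneg (fun ψ _ => sq_nonneg _)).1 h6 ψ hψ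
    have h8 : (p : ℝ) * ((ψ : G → ℂ) τ).re = ((ψ : G → ℂ) 1).re := by
      have := pow_eq_zero_iff (n := 2) (by norm_num) |>.1 h7
      linarith
    rw [hreal ψ, hreal1 ψ]
    exact_mod_cast h8

end T

end Cfsg.Agent.Lib.Helper10.BR
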