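import Mathlib

set_option autoImplicit false

namespace Cfsg.Agent.Lib.Helper34

open Matrix

variable {F : Type*} [Field F]

/-- entrywise characterization of commuting 2×2 matrices -/
theorem mat2_comm_iff (x y : Matrix (Fin 2) (Fin 2) F) :
    x * y = y * x ↔ (x 0 1 * y 1 0 = x 1 0 * y 0 1) ∧
      ((x 0 0 - x 1 1) * y 0 1 = x 0 1 * (y 0 0 - y 1 1)) ∧
      ((x 0 0 - x 1 1) * y 1 0 = x 1 0 * (y 0 0 - y 1 1)) := by
  rw [← Matrix.ext_iff]
  simp only [Fin.forall_fin_two, Matrix.mul_apply, Fin.sum_univ_two]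
  constructor
  · rintro ⟨⟨h00, h01⟩, h10, h11⟩
    exact ⟨by linear_combination h00, by linear_combination h01, by linear_combination -h10⟩
  · rintro ⟨h1, h2, h3⟩
    exact ⟨⟨by linear_combination h1, by linear_combination h2⟩, by linear_combination -h3,
      by linear_combination -h1⟩

/-- a 2×2 matrix is scalar -/
def IsScalar2 (y : Matrix (Fin 2) (Fin 2) F) : Prop := y 0 1 = 0 ∧ y 1 0 = 0 ∧ y 0 0 = y 1 1

theorem mat2_eq_of_entries (x y : Matrix (Fin 2) (Fin 2) F) (α β : F)
    (h00 : x 0 0 = α + β * y 0 0) (h01 : x 0 1 = β * y 0 1) (h10 : x 1 0 = β * y 1 0)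
    (h11 : x 1 1 = α + β * y 1 1) : x = α • (1 : Matrix (Fin 2) (Fin 2) F) + β • y := by
  ext i j
  fin_cases i <;> fin_cases j <;> simp [h00, h01, h10, h11]

/-- the centralizer of a non-scalar 2×2 matrix `y` is `F[y]`. -/
theorem mat2_centralizer (x y : Matrix (Fin 2) (Fin 2) F) (hy : ¬ IsScalar2 y)
    (hxy : x * y = y * x) :
    ∃ α β : F, x = α • (1 : Matrix (Fin 2) (Fin 2) F) + β • y := by
  obtain ⟨h1, h2, h3⟩ := (mat2_comm_iff x y).mp hxy
  by_cases hb : y 0 1 = 0
  · by_cases hc : y 1 0 = 0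
    · have hd : y 0 0 - y 1 1 ≠ 0 := fun h => hy ⟨hb, hc, sub_eq_zero.mp h⟩
      have e01 : x 0 1 = 0 := by
        rw [hb, mul_zero] at h2
        exact (mul_eq_zero.mp h2.symm).resolve_right hd
      have e10 : x 1 0 = 0 := by
        rw [hc, mul_zero] at h3
        exact (mul_eq_zero.mp h3.symm).resolve_right hd
      refine ⟨x 0 0 - (x 0 0 - x 1 1) / (y 0 0 - y 1 1) * y 0 0,
        (x 0 0 - x 1 1) / (y 0 0 - y 1 1), mat2_eq_of_entries _ _ _ _ (by ring) (by rw [e01, hb, mul_zero])
        (by rw [e10, hc, mul_zero]) ?_⟩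
      field_simp
      ring
    · have e01 : x 0 1 = 0 := by
        rw [hb, mul_zero] at h1
        exact (mul_eq_zero.mp h1).resolve_right hc
      refine ⟨x 0 0 - x 1 0 / y 1 0 * y 0 0, x 1 0 / y 1 0,
        mat2_eq_of_entries _ _ _ _ (by ring) (by rw [e01, hb, mul_zero]) (by field_simp) ?_⟩
      field_simp
      linear_combination -h3
  · refine ⟨x 0 0 - x 0 1 / y 0 1 * y 0 0, x 0 1 / y 0 1,
      mat2_eq_of_entries _ _ _ _ (by ring) (by field_simp) ?_ ?_⟩
    · field_simp
      linear_combination -h1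
    · field_simp
      linear_combination -h2

/-- commuting is transitive through a non-scalar matrix -/
theorem mat2_comm_trans (x y z : Matrix (Fin 2) (Fin 2) F) (hy : ¬ IsScalar2 y)
    (hxy : x * y = y * x) (hyz : y * z = z * y) : x * z = z * x := by
  obtain ⟨α, β, rfl⟩ := mat2_centralizer x y hy hxy
  simp only [add_mul, mul_add, smul_mul_assoc, mul_smul_comm, one_mul, mul_one, hyz]

/-- If `x, x'` have determinant one, the same trace `t` with `t² ≠ 4`, and commute, then
`x' = x` or `x' = x⁻¹`. -/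
theorem mat2_conj_cases (x x' : Matrix (Fin 2) (Fin 2) F) (h2 : (2 : F) ≠ 0)
    (hdet : x.det = 1) (hdet' : x'.det = 1) (htr : x'.trace = x.trace) (ht : x.trace ^ 2 ≠ 4)
    (hc : x' * x = x * x') : x' = x ∨ x' * x = 1 := by
  rw [Matrix.det_fin_two] at hdet hdet'
  rw [Matrix.trace_fin_two] at ht
  rw [Matrix.trace_fin_two, Matrix.trace_fin_two] at htr
  have hns : ¬ IsScalar2 x := by
    rintro ⟨h01, h10, h00⟩
    apply ht
    rw [h01, h00] at hdet
    rw [h00]
    linear_combination 4 * hdet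
  obtain ⟨α, β, hx'⟩ := mat2_centralizer x' x hns hc
  have e00 : x' 0 0 = α + β * x 0 0 := by rw [hx']; simp
  have e01 : x' 0 1 = β * x 0 1 := by rw [hx']; simp
  have e10 : x' 1 0 = β * x 1 0 := by rw [hx']; simp
  have e11 : x' 1 1 = α + β * x 1 1 := by rw [hx']; simp
  rw [e00, e01, e10, e11] at hdet'
  rw [e00, e11] at htr
  set t := x 0 0 + x 1 1 with ht_def
  have hα : 2 * α = t * (1 - β) := by linear_combination htr
  have key : (1 - β ^ 2) * (t ^ 2 - 4) = 0 := by
    have h4 : (2 * α) ^ 2 + 2 * (2 * α) * β * t + 4 * β ^ 2 * (x 0 0 * x 1 1 - x 0 1 * x 1 0) = 4 := by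
      linear_combination 4 * hdet'
    rw [hα, hdet] at h4
    linear_combination h4
  have hβ : 1 - β ^ 2 = 0 := (mul_eq_zero.mp key).resolve_right (sub_ne_zero.mpr ht)
  have hβ' : (β - 1) * (β + 1) = 0 := by linear_combination -hβ
  rcases mul_eq_zero.mp hβ' with h | h
  · left
    have hβ1 : β = 1 := by linear_combination h
    have hα0 : α = 0 := by
      have : 2 * α = 0 := by rw [hα, hβ1]; ring
      exact (mul_eq_zero.mp this).resolve_left h2
    rw [hx', hα0, hβ1]; simp
  · right
    have hβ1 : β = -1 := by linear_combination h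
    have hαt : α = t := by
      have : 2 * (α - t) = 0 := by rw [mul_sub, hα, hβ1]; ring
      exact sub_eq_zero.mp ((mul_eq_zero.mp this).resolve_left h2)
    rw [← Matrix.ext_iff]
    simp only [Fin.forall_fin_two, Matrix.mul_apply, Fin.sum_univ_two, e00, e01, e10, e11, hαt, hβ1,
      ht_def, Matrix.one_apply]
    simp only [if_true, Fin.isValue, Fin.reduceEq, if_false]
    refine ⟨⟨by linear_combination hdet, by ring⟩, by ring, by linear_combination hdet⟩

/-- trace two and determinant one: `(A - 1)² = 0`. -/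
theorem mat2_unipotent_sq (A : Matrix (Fin 2) (Fin 2) F) (htr : A.trace = 2) (hdet : A.det = 1) :
    (A - 1) * (A - 1) = 0 := by
  rw [Matrix.det_fin_two] at hdet
  rw [Matrix.trace_fin_two] at htr
  rw [← Matrix.ext_iff]
  simp only [Fin.forall_fin_two, Matrix.mul_apply, Fin.sum_univ_two, Matrix.sub_apply,
    Matrix.one_apply, Matrix.zero_apply]
  simp only [if_true, Fin.isValue, Fin.reduceEq, if_false]
  have h : A 0 0 + A 1 1 - 2 = 0 := by linear_combination htr
  refine ⟨⟨?_, ?_⟩, ?_, ?_⟩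
  · linear_combination (A 0 0) * h - hdet
  · linear_combination (A 0 1) * h
  · linear_combination (A 1 0) * h
  · linear_combination (A 1 1) * h - hdet

theorem mat2_unipotent_pow (p : ℕ) [Fact p.Prime] [CharP F p] (A : Matrix (Fin 2) (Fin 2) F)
    (htr : A.trace = 2) (hdet : A.det = 1) : A ^ p = 1 := by
  have h1 : (A - 1) ^ p = A ^ p - 1 := by
    rw [sub_pow_char_of_commute p (Commute.one_right A), one_pow]
  have h2 : (A - 1) ^ p = 0 := by
    have hp2 : 2 ≤ p := (Fact.out : p.Prime).two_le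
    obtain ⟨k, rfl⟩ := Nat.exists_eq_add_of_le hp2
    rw [pow_add, pow_two, mat2_unipotent_sq A htr hdet, zero_mul]
  rw [h2] at h1
  exact (sub_eq_zero.mp h1.symm)

/-- trace minus two and determinant one: `A ^ (2p) = 1`. -/
theorem mat2_neg_unipotent_pow (p : ℕ) [Fact p.Prime] [CharP F p] (A : Matrix (Fin 2) (Fin 2) F)
    (htr : A.trace = -2) (hdet : A.det = 1) : A ^ (2 * p) = 1 := by
  have h1 : (-A) ^ p = 1 := by
    apply mat2_unipotent_pow p
    · rw [Matrix.trace_neg, htr, neg_neg]
    · rw [Matrix.det_fin_two] at hdet ⊢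
      simp only [Matrix.neg_apply]
      linear_combination hdet
  have h2 : A ^ (2 * p) = ((-A) ^ p) ^ 2 := by
    rw [← pow_mul, mul_comm p 2, Even.neg_pow (even_two_mul p)]
  rw [h2, h1, one_pow]

/-- two kernel vectors of a nonzero 2×2 matrix are dependent -/
theorem mat2_ker_dep (N : Matrix (Fin 2) (Fin 2) F) (hN : N ≠ 0) (x y : Fin 2 → F)
    (hx : N.mulVec x = 0) (hy : N.mulVec y = 0) (hx0 : x ≠ 0) : y ∈ Submodule.span F {x} := by
  have hx0' := congrFun hx 0
  have hx1' := congrFun hx 1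
  have hy0' := congrFun hy 0
  have hy1' := congrFun hy 1
  simp only [Matrix.mulVec, dotProduct, Fin.sum_univ_two, Pi.zero_apply] at hx0' hx1' hy0' hy1'
  have hD : x 0 * y 1 - x 1 * y 0 = 0 := by
    by_contra hD
    apply hN
    ext i j
    fin_cases i <;> fin_cases j
    · exact (mul_eq_zero.mp (show N 0 0 * (x 0 * y 1 - x 1 * y 0) = 0 by
        linear_combination (y 1) * hx0' - (x 1) * hy0')).resolve_right hD
    · exact (mul_eq_zero.mp (show N 0 1 * (x 0 * y 1 - x 1 * y 0) = 0 by
        linear_combination (x 0) * hy0' - (y 0) * hx0')).resolve_right hD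
    · exact (mul_eq_zero.mp (show N 1 0 * (x 0 * y 1 - x 1 * y 0) = 0 by
        linear_combination (y 1) * hx1' - (x 1) * hy1')).resolve_right hD
    · exact (mul_eq_zero.mp (show N 1 1 * (x 0 * y 1 - x 1 * y 0) = 0 by
        linear_combination (x 0) * hy1' - (y 0) * hx1')).resolve_right hD
  rw [Submodule.mem_span_singleton]
  by_cases h0 : x 0 = 0
  · have h1 : x 1 ≠ 0 := by
      intro h1
      apply hx0
      ext i
      fin_cases i
      · exact h0
      · exact h1
    refine ⟨y 1 / x 1, ?_⟩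
    ext i
    fin_cases i
    · simp only [Pi.smul_apply, smul_eq_mul, Fin.zero_eta]
      rw [h0, zero_mul, zero_sub] at hD
      rw [h0, mul_zero]
      have := (mul_eq_zero.mp (neg_eq_zero.mp hD)).resolve_left h1
      exact this.symm
    · simp only [Pi.smul_apply, smul_eq_mul, Fin.mk_one]
      field_simp
  · refine ⟨y 0 / x 0, ?_⟩
    ext i
    fin_cases i
    · simp only [Pi.smul_apply, smul_eq_mul, Fin.zero_eta]
      field_simp
    · simp only [Pi.smul_apply, smul_eq_mul, Fin.mk_one]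
      field_simp
      linear_combination -hD

end Cfsg.Agent.Lib.Helper34
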