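import Mathlib
import Cfsg.Agent.S1463

set_option autoImplicit false

namespace Cfsg.Agent.Lib.Helper34

open Polynomial in
/-- a non-nilpotent endomorphism over an algebraically closed field has a nonzero eigenvalue -/
theorem exists_nonzero_eigen {K : Type*} [Field K] [IsAlgClosed K] {V : Type*} [AddCommGroup V]
    [Module K V] [FiniteDimensional K V] (T : Module.End K V) (hT : ¬ IsNilpotent T) :
    ∃ c : K, c ≠ 0 ∧ ∃ u : V, u ≠ 0 ∧ T u = c • u := by
  rw [LinearMap.isNilpotent_iff_charpoly] at hT
  set f := T.charpoly with hf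
  have hmonic : f.Monic := LinearMap.charpoly_monic T
  have hdeg : f.natDegree = Module.finrank K V := LinearMap.charpoly_natDegree T
  have hf0 : f ≠ 0 := hmonic.ne_zero
  obtain ⟨g, hg, hgn⟩ := Polynomial.exists_eq_pow_rootMultiplicity_mul_and_not_dvd f hf0 (0 : K)
  rw [C_0, sub_zero] at hg hgn
  set k := rootMultiplicity 0 f with hk
  have hg0 : g ≠ 0 := by
    rintro rfl
    rw [mul_zero] at hg
    exact hf0 hg
  have hgdeg : g.degree ≠ 0 := by
    intro h0
    rw [Polynomial.eq_C_of_degree_eq_zero h0] at hg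
    have hlead : (g.coeff 0) = 1 := by
      have := hmonic
      rw [hg, Monic, leadingCoeff_mul, leadingCoeff_X_pow, one_mul, leadingCoeff_C] at this
      exact this
    rw [hlead, C_1, mul_one] at hg
    have hkn : k = Module.finrank K V := by
      rw [← hdeg, hg, natDegree_X_pow]
    apply hT
    rw [hg, hkn]
  obtain ⟨c, hc⟩ := IsAlgClosed.exists_root g hgdeg
  have hc0 : c ≠ 0 := by
    rintro rfl
    apply hgn
    have := (Polynomial.dvd_iff_isRoot (p := g) (a := (0:K))).mpr hc
    rwa [C_0, sub_zero] at this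
  have hroot : f.IsRoot c := by
    rw [hg, IsRoot, eval_mul, show eval c g = 0 from hc, mul_zero]
  have hev : T.HasEigenvalue c := (Module.End.hasEigenvalue_iff_isRoot_charpoly T c).mpr hroot
  obtain ⟨u, hu⟩ := hev.exists_hasEigenvector
  exact ⟨c, hc0, u, hu.2, hu.apply_eq_smul⟩

/-- In a finite subgroup of odd order of `GL(2, F)`, `char F = p` odd, any two elements with
`x ^ p = 1` commute. -/
theorem gl2_odd_comm {F : Type*} [Field F] (p : ℕ) [Fact p.Prime] [CharP F p] (hp : p ≠ 2)
    (H : Subgroup (GL (Fin 2) F)) [Finite H] (hodd : Odd (Nat.card H)) {x y : GL (Fin 2) F}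
    (hx : x ∈ H) (hy : y ∈ H) (hxp : x ^ p = 1) (hyp : y ^ p = 1) : x * y = y * x := by
  have hp0 : p ≠ 0 := (Fact.out : p.Prime).ne_zero
  have hunit : ∀ u : Fˣ, u ^ p = 1 → u = 1 := by
    intro u hu
    have hu' : (u : F) ^ p = 1 := by
      have h0 := congrArg Units.val hu
      rwa [Units.val_pow_eq_pow_val, Units.val_one] at h0
    have h1 : ((u : F) - 1) ^ p = 0 := by
      rw [sub_pow_char_of_commute p (Commute.one_right (u : F)), one_pow, hu', sub_self]
    have h2 : (u : F) - 1 = 0 := (pow_eq_zero_iff hp0).mp h1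
    exact Units.ext (sub_eq_zero.mp h2)
  set H₁ : Subgroup (GL (Fin 2) F) :=
    H ⊓ (Matrix.GeneralLinearGroup.det (n := Fin 2) (R := F)).ker with hH₁
  have : Finite H₁ := Finite.of_injective (Subgroup.inclusion (inf_le_left : H₁ ≤ H))
    (Subgroup.inclusion_injective _)
  have hodd₁ : Odd (Nat.card H₁) := Odd.of_dvd_nat hodd (Subgroup.card_dvd_of_le inf_le_left)
  have hdet₁ : ∀ x : H₁, ((H₁.subtype x : GL (Fin 2) F) : Matrix (Fin 2) (Fin 2) F).det = 1 := by
    intro x
    have h1 : (x : GL (Fin 2) F) ∈ (Matrix.GeneralLinearGroup.det (n := Fin 2) (R := F)).ker :=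
      (Subgroup.mem_inf.mp x.2).2
    rw [MonoidHom.mem_ker] at h1
    have h2 := congrArg Units.val h1
    simpa using h2
  have hcore := Cfsg.Agent.S1463.core p hp (Nat.card H₁) H₁ H₁.subtype rfl H₁.subtype_injective
    hodd₁ hdet₁
  have hmem₁ : ∀ x ∈ H, x ^ p = 1 → x ∈ H₁ := by
    intro x hx hxp
    refine Subgroup.mem_inf.mpr ⟨hx, ?_⟩
    rw [MonoidHom.mem_ker]
    apply hunit
    rw [← map_pow, hxp, map_one]
  have h1 := hcore ⟨x, hmem₁ x hx hxp⟩ ⟨y, hmem₁ y hy hyp⟩ (Subtype.ext hxp) (Subtype.ext hyp)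
  exact congrArg Subtype.val h1

/-- induction principle for a finite group generated by two elements (no inverses needed) -/
theorem closure_pair_induction {H : Type*} [Group H] [Finite H] {a b : H}
    (hab : Subgroup.closure {a, b} = ⊤) (P : H → Prop) (h1 : P 1) (ha : P a) (hb : P b)
    (hmul : ∀ x y, P x → P y → P (x * y)) : ∀ h, P h := by
  let S : Subgroup H :=
    { carrier := {h | P h}
      mul_mem' := fun hx hy => hmul _ _ hx hy
      one_mem' := h1
      inv_mem' := by
        intro x hx
        have hpow : ∀ n : ℕ, P (x ^ n) := by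
          intro n
          induction n with
          | zero => simpa using h1
          | succ n ih => rw [pow_succ]; exact hmul _ _ ih hx
        have hinv : x ^ (orderOf x - 1) = x⁻¹ :=
          eq_inv_of_mul_eq_one_left (by
            rw [← pow_succ, Nat.sub_add_cancel (orderOf_pos x), pow_orderOf_eq_one])
        show P x⁻¹
        rw [← hinv]
        exact hpow _ }
  have hle : Subgroup.closure {a, b} ≤ S := (Subgroup.closure_le S).mpr (by
    rintro x (rfl | rfl)
    · exact ha
    · exact hb)
  intro h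
  exact hle (hab ▸ Subgroup.mem_top h)

theorem quad_pow_char {K : Type*} [Field K] (p : ℕ) [CharP K p]
    {V : Type*} [AddCommGroup V] [Module K V] (f : Module.End K V)
    (hf : (f - 1) * (f - 1) = 0) : f ^ p = 1 := by
  have key : ∀ k : ℕ, f ^ k = 1 + k • (f - 1) := by
    intro k
    induction k with
    | zero => simp
    | succ k ih =>
      have h2 : (f - 1) * f = f - 1 := by
        have : (f - 1) * f = (f - 1) * (f - 1) + (f - 1) := by noncomm_ring
        rw [this, hf, zero_add]
      rw [pow_succ, ih, add_mul, one_mul, smul_mul_assoc, h2, succ_nsmul]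
      abel
  rw [key p]
  have : (p : ℕ) • (f - 1) = 0 := by
    rw [← Nat.cast_smul_eq_nsmul K p (f - 1), CharP.cast_eq_zero K p, zero_smul]
  rw [this, add_zero]

theorem quad_nilpotent {K : Type*} [Field K] [IsAlgClosed K] (p : ℕ) [Fact p.Prime] [CharP K p]
    (hp : p ≠ 2) {V : Type*} [AddCommGroup V] [Module K V] [FiniteDimensional K V]
    {H : Type*} [Group H] [Finite H] (hodd : Odd (Nat.card H)) (ρ : H →* Module.End K V) (a b : H)
    (hab : Subgroup.closure {a, b} = ⊤)
    (ha : (ρ a - 1) * (ρ a - 1) = 0) (hb : (ρ b - 1) * (ρ b - 1) = 0) :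
    IsNilpotent ((ρ b - 1) * (ρ a - 1)) := by
  by_contra hnil
  obtain ⟨c, hc0, u, hu0, hTu⟩ := exists_nonzero_eigen _ hnil
  set N := ρ a - 1 with hN
  set M := ρ b - 1 with hM
  have hNN : ∀ v, N (N v) = 0 := fun v => by
    have := congrArg (fun f : Module.End K V => f v) ha
    simpa using this
  have hMM : ∀ v, M (M v) = 0 := fun v => by
    have := congrArg (fun f : Module.End K V => f v) hb
    simpa using this
  have hTu' : M (N u) = c • u := hTu
  have hMu : M u = 0 := by
    have : c • M u = 0 := by rw [← map_smul, ← hTu', hMM]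
    exact (smul_eq_zero.mp this).resolve_left hc0
  have hNw : N (N u) = 0 := hNN u
  have hρa : ∀ v, ρ a v = v + N v := fun v => by simp [hN]
  have hρb : ∀ v, ρ b v = v + M v := fun v => by simp [hM]
  have hw0 : N u ≠ 0 := by
    intro h
    rw [h, map_zero] at hTu'
    exact hu0 ((smul_eq_zero.mp hTu'.symm).resolve_left hc0)
  have hli : LinearIndependent K ![u, N u] := by
    rw [LinearIndependent.pair_iff]
    intro s t hst
    have h1 : s • N u = 0 := by
      have := congrArg N hst
      rw [map_add, map_smul, map_smul, hNw, smul_zero, add_zero, map_zero] at this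
      exact this
    have hs : s = 0 := (smul_eq_zero.mp h1).resolve_right hw0
    rw [hs, zero_smul, zero_add] at hst
    exact ⟨hs, (smul_eq_zero.mp hst).resolve_right hw0⟩
  set U : Submodule K V := Submodule.span K (Set.range ![u, N u]) with hU
  have huU : u ∈ U := Submodule.subset_span ⟨0, rfl⟩
  have hwU : N u ∈ U := Submodule.subset_span ⟨1, rfl⟩
  have hinv : ∀ h : H, ∀ v ∈ U, ρ h v ∈ U := by
    apply closure_pair_induction hab (fun h => ∀ v ∈ U, ρ h v ∈ U)
    · intro v hv; simpa using hv
    · intro v hv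
      have hle : U.map (ρ a) ≤ U := by
        rw [hU, Submodule.map_span, Submodule.span_le]
        rintro _ ⟨_, ⟨i, rfl⟩, rfl⟩
        fin_cases i
        · show ρ a u ∈ U
          rw [hρa]; exact U.add_mem huU hwU
        · show ρ a (N u) ∈ U
          rw [hρa, hNw, add_zero]; exact hwU
      exact hle ⟨v, hv, rfl⟩
    · intro v hv
      have hle : U.map (ρ b) ≤ U := by
        rw [hU, Submodule.map_span, Submodule.span_le]
        rintro _ ⟨_, ⟨i, rfl⟩, rfl⟩
        fin_cases i
        · show ρ b u ∈ U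
          rw [hρb, hMu, add_zero]; exact huU
        · show ρ b (N u) ∈ U
          rw [hρb, hTu']; exact U.add_mem hwU (U.smul_mem c huU)
      exact hle ⟨v, hv, rfl⟩
    · intro x y hx hy v hv
      rw [map_mul]
      exact hx _ (hy v hv)
  let B : Module.Basis (Fin 2) K U := Module.Basis.span hli
  let r : H → Module.End K U := fun h => (ρ h).restrict (hinv h)
  have hr_mul : ∀ x y, r (x * y) = r x * r y := by
    intro x y
    ext v
    simp [r, map_mul]
  have hr_one : r 1 = 1 := by
    ext v
    simp [r]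
  let ψ₀ : H →* Matrix (Fin 2) (Fin 2) K :=
    { toFun := fun h => LinearMap.toMatrix B B (r h)
      map_one' := by rw [hr_one]; exact LinearMap.toMatrix_one B
      map_mul' := fun x y => by rw [hr_mul]; exact LinearMap.toMatrix_mul B (r x) (r y) }
  let ψ : H →* GL (Fin 2) K := ψ₀.toHomUnits
  have hψ_inj : ∀ x y : H, ψ x = ψ y → ∀ v ∈ U, ρ x v = ρ y v := by
    intro x y hxy v hv
    have h1 : ψ₀ x = ψ₀ y := congrArg Units.val hxy
    have h2 : r x = r y := (LinearMap.toMatrix B B).injective h1
    have h3 := congrArg (fun f : Module.End K U => (f ⟨v, hv⟩ : V)) h2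
    simpa [r] using h3
  have hpow : ∀ (x : H), (ρ x - 1) * (ρ x - 1) = 0 → ψ x ^ p = 1 := by
    intro x hx
    have h1 : ρ (x ^ p) = 1 := by
      rw [map_pow]
      exact quad_pow_char p (ρ x) hx
    rw [← map_pow]
    apply Units.ext
    show LinearMap.toMatrix B B (r (x ^ p)) = 1
    have h2 : r (x ^ p) = 1 := by
      ext v
      simp [r, h1]
    rw [h2]; exact LinearMap.toMatrix_one B
  have : Finite ψ.range := Finite.of_surjective (fun h : H => (⟨ψ h, ⟨h, rfl⟩⟩ : ψ.range))
    (by rintro ⟨_, ⟨h, rfl⟩⟩; exact ⟨h, rfl⟩)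
  have hoddR : Odd (Nat.card ψ.range) := Odd.of_dvd_nat hodd (Subgroup.card_range_dvd ψ)
  have hcomm := gl2_odd_comm p hp ψ.range hoddR ⟨a, rfl⟩ ⟨b, rfl⟩ (hpow a ha) (hpow b hb)
  rw [← map_mul, ← map_mul] at hcomm
  have h5 := hψ_inj _ _ hcomm u huU
  rw [map_mul, map_mul] at h5
  simp only [Module.End.mul_apply] at h5
  rw [hρb u, hMu, add_zero, hρa u, map_add, hρb u, hMu, add_zero, hρb (N u), hTu'] at h5
  have h6 : c • u = 0 := by
    have h7 : (u + N u) + c • u = (u + N u) + 0 := by
      rw [add_zero, add_assoc]; exact h5.symm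
    exact add_left_cancel h7
  exact hu0 ((smul_eq_zero.mp h6).resolve_left hc0)

theorem map_eq_self_pow {K : Type*} [Field K] {V : Type*} [AddCommGroup V] [Module K V]
    (X : Submodule K V) (f : Module.End K V) (h : X.map f = X) : ∀ j : ℕ, X.map (f ^ j) = X := by
  intro j
  induction j with
  | zero => simp [Module.End.one_eq_id]
  | succ j ih =>
    rw [pow_succ, Module.End.mul_eq_comp, Submodule.map_comp, h, ih]

theorem mul_pow_shift {R : Type*} [Ring R] (N M : R) : ∀ k : ℕ, (N * M) ^ (k + 1) = N * (M * N) ^ k * M := by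
  intro k
  induction k with
  | zero => simp
  | succ k ih =>
    rw [pow_succ, ih, pow_succ]
    noncomm_ring

/-- descending chain `W₀ = ⊤`, `W_{i+1} = N W_i + M W_i` -/
def quadChain {K : Type*} [Field K] {V : Type*} [AddCommGroup V] [Module K V]
    (N M : Module.End K V) : ℕ → Submodule K V
  | 0 => ⊤
  | i + 1 => (quadChain N M i).map N ⊔ (quadChain N M i).map M

theorem quad_unipotent {K : Type*} [Field K] [IsAlgClosed K] (p : ℕ) [Fact p.Prime] [CharP K p]
    (hp : p ≠ 2) {V : Type*} [AddCommGroup V] [Module K V] [FiniteDimensional K V]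
    {H : Type*} [Group H] [Finite H] (hodd : Odd (Nat.card H)) (ρ : H →* Module.End K V) (a b : H)
    (hab : Subgroup.closure {a, b} = ⊤)
    (ha : (ρ a - 1) * (ρ a - 1) = 0) (hb : (ρ b - 1) * (ρ b - 1) = 0) :
    ∀ h : H, (ρ h - 1) ^ (Module.finrank K V) = 0 := by
  obtain ⟨k, hk⟩ := quad_nilpotent p hp hodd ρ a b hab ha hb
  set N := ρ a - 1 with hN
  set M := ρ b - 1 with hM
  have hk' : (N * M) ^ (k + 1) = 0 := by rw [mul_pow_shift, hk, mul_zero, zero_mul]
  -- key lemma
  have key : ∀ W : Submodule K V, W.map N ⊔ W.map M = W → W = ⊥ := by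
    intro W hW
    have hX : (W.map M).map (M * N) = W.map M := by
      have h1 : W.map M = (W.map N ⊔ W.map M).map M := by rw [hW]
      rw [Submodule.map_sup, ← Submodule.map_comp, ← Submodule.map_comp, ← Module.End.mul_eq_comp,
        ← Module.End.mul_eq_comp, hb, Submodule.map_zero, sup_bot_eq] at h1
      -- h1 : W.map M = W.map (M * N)
      have h2 : W.map (M * N) = (W.map N ⊔ W.map M).map (M * N) := by rw [hW]
      rw [Submodule.map_sup, ← Submodule.map_comp, ← Module.End.mul_eq_comp, mul_assoc, ha, mul_zero,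
        Submodule.map_zero, bot_sup_eq] at h2
      rw [← h2, ← h1]
    have hY : (W.map N).map (N * M) = W.map N := by
      have h1 : W.map N = (W.map N ⊔ W.map M).map N := by rw [hW]
      rw [Submodule.map_sup, ← Submodule.map_comp, ← Submodule.map_comp, ← Module.End.mul_eq_comp,
        ← Module.End.mul_eq_comp, ha, Submodule.map_zero, bot_sup_eq] at h1
      have h2 : W.map (N * M) = (W.map N ⊔ W.map M).map (N * M) := by rw [hW]
      rw [Submodule.map_sup, ← Submodule.map_comp (f := M), ← Module.End.mul_eq_comp, mul_assoc, hb,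
        mul_zero, Submodule.map_zero, sup_bot_eq] at h2
      rw [← h2, ← h1]
    have hX0 : W.map M = ⊥ := by
      rw [← map_eq_self_pow _ _ hX k, hk, Submodule.map_zero]
    have hY0 : W.map N = ⊥ := by
      rw [← map_eq_self_pow _ _ hY (k + 1), hk', Submodule.map_zero]
    rw [← hW, hX0, hY0, sup_bot_eq]
  -- the chain
  set W : ℕ → Submodule K V := quadChain N M with hWdef
  have hW0 : W 0 = ⊤ := rfl
  have hWs : ∀ i, W (i + 1) = (W i).map N ⊔ (W i).map M := fun i => rfl
  have hanti : ∀ i, W (i + 1) ≤ W i := by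
    intro i
    induction i with
    | zero => rw [hW0]; exact le_top
    | succ i ih =>
      rw [hWs (i + 1), hWs i]
      exact sup_le_sup (Submodule.map_mono ih) (Submodule.map_mono ih)
  have hdim : ∀ i, Module.finrank K ↥(W i) ≤ Module.finrank K V - i := by
    intro i
    induction i with
    | zero => rw [hW0]; simp
    | succ i ih =>
      by_cases h0 : W i = ⊥
      · have : W (i + 1) = ⊥ := le_bot_iff.mp (h0 ▸ hanti i)
        rw [this]; simp
      · have hlt : W (i + 1) < W i := lt_of_le_of_ne (hanti i) (fun h => h0 (key _ ((hWs i).symm.trans h)))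
        have := Submodule.finrank_lt_finrank_of_lt hlt
        omega
  have hWn : W (Module.finrank K V) = ⊥ := by
    have := hdim (Module.finrank K V)
    rw [Nat.sub_self, Nat.le_zero] at this
    exact Submodule.finrank_eq_zero.mp this
  have hstep : ∀ h : H, ∀ i, ∀ v ∈ W i, ρ h v - v ∈ W (i + 1) := by
    apply closure_pair_induction hab (fun h => ∀ i, ∀ v ∈ W i, ρ h v - v ∈ W (i + 1))
    · intro i v _; simp
    · intro i v hv
      have : ρ a v - v = N v := by simp [hN]
      rw [this, hWs]
      exact Submodule.mem_sup_left (Submodule.mem_map_of_mem hv)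
    · intro i v hv
      have : ρ b v - v = M v := by simp [hM]
      rw [this, hWs]
      exact Submodule.mem_sup_right (Submodule.mem_map_of_mem hv)
    · intro x y hx hy i v hv
      have hz := hy i v hv
      have hz' : ρ y v - v ∈ W i := hanti i hz
      have h1 := hx i _ hz'
      have h2 := hx i v hv
      have e : ρ (x * y) v - v = (ρ x (ρ y v - v) - (ρ y v - v)) + (ρ y v - v) + (ρ x v - v) := by
        rw [map_mul, Module.End.mul_apply, map_sub]; abel
      rw [e]
      exact (W (i + 1)).add_mem ((W (i + 1)).add_mem h1 hz) h2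
  intro h
  have hpow : ∀ i, ∀ v, ((ρ h - 1) ^ i) v ∈ W i := by
    intro i
    induction i with
    | zero => intro v; rw [hW0]; trivial
    | succ i ih =>
      intro v
      rw [pow_succ', Module.End.mul_apply]
      have := hstep h i _ (ih v)
      simpa using this
  ext v
  have := hpow (Module.finrank K V) v
  rw [hWn, Submodule.mem_bot] at this
  simpa using this

/-- quadratic pair lemma over an arbitrary field of odd characteristic `p`: a finite group of odd
order generated by two elements acting quadratically acts unipotently. -/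
theorem quad_unipotent_field {F : Type*} [Field F] (p : ℕ) [Fact p.Prime] [CharP F p] (hp : p ≠ 2)
    {V : Type*} [AddCommGroup V] [Module F V] [FiniteDimensional F V]
    {H : Type*} [Group H] [Finite H] (hodd : Odd (Nat.card H)) (ρ : H →* Module.End F V) (a b : H)
    (hab : Subgroup.closure {a, b} = ⊤)
    (ha : (ρ a - 1) * (ρ a - 1) = 0) (hb : (ρ b - 1) * (ρ b - 1) = 0) :
    ∀ h : H, (ρ h - 1) ^ (Module.finrank F V) = 0 := by
  classical
  set n := Module.finrank F V with hn
  let B : Module.Basis (Fin n) F V := Module.finBasis F V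
  let K := AlgebraicClosure F
  have : CharP K p := charP_of_injective_algebraMap (algebraMap F K).injective p
  let Φ : Module.End F V →+* Module.End K (Fin n → K) :=
    ((Matrix.toLinAlgEquiv' : Matrix (Fin n) (Fin n) K ≃ₐ[K] _).toRingEquiv.toRingHom).comp
      (((algebraMap F K).mapMatrix).comp (LinearMap.toMatrixAlgEquiv B).toRingEquiv.toRingHom)
  have hΦ : ∀ x, Φ x =
      Matrix.toLinAlgEquiv' ((LinearMap.toMatrixAlgEquiv B x).map (algebraMap F K)) := fun x => rfl
  have hΦinj : Function.Injective Φ := by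
    intro x y hxy
    rw [hΦ, hΦ] at hxy
    have h1 := (Matrix.toLinAlgEquiv' : Matrix (Fin n) (Fin n) K ≃ₐ[K] _).injective hxy
    have h2 := Matrix.map_injective (algebraMap F K).injective h1
    exact (LinearMap.toMatrixAlgEquiv B).injective h2
  let ρ' : H →* Module.End K (Fin n → K) := Φ.toMonoidHom.comp ρ
  have ha' : (ρ' a - 1) * (ρ' a - 1) = 0 := by
    show (Φ (ρ a) - 1) * (Φ (ρ a) - 1) = 0
    rw [← map_one Φ, ← map_sub, ← map_mul, ha, map_zero]
  have hb' : (ρ' b - 1) * (ρ' b - 1) = 0 := by
    show (Φ (ρ b) - 1) * (Φ (ρ b) - 1) = 0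
    rw [← map_one Φ, ← map_sub, ← map_mul, hb, map_zero]
  intro h
  have h1 := quad_unipotent p hp hodd ρ' a b hab ha' hb' h
  rw [Module.finrank_fin_fun] at h1
  apply hΦinj
  rw [map_pow, map_sub, map_one, map_zero]
  exact h1

/-- quadratic pair lemma, action form: a finite group `H = ⟨a, b⟩` of odd order acting on a finite
elementary abelian `p`-group `V` (`p` odd) with `a, b` quadratic: every element of `H` has a
`p`-power acting trivially. -/
theorem quad_action {H : Type*} [Group H] [Finite H] {V : Type*} [CommGroup V] [Finite V]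
    [MulDistribMulAction H V] (p : ℕ) [Fact p.Prime] (hp : p ≠ 2) (hVp : ∀ v : V, v ^ p = 1)
    (hodd : Odd (Nat.card H)) (a b : H) (hab : Subgroup.closure {a, b} = ⊤)
    (ha : ∀ v : V, a • (a • v * v⁻¹) = a • v * v⁻¹)
    (hb : ∀ v : V, b • (b • v * v⁻¹) = b • v * v⁻¹) :
    ∀ h : H, ∃ k : ℕ, ∀ v : V, h ^ (p ^ k) • v = v := by
  classical
  have hVp' : ∀ x : Additive V, p • x = 0 := by
    intro x
    have h0 : x = Additive.ofMul (Additive.toMul x) := rfl
    rw [h0, ← ofMul_pow, hVp]; rfl
  let _ : Module (ZMod p) (Additive V) := AddCommGroup.zmodModule (n := p) hVp'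
  let L₀ : H → (Additive V →+ Additive V) :=
    fun g => MonoidHom.toAdditive (MulDistribMulAction.toMonoidHom V g)
  have hL₀ : ∀ (g : H) (w : V), L₀ g (Additive.ofMul w) = Additive.ofMul (g • w) :=
    fun g w => rfl
  let ρ : H →* Module.End (ZMod p) (Additive V) :=
    { toFun := fun g => AddMonoidHom.toZModLinearMap p (L₀ g)
      map_one' := by
        apply LinearMap.ext
        intro x
        rw [Module.End.one_apply, AddMonoidHom.coe_toZModLinearMap]
        have h0 : x = Additive.ofMul (Additive.toMul x) := rfl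
        rw [h0, hL₀, one_smul]
      map_mul' := by
        intro g h
        apply LinearMap.ext
        intro x
        rw [Module.End.mul_apply, AddMonoidHom.coe_toZModLinearMap, AddMonoidHom.coe_toZModLinearMap,
          AddMonoidHom.coe_toZModLinearMap]
        have h0 : x = Additive.ofMul (Additive.toMul x) := rfl
        rw [h0, hL₀, hL₀, hL₀, mul_smul] }
  have hρ : ∀ (g : H) (w : V), ρ g (Additive.ofMul w) = Additive.ofMul (g • w) :=
    fun g w => rfl
  have key : ∀ (g : H), (∀ v : V, g • (g • v * v⁻¹) = g • v * v⁻¹) →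
      (ρ g - 1) * (ρ g - 1) = 0 := by
    intro g hg
    apply LinearMap.ext
    intro x
    have e1 : ∀ w : V, (ρ g - 1) (Additive.ofMul w) = Additive.ofMul (g • w * w⁻¹) := fun w => by
      rw [LinearMap.sub_apply, hρ, Module.End.one_apply, ← ofMul_div, div_eq_mul_inv]
    have hx : x = Additive.ofMul (Additive.toMul x) := rfl
    rw [hx, Module.End.mul_apply, e1, e1, hg, mul_inv_cancel]; rfl
  have hu := quad_unipotent_field p hp hodd ρ a b hab (key a ha) (key b hb)
  intro h
  have h1 := hu h
  set n := Module.finrank (ZMod p) (Additive V) with hn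
  refine ⟨n, ?_⟩
  have h2 : ρ (h ^ (p ^ n)) = 1 := by
    rw [map_pow]
    by_cases hnt : Nontrivial (Module.End (ZMod p) (Additive V))
    · have : CharP (Module.End (ZMod p) (Additive V)) p :=
        (CharP.charP_iff_prime_eq_zero Fact.out).mpr (by
          apply LinearMap.ext
          intro x
          rw [Module.End.natCast_apply, hVp' x, LinearMap.zero_apply])
      have h3 : (ρ h - 1) ^ (p ^ n) = 0 := by
        have hle : n ≤ p ^ n := (Nat.lt_pow_self (Fact.out : p.Prime).one_lt).le
        obtain ⟨d, hd⟩ := Nat.exists_eq_add_of_le hle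
        rw [hd, pow_add, h1, zero_mul]
      rw [sub_pow_char_pow_of_commute p n (Commute.one_right _), one_pow] at h3
      exact sub_eq_zero.mp h3
    · rw [not_nontrivial_iff_subsingleton] at hnt
      exact Subsingleton.elim _ _
  intro v
  have h3 := congrArg (fun f : Module.End (ZMod p) (Additive V) => f (Additive.ofMul v)) h2
  simp only [Module.End.one_apply] at h3
  rw [hρ] at h3
  exact Additive.ofMul.injective h3

open scoped IsMulCommutative in
/-- quadratic pair lemma, group form: `V` a normal elementary abelian `p`-subgroup (`p` odd),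
`a, b` acting quadratically on `V` with `⟨a, b⟩` of odd order: every element of `⟨a, b⟩` has a
`p`-power centralizing `V`. -/
theorem quad_group {G : Type*} [Group G] [Finite G] (p : ℕ) [Fact p.Prime] (hp : p ≠ 2)
    (V : Subgroup G) [V.Normal] (hVc : ∀ x ∈ V, ∀ y ∈ V, x * y = y * x) (hVp : ∀ x ∈ V, x ^ p = 1)
    (a b : G) (hodd : Odd (Nat.card (Subgroup.closure {a, b})))
    (ha : ∀ v ∈ V, a * (a * v * a⁻¹ * v⁻¹) = (a * v * a⁻¹ * v⁻¹) * a)
    (hb : ∀ v ∈ V, b * (b * v * b⁻¹ * v⁻¹) = (b * v * b⁻¹ * v⁻¹) * b) :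
    ∀ h ∈ Subgroup.closure {a, b}, ∃ k : ℕ, ∀ v ∈ V, h ^ (p ^ k) * v = v * h ^ (p ^ k) := by
  classical
  have hcomm : ∀ x y : V, x * y = y * x := fun x y => Subtype.ext (hVc x x.2 y y.2)
  have : IsMulCommutative V := ⟨⟨hcomm⟩⟩
  set H := Subgroup.closure {a, b} with hH
  let _ : MulDistribMulAction H V :=
    MulDistribMulAction.compHom V ((MulAut.conjNormal (H := V)).comp H.subtype)
  have hsmul : ∀ (g : H) (v : V), ((g • v : V) : G) = g * v * g⁻¹ := fun g v => rfl
  let a' : H := ⟨a, Subgroup.subset_closure (by simp)⟩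
  let b' : H := ⟨b, Subgroup.subset_closure (by simp)⟩
  have hab : Subgroup.closure {a', b'} = ⊤ := by
    have h0 := Subgroup.closure_closure_coe_preimage (k := ({a, b} : Set G))
    have h1 : ((↑) : H → G) ⁻¹' ({a, b} : Set G) = {a', b'} := by
      ext x
      simp only [Set.mem_preimage, Set.mem_insert_iff, Set.mem_singleton_iff, a', b']
      constructor
      · rintro (h | h)
        · left; exact Subtype.ext h
        · right; exact Subtype.ext h
      · rintro (h | h)
        · left; rw [h]
        · right; rw [h]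
    rw [← h1]; exact h0
  have key : ∀ (g : H), (∀ v ∈ V, (g : G) * (g * v * (g : G)⁻¹ * v⁻¹) = (g * v * (g : G)⁻¹ * v⁻¹) * g) →
      ∀ v : V, g • (g • v * v⁻¹) = g • v * v⁻¹ := by
    intro g hg v
    apply Subtype.ext
    simp only [hsmul, Subgroup.coe_mul, Subgroup.coe_inv]
    rw [hg v v.2]
    group
  have hmain := quad_action (H := H) (V := V) p hp (fun v => Subtype.ext (hVp v v.2)) hodd a' b' hab
    (key a' ha) (key b' hb)
  intro h hh
  obtain ⟨k, hk⟩ := hmain ⟨h, hh⟩
  refine ⟨k, fun v hv => ?_⟩
  have h1 := congrArg Subtype.val (hk ⟨v, hv⟩)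
  rw [hsmul] at h1
  have h2 : h ^ p ^ k * v * (h ^ p ^ k)⁻¹ = v := h1
  calc h ^ (p ^ k) * v = (h ^ (p ^ k) * v * (h ^ (p ^ k))⁻¹) * h ^ (p ^ k) := by group
    _ = v * h ^ (p ^ k) := by rw [h2]

end Cfsg.Agent.Lib.Helper34
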