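import Mathlib
import Cfsg.Agent.Lib.Helper34.Quad
import Cfsg.Agent.Lib.Helper34.Nilp
import Cfsg.Agent.Lib.Helper30.Cores

set_option autoImplicit false

namespace Cfsg.Agent.Lib.Helper34

universe u

/-- `Ω₁(Z(P))` as a subgroup of the ambient group. -/
def omegaCenter {G : Type*} [Group G] (p : ℕ) (P : Subgroup G) : Subgroup G where
  carrier := {z | z ∈ P ∧ (∀ x ∈ P, z * x = x * z) ∧ z ^ p = 1}
  mul_mem' := by
    rintro z₁ z₂ ⟨h1, h2, h3⟩ ⟨h1', h2', h3'⟩
    refine ⟨P.mul_mem h1 h1', ?_, ?_⟩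
    · intro x hx
      rw [mul_assoc, h2' x hx, ← mul_assoc, h2 x hx, mul_assoc]
    · have hc : Commute z₁ z₂ := h2 z₂ h1'
      rw [hc.mul_pow, h3, h3', one_mul]
  one_mem' := ⟨P.one_mem, fun x _ => by rw [one_mul, mul_one], one_pow p⟩
  inv_mem' := by
    rintro z ⟨h1, h2, h3⟩
    refine ⟨P.inv_mem h1, ?_, by rw [inv_pow, h3, inv_one]⟩
    intro x hx
    have hc : Commute z x := h2 x hx
    exact hc.inv_left.eq

theorem omegaCenter_le {G : Type*} [Group G] (p : ℕ) (P : Subgroup G) : omegaCenter p P ≤ P :=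
  fun _ hz => hz.1

theorem omegaCenter_normal {G : Type*} [Group G] (p : ℕ) (P : Subgroup G) [hP : P.Normal] :
    (omegaCenter p P).Normal := by
  constructor
  rintro z ⟨h1, h2, h3⟩ g
  refine ⟨hP.conj_mem z h1 g, ?_, by rw [conj_pow, h3, mul_one, mul_inv_cancel]⟩
  intro x hx
  have hx' : g⁻¹ * x * g ∈ P := by
    have := hP.conj_mem x hx g⁻¹
    simpa using this
  have e := h2 _ hx'
  calc g * z * g⁻¹ * x = g * (z * (g⁻¹ * x * g)) * g⁻¹ := by group
    _ = g * ((g⁻¹ * x * g) * z) * g⁻¹ := by rw [e]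
    _ = x * (g * z * g⁻¹) := by group

theorem omegaCenter_ne_bot {G : Type*} [Group G] [Finite G] (p : ℕ) [Fact p.Prime] (P : Subgroup G)
    (hP : IsPGroup p P) (hP1 : P ≠ ⊥) : omegaCenter p P ≠ ⊥ := by
  have : Group.IsNilpotent P := hP.isNilpotent
  have hd : p ∣ Nat.card P := by
    obtain ⟨k, hk⟩ := IsPGroup.iff_card.mp hP
    have hk0 : k ≠ 0 := by
      rintro rfl
      rw [pow_zero] at hk
      exact hP1 (Subgroup.card_eq_one.mp hk)
    rw [hk]; exact dvd_pow_self p hk0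
  obtain ⟨z, hz, hzo⟩ := exists_center_orderOf_eq_prime (N := P) p hd
  intro hbot
  have hzV : (z : G) ∈ omegaCenter p P := by
    refine ⟨z.2, ?_, ?_⟩
    · intro x hx
      have := Subgroup.mem_center_iff.mp hz ⟨x, hx⟩
      exact (congrArg Subtype.val this).symm
    · have : z ^ p = 1 := by rw [← hzo]; exact pow_orderOf_eq_one z
      exact congrArg Subtype.val this
  rw [hbot, Subgroup.mem_bot] at hzV
  have hz1 : z = 1 := Subtype.ext hzV
  rw [hz1, orderOf_one] at hzo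
  exact (Fact.out : p.Prime).one_lt.ne hzo

/-- quadratic pair lemma for a normal `p`-subgroup `P` (`p` odd): if `a, b` act quadratically on
`P` and `⟨a, b⟩` has odd order, then every `p'`-element of `⟨a, b⟩` centralizes `P`. -/
theorem quad_pgroup_aux (p : ℕ) [Fact p.Prime] (hp : p ≠ 2) :
    ∀ (n : ℕ) (G : Type u) [Group G] [Finite G] (P : Subgroup G) [P.Normal], IsPGroup p P →
      Nat.card P = n → ∀ a b : G, Odd (Nat.card (Subgroup.closure {a, b})) →
      (∀ x ∈ P, a * (a * x * a⁻¹ * x⁻¹) = (a * x * a⁻¹ * x⁻¹) * a) →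
      (∀ x ∈ P, b * (b * x * b⁻¹ * x⁻¹) = (b * x * b⁻¹ * x⁻¹) * b) →
      ∀ h ∈ Subgroup.closure {a, b}, (orderOf h).Coprime p → ∀ x ∈ P, h * x = x * h := by
  intro n
  induction n using Nat.strong_induction_on with
  | _ n ih =>
  intro G _ _ P _ hP hn a b hodd ha hb h hh hcop x hx
  by_cases hP1 : P = ⊥
  · rw [hP1, Subgroup.mem_bot] at hx
    rw [hx, mul_one, one_mul]
  set V := omegaCenter p P with hV
  have hVn : V.Normal := omegaCenter_normal p P
  have hVP : V ≤ P := omegaCenter_le p P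
  have hV1 : V ≠ ⊥ := omegaCenter_ne_bot p P hP hP1
  have hVc : ∀ x ∈ V, ∀ y ∈ V, x * y = y * x := fun x hx y hy => hx.2.1 y (hVP hy)
  have hVp : ∀ x ∈ V, x ^ p = 1 := fun x hx => hx.2.2
  -- h centralizes V
  obtain ⟨k, hk⟩ := quad_group p hp V hVc hVp a b hodd (fun v hv => ha v (hVP hv))
    (fun v hv => hb v (hVP hv)) h hh
  have hhV : ∀ v ∈ V, h * v = v * h := by
    intro v hv
    obtain ⟨m, hm⟩ := exists_pow_eq_self_of_coprime (x := h) (n := p ^ k)
      (Nat.Coprime.pow_left k hcop.symm)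
    have hc : Commute (h ^ p ^ k) v := hk v hv
    rw [← hm]
    exact (hc.pow_left m).eq
  -- the quotient
  let π := QuotientGroup.mk' V
  have hπ : Function.Surjective π := QuotientGroup.mk'_surjective V
  have hPn : (P.map π).Normal := Subgroup.Normal.map inferInstance π hπ
  have hPp : IsPGroup p (P.map π) := hP.map π
  have hcard : Nat.card P = Nat.card V * Nat.card (P.map π) := by
    have h1 := Cfsg.Agent.Lib.Helper30.card_comap_mk' V (P.map π)
    rw [Subgroup.comap_map_eq, QuotientGroup.ker_mk', sup_of_le_left hVP] at h1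
    exact h1
  have hlt : Nat.card (P.map π) < n := by
    have h1 : 1 < Nat.card V := (V.one_lt_card_iff_ne_bot).mpr hV1
    have h2 : 0 < Nat.card (P.map π) := Nat.card_pos
    rw [← hn, hcard]
    nlinarith
  have hcl : Subgroup.closure {π a, π b} = (Subgroup.closure {a, b}).map π := by
    rw [MonoidHom.map_closure, Set.image_pair]
  have hodd' : Odd (Nat.card (Subgroup.closure {π a, π b})) := by
    rw [hcl]
    exact Odd.of_dvd_nat hodd (Subgroup.card_map_dvd _ π)
  have hqa : ∀ x ∈ P.map π, π a * (π a * x * (π a)⁻¹ * x⁻¹) = (π a * x * (π a)⁻¹ * x⁻¹) * π a := by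
    rintro _ ⟨x, hx, rfl⟩
    simp only [← map_mul, ← map_inv]
    rw [ha x hx]
  have hqb : ∀ x ∈ P.map π, π b * (π b * x * (π b)⁻¹ * x⁻¹) = (π b * x * (π b)⁻¹ * x⁻¹) * π b := by
    rintro _ ⟨x, hx, rfl⟩
    simp only [← map_mul, ← map_inv]
    rw [hb x hx]
  have hh' : π h ∈ Subgroup.closure {π a, π b} := by
    rw [hcl]; exact Subgroup.mem_map_of_mem π hh
  have hcop' : (orderOf (π h)).Coprime p := Nat.Coprime.coprime_dvd_left (orderOf_map_dvd π h) hcop
  have key := ih (Nat.card (P.map π)) hlt (G ⧸ V) (P.map π) hPp rfl (π a) (π b) hodd' hqa hqb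
    (π h) hh' hcop' (π x) (Subgroup.mem_map_of_mem π hx)
  -- c = h x h⁻¹ x⁻¹ ∈ V
  set c := h * x * h⁻¹ * x⁻¹ with hc
  have hcV : c ∈ V := by
    rw [← QuotientGroup.eq_one_iff (N := V)]
    show π c = 1
    rw [hc, map_mul, map_mul, map_mul, key, map_inv, map_inv]
    group
  have hcomm : Commute h c := hhV c hcV
  have hconj : ∀ j : ℕ, h ^ j * x * (h ^ j)⁻¹ = c ^ j * x := by
    intro j
    induction j with
    | zero => simp
    | succ j ihj =>
      have e : h ^ (j + 1) * x * (h ^ (j + 1))⁻¹ = h * (h ^ j * x * (h ^ j)⁻¹) * h⁻¹ := by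
        rw [pow_succ']; group
      rw [e, ihj]
      have e2 : h * (c ^ j * x) * h⁻¹ = (h * c ^ j) * (x * h⁻¹) := by group
      rw [e2, (hcomm.pow_right j).eq, pow_succ]
      rw [hc]; group
  have hcm : c ^ orderOf h = 1 := by
    have := hconj (orderOf h)
    rw [pow_orderOf_eq_one, one_mul, inv_one, mul_one] at this
    exact mul_right_cancel (a := c ^ orderOf h) (b := x) (c := 1) (by rw [one_mul]; exact this.symm)
  have hcp : c ^ p = 1 := hVp c hcV
  have hc1 : c = 1 := by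
    have d1 : orderOf c ∣ orderOf h := orderOf_dvd_of_pow_eq_one hcm
    have d2 : orderOf c ∣ p := orderOf_dvd_of_pow_eq_one hcp
    exact orderOf_eq_one_iff.mp (Nat.eq_one_of_dvd_coprimes hcop d1 d2)
  have : h * x * h⁻¹ * x⁻¹ = 1 := hc1
  calc h * x = (h * x * h⁻¹ * x⁻¹) * (x * h) := by group
    _ = x * h := by rw [this, one_mul]

/-- quadratic pair lemma for a normal `p`-subgroup `P`: every element of `⟨a, b⟩` has a `p`-power
centralizing `P`. -/
theorem quad_pgroup {G : Type u} [Group G] [Finite G] (p : ℕ) [Fact p.Prime] (hp : p ≠ 2)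
    (P : Subgroup G) [P.Normal] (hP : IsPGroup p P) (a b : G)
    (hodd : Odd (Nat.card (Subgroup.closure {a, b})))
    (ha : ∀ x ∈ P, a * (a * x * a⁻¹ * x⁻¹) = (a * x * a⁻¹ * x⁻¹) * a)
    (hb : ∀ x ∈ P, b * (b * x * b⁻¹ * x⁻¹) = (b * x * b⁻¹ * x⁻¹) * b) :
    ∀ h ∈ Subgroup.closure {a, b}, ∃ k : ℕ, ∀ x ∈ P, h ^ (p ^ k) * x = x * h ^ (p ^ k) := by
  intro h hh
  refine ⟨(orderOf h).factorization p, ?_⟩
  have hpp : p.Prime := Fact.out
  have ho : orderOf h ≠ 0 := (orderOf_pos h).ne'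
  have hcop : (orderOf (h ^ p ^ (orderOf h).factorization p)).Coprime p := by
    rw [orderOf_pow, Nat.gcd_eq_right (Nat.ordProj_dvd _ _)]
    exact (Nat.coprime_ordCompl hpp ho).symm
  exact quad_pgroup_aux p hp (Nat.card P) G P hP rfl a b hodd ha hb _
    (Subgroup.pow_mem _ hh _) hcop

end Cfsg.Agent.Lib.Helper34
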