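import Mathlib
import Cfsg.Agent.S0199
import Cfsg.Agent.Lib.Helper34.Quad2
import Cfsg.Agent.Lib.Helper30.PType

set_option autoImplicit false

namespace Cfsg.Agent.Lib.Helper34

open Cfsg

universe u

theorem isPGroup_zpowers_of_pow {G : Type*} [Group G] {p : ℕ} {x : G} {k : ℕ}
    (h : x ^ (p ^ k) = 1) : IsPGroup p (Subgroup.zpowers x) := by
  rintro ⟨y, hy⟩
  obtain ⟨i, rfl⟩ := Subgroup.mem_zpowers_iff.mp hy
  refine ⟨k, Subtype.ext ?_⟩
  show (x ^ i) ^ (p ^ k) = 1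
  rw [← zpow_natCast, ← zpow_mul, mul_comm, zpow_mul, zpow_natCast, h, one_zpow]

/-- conjugates of quadratic elements by the normalizer are quadratic -/
theorem quad_conj' {G : Type*} [Group G] (P : Subgroup G) (a n : G)
    (ha : ∀ x ∈ P, a * (a * x * a⁻¹ * x⁻¹) = (a * x * a⁻¹ * x⁻¹) * a)
    (hn : n ∈ Subgroup.normalizer (P : Set G)) :
    ∀ x ∈ P, (n * a * n⁻¹) * ((n * a * n⁻¹) * x * (n * a * n⁻¹)⁻¹ * x⁻¹) =
      ((n * a * n⁻¹) * x * (n * a * n⁻¹)⁻¹ * x⁻¹) * (n * a * n⁻¹) := by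
  intro x hx
  have hx' : n⁻¹ * x * n ∈ P := by
    rw [Subgroup.mem_normalizer_iff] at hn
    rw [hn (n⁻¹ * x * n)]
    have : n * (n⁻¹ * x * n) * n⁻¹ = x := by group
    rwa [this]
  have h := ha _ hx'
  calc (n * a * n⁻¹) * ((n * a * n⁻¹) * x * (n * a * n⁻¹)⁻¹ * x⁻¹)
      = n * (a * (a * (n⁻¹ * x * n) * a⁻¹ * (n⁻¹ * x * n)⁻¹)) * n⁻¹ := by group
    _ = n * ((a * (n⁻¹ * x * n) * a⁻¹ * (n⁻¹ * x * n)⁻¹) * a) * n⁻¹ := by rw [h]
    _ = ((n * a * n⁻¹) * x * (n * a * n⁻¹)⁻¹ * x⁻¹) * (n * a * n⁻¹) := by group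

/-- `p`-stability for odd order: in a finite group of odd order, a `p`-element `b` (`p` odd)
acting quadratically on a normal `p`-subgroup `P` has image in `O_p(G / C_G(P))`. -/
theorem quad_mem_pCore {G : Type u} [Group G] [Finite G] (hodd : Odd (Nat.card G)) (p : ℕ)
    [Fact p.Prime] (hp : p ≠ 2) (P : Subgroup G) [P.Normal] (hP : IsPGroup p P) (b : G) (k₀ : ℕ)
    (hbk : b ^ (p ^ k₀) = 1)
    (hb : ∀ x ∈ P, b * (b * x * b⁻¹ * x⁻¹) = (b * x * b⁻¹ * x⁻¹) * b) :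
    QuotientGroup.mk' (Subgroup.centralizer (P : Set G)) b ∈
      pCore p (G ⧸ Subgroup.centralizer (P : Set G)) := by
  set C := Subgroup.centralizer (P : Set G) with hC
  set π := QuotientGroup.mk' C with hπ
  have hπs : Function.Surjective π := QuotientGroup.mk'_surjective C
  have hnorm : ∀ n : G, n ∈ Subgroup.normalizer (P : Set G) := by
    intro n
    rw [Subgroup.normalizer_eq_top_iff.mpr inferInstance]
    trivial
  have key : ∀ n : G, ∀ h ∈ Subgroup.closure {b, n * b * n⁻¹}, ∃ k : ℕ, (π h) ^ (p ^ k) = 1 := by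
    intro n h hh
    have hodd' : Odd (Nat.card (Subgroup.closure {b, n * b * n⁻¹})) :=
      Odd.of_dvd_nat hodd (Subgroup.card_subgroup_dvd_card _)
    obtain ⟨k, hk⟩ := quad_pgroup p hp P hP b (n * b * n⁻¹) hodd' hb
      (quad_conj' P b n hb (hnorm n)) h hh
    refine ⟨k, ?_⟩
    rw [← map_pow]
    apply (QuotientGroup.eq_one_iff _).mpr
    rw [hC, Subgroup.mem_centralizer_iff]
    intro x hx
    exact (hk x hx).symm
  have hX : IsPGroup p (Subgroup.zpowers (π b)) :=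
    isPGroup_zpowers_of_pow (k := k₀) (by rw [← map_pow, hbk, map_one])
  have hBS : ∀ g : G ⧸ C, IsPGroup p ↥(Subgroup.zpowers (π b) ⊔
      (Subgroup.zpowers (π b)).map (MulAut.conj g).toMonoidHom) := by
    intro g
    obtain ⟨n, rfl⟩ := hπs g
    have e1 : (Subgroup.zpowers (π b)).map (MulAut.conj (π n)).toMonoidHom =
        Subgroup.zpowers (π (n * b * n⁻¹)) := by
      rw [MonoidHom.map_zpowers]
      congr 1
    have e2 : Subgroup.zpowers (π b) ⊔ Subgroup.zpowers (π (n * b * n⁻¹)) =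
        (Subgroup.closure {b, n * b * n⁻¹}).map π := by
      rw [MonoidHom.map_closure, Set.image_pair, Subgroup.zpowers_eq_closure,
        Subgroup.zpowers_eq_closure, ← Subgroup.closure_union, Set.singleton_union]
    rw [e1, e2]
    rintro ⟨_, ⟨h, hh, rfl⟩⟩
    obtain ⟨k, hk⟩ := key n h hh
    exact ⟨k, Subtype.ext hk⟩
  obtain ⟨Nn, hNn, hNp, hXN⟩ := Cfsg.Agent.S0199.result (Subgroup.zpowers (π b)) hX hBS
  exact le_sSup (show Nn ∈ {M : Subgroup (G ⧸ C) | M.Normal ∧ IsPGroup p M} from ⟨hNn, hNp⟩)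
    (hXN (Subgroup.mem_zpowers _))

/-- In a finite solvable group `H` with `O_{p'}(H) = 1`, `C_H(O_p(H)) ≤ O_p(H)`. -/
theorem solv_centralizer_pCore_le {H : Type u} [Group H] [Finite H] [Group.IsSolvable H] (p : ℕ)
    [Fact p.Prime] (h : pPrimeCore p H = ⊥) :
    Subgroup.centralizer (pCore p H : Set H) ≤ pCore p H := by
  have hl : layer H = ⊥ := by
    rw [Cfsg.Agent.Lib.Helper30.layer_eq_bot_iff]
    intro K hK
    exact Cfsg.Agent.Lib.Helper30.comp_not_solvable hK inferInstance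
  exact (Cfsg.Agent.Lib.Helper30.genFitting_eq_pCore_iff_centralizer p).mp
    ((Cfsg.Agent.Lib.Helper30.genFitting_eq_pCore_iff_cores p).mpr ⟨h, hl⟩)

/-- if `C` is a normal `p`-subgroup, the preimage of `O_p(G / C)` lies in `O_p(G)`. -/
theorem comap_pCore_le {G : Type u} [Group G] [Finite G] (p : ℕ) [Fact p.Prime] (C : Subgroup G)
    [C.Normal] (hC : IsPGroup p C) :
    (pCore p (G ⧸ C)).comap (QuotientGroup.mk' C) ≤ pCore p G := by
  have hn : (pCore p (G ⧸ C)).Normal := Cfsg.Agent.Lib.Helper30.pCore_normal p _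
  apply le_sSup
  refine ⟨hn.comap _, ?_⟩
  obtain ⟨i, hi⟩ := IsPGroup.iff_card.mp hC
  obtain ⟨j, hj⟩ := IsPGroup.iff_card.mp (Cfsg.Agent.Lib.Helper30.pCore_isPGroup (G := G ⧸ C) p)
  apply IsPGroup.of_card (n := i + j)
  rw [Cfsg.Agent.Lib.Helper30.card_comap_mk', hi, hj, pow_add]

/-- a Sylow `p`-subgroup `S ≤ M` covers `M / K` when `M / K` is a `p`-group -/
theorem le_sup_sylow_of_relIndex {G : Type*} [Group G] [Finite G] (p : ℕ) [Fact p.Prime]
    (K M : Subgroup G) (S : Sylow p G) (hSM : (S : Subgroup G) ≤ M) (j : ℕ)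
    (hj : K.relIndex M = p ^ j) : M ≤ K ⊔ (S : Subgroup G) := by
  rw [← Subgroup.relIndex_eq_one]
  have d1 : (K ⊔ (S : Subgroup G)).relIndex M ∣ (S : Subgroup G).relIndex M :=
    Subgroup.relIndex_dvd_of_le_left M le_sup_right
  have d2 : (K ⊔ (S : Subgroup G)).relIndex M ∣ K.relIndex M :=
    Subgroup.relIndex_dvd_of_le_left M le_sup_left
  have c1 : ¬ p ∣ (S : Subgroup G).relIndex M := by
    intro h
    apply S.not_dvd_index
    rw [← Subgroup.relIndex_mul_index hSM]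
    exact dvd_mul_of_dvd_left h _
  rw [hj] at d2
  obtain ⟨i, hi, hi2⟩ := (Nat.dvd_prime_pow Fact.out).mp d2
  rw [hi2] at d1 ⊢
  rcases Nat.eq_zero_or_pos i with h0 | h0
  · rw [h0, pow_zero]
  · exfalso; exact c1 (dvd_trans (dvd_pow_self p h0.ne') d1)

end Cfsg.Agent.Lib.Helper34
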