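import Mathlib
import Cfsg.Agent.Lib.Helper34.Mat2

set_option autoImplicit false

namespace Cfsg.Agent.Lib.Helper34

universe u

variable {K : Type*} [Field K]

/-- every 2×2 matrix over an algebraically closed field has an eigenvector -/
theorem mat2_exists_eigen [IsAlgClosed K] (M : Matrix (Fin 2) (Fin 2) K) :
    ∃ v : Fin 2 → K, v ≠ 0 ∧ ∃ c : K, M.mulVec v = c • v := by
  obtain ⟨c, hc⟩ := Module.End.exists_eigenvalue (Matrix.toLin' M)
  obtain ⟨v, hv⟩ := hc.exists_hasEigenvector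
  refine ⟨v, hv.2, c, ?_⟩
  have h1 := Module.End.mem_eigenspace_iff.mp hv.1
  rw [Matrix.toLin'_apply] at h1
  exact h1

theorem mat2_sub_smul_mulVec (M : Matrix (Fin 2) (Fin 2) K) (c : K) (v : Fin 2 → K) :
    (M - c • (1 : Matrix (Fin 2) (Fin 2) K)).mulVec v = M.mulVec v - c • v := by
  rw [Matrix.sub_mulVec, Matrix.smul_mulVec, Matrix.one_mulVec]

theorem mat2_eigen_det (M : Matrix (Fin 2) (Fin 2) K) (v : Fin 2 → K) (hv : v ≠ 0) (c : K)
    (h : M.mulVec v = c • v) : (M 0 0 - c) * (M 1 1 - c) - M 0 1 * M 1 0 = 0 := by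
  have h1 : (M - c • (1 : Matrix (Fin 2) (Fin 2) K)).det = 0 := by
    apply Matrix.exists_mulVec_eq_zero_iff.mp
    exact ⟨v, hv, by rw [mat2_sub_smul_mulVec, h, sub_self]⟩
  rw [Matrix.det_fin_two] at h1
  simpa using h1

/-- a 2×2 matrix with two distinct eigenvalues has no third eigenvalue -/
theorem mat2_third_eigen (M : Matrix (Fin 2) (Fin 2) K) (v w u : Fin 2 → K) (hv : v ≠ 0)
    (hw : w ≠ 0) (hu : u ≠ 0) (a b c : K) (hab : a ≠ b) (h1 : M.mulVec v = a • v)
    (h2 : M.mulVec w = b • w) (h3 : M.mulVec u = c • u) : c = a ∨ c = b := by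
  have e1 := mat2_eigen_det M v hv a h1
  have e2 := mat2_eigen_det M w hw b h2
  have e3 := mat2_eigen_det M u hu c h3
  have htr : M 0 0 + M 1 1 = a + b := by
    have h4 : (a - b) * (a + b - (M 0 0 + M 1 1)) = 0 := by linear_combination e1 - e2
    rcases mul_eq_zero.mp h4 with h5 | h5
    · exact absurd (sub_eq_zero.mp h5) hab
    · exact (sub_eq_zero.mp h5).symm
  have h6 : (c - a) * (c - b) = 0 := by
    linear_combination e3 - e1 - (a - c) * htr
  rcases mul_eq_zero.mp h6 with h7 | h7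
  · exact Or.inl (sub_eq_zero.mp h7)
  · exact Or.inr (sub_eq_zero.mp h7)

theorem mat2_trace_of_fixed (M : Matrix (Fin 2) (Fin 2) K) (v : Fin 2 → K) (hv : v ≠ 0)
    (h : M.mulVec v = v) (hdet : M.det = 1) : M.trace = 2 := by
  have e1 := mat2_eigen_det M v hv 1 (by rw [h, one_smul])
  rw [Matrix.det_fin_two] at hdet
  rw [Matrix.trace_fin_two]
  linear_combination hdet - e1

theorem mem_span_singleton_exists {x y : Fin 2 → K} (h : y ∈ Submodule.span K {x}) :
    ∃ c : K, y = c • x := by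
  obtain ⟨c, hc⟩ := Submodule.mem_span_singleton.mp h
  exact ⟨c, hc.symm⟩

/-- inductive step for the common eigenvector of an odd-order solvable linear group of
degree 2: from a normal subgroup with abelian quotient to the whole group -/
theorem common_eigen_step [IsAlgClosed K] {H : Type u} [Group H] [Finite H]
    (hodd : Odd (Nat.card H)) (ρ : H →* Matrix (Fin 2) (Fin 2) K) (N : Subgroup H)
    [hNn : N.Normal] (hN : commutator H ≤ N)
    (hNe : ∃ v : Fin 2 → K, v ≠ 0 ∧ ∀ n ∈ N, ∃ c : K, (ρ n).mulVec v = c • v) :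
    ∃ v : Fin 2 → K, v ≠ 0 ∧ ∀ h : H, ∃ c : K, (ρ h).mulVec v = c • v := by
  obtain ⟨v, hv0, hv⟩ := hNe
  by_cases hall : ∀ h : H, ∃ c : K, (ρ h).mulVec v = c • v
  · exact ⟨v, hv0, hall⟩
  push Not at hall
  obtain ⟨h₀, hh₀⟩ := hall
  have hinv : ∀ (h : H) (x : Fin 2 → K), (ρ h⁻¹).mulVec ((ρ h).mulVec x) = x := by
    intro h x
    rw [Matrix.mulVec_mulVec, ← map_mul, inv_mul_cancel, map_one, Matrix.one_mulVec]
  have hoddel : ∀ h : H, Odd (orderOf h) := fun h =>
    Odd.of_dvd_nat hodd (orderOf_dvd_natCard h)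
  have hw0 : (ρ h₀).mulVec v ≠ 0 := by
    intro h0
    apply hh₀ 0
    rw [zero_smul]; exact h0
  have hconj : ∀ (x : Fin 2 → K), (∀ n ∈ N, ∃ c : K, (ρ n).mulVec x = c • x) →
      ∀ n ∈ N, ∃ c : K, (ρ n).mulVec ((ρ h₀).mulVec x) = c • (ρ h₀).mulVec x := by
    intro x hx n hn
    have hn' : h₀⁻¹ * n * h₀ ∈ N := by
      have := hNn.conj_mem n hn h₀⁻¹
      simpa using this
    obtain ⟨c, hc⟩ := hx _ hn'
    refine ⟨c, ?_⟩
    have e : n * h₀ = h₀ * (h₀⁻¹ * n * h₀) := by group
    rw [Matrix.mulVec_mulVec, ← map_mul, e, map_mul, ← Matrix.mulVec_mulVec, hc,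
      Matrix.mulVec_smul]
  have hw := hconj v hv
  have hv' : ∀ n : N, ∃ c : K, (ρ n).mulVec v = c • v := fun n => hv n n.2
  have hw' : ∀ n : N, ∃ c : K, (ρ n).mulVec ((ρ h₀).mulVec v) = c • (ρ h₀).mulVec v :=
    fun n => hw n n.2
  choose lam hlam using hv'
  choose mu hmu using hw'
  by_cases hdiff : ∃ n : N, lam n ≠ mu n
  · -- distinct characters: contradiction
    exfalso
    obtain ⟨n₀, hn₀⟩ := hdiff
    have hu := hconj _ hw
    obtain ⟨c, hc⟩ := hu n₀ n₀.2
    have hu0 : (ρ h₀).mulVec ((ρ h₀).mulVec v) ≠ 0 := by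
      intro h0
      apply hw0
      have := hinv h₀ ((ρ h₀).mulVec v)
      rw [h0, Matrix.mulVec_zero] at this
      exact this.symm
    rcases mat2_third_eigen (ρ n₀) v _ _ hv0 hw0 hu0 (lam n₀) (mu n₀) c hn₀ (hlam n₀) (hmu n₀) hc
      with hc1 | hc1
    · -- u ∈ span v
      have hM1 : (ρ (n₀ : H) - lam n₀ • (1 : Matrix (Fin 2) (Fin 2) K)) ≠ 0 := by
        intro h0
        have h1 := mat2_sub_smul_mulVec (ρ (n₀ : H)) (lam n₀) ((ρ h₀).mulVec v)
        rw [h0, Matrix.zero_mulVec, hmu n₀, ← sub_smul] at h1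
        rcases smul_eq_zero.mp h1.symm with h2 | h2
        · exact hn₀ (sub_eq_zero.mp h2).symm
        · exact hw0 h2
      have hk1 : (ρ (n₀ : H) - lam n₀ • (1 : Matrix (Fin 2) (Fin 2) K)).mulVec v = 0 := by
        rw [mat2_sub_smul_mulVec, hlam n₀, sub_self]
      have hk2 : (ρ (n₀ : H) - lam n₀ • (1 : Matrix (Fin 2) (Fin 2) K)).mulVec
          ((ρ h₀).mulVec ((ρ h₀).mulVec v)) = 0 := by
        rw [mat2_sub_smul_mulVec, hc, hc1, sub_self]
      obtain ⟨d, hd⟩ := mem_span_singleton_exists (mat2_ker_dep _ hM1 v _ hk1 hk2 hv0)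
      -- ρ(h₀^(2k+1)) v = d^k • w
      have hpow : ∀ k : ℕ, (ρ (h₀ ^ (2 * k + 1))).mulVec v = d ^ k • (ρ h₀).mulVec v := by
        intro k
        induction k with
        | zero => simp
        | succ k ih =>
          have e : h₀ ^ (2 * (k + 1) + 1) = h₀ * h₀ * h₀ ^ (2 * k + 1) := by
            rw [← pow_two, ← pow_add]; congr 1; ring
          rw [e, map_mul, map_mul, ← Matrix.mulVec_mulVec, ih, Matrix.mulVec_smul,
            ← Matrix.mulVec_mulVec, hd, Matrix.mulVec_smul, smul_smul, pow_succ]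
      obtain ⟨k, hk⟩ := hoddel h₀
      have h1 := hpow k
      rw [← hk, pow_orderOf_eq_one, map_one, Matrix.one_mulVec] at h1
      -- v = d^k • w, so w = ρ h₀ v = d^k • ρ h₀ w = d^(k+1) • v
      apply hh₀ (d ^ k * d)
      conv_lhs => rw [h1]
      rw [Matrix.mulVec_smul, hd, smul_smul]
    · -- u ∈ span w
      have hM2 : (ρ (n₀ : H) - mu n₀ • (1 : Matrix (Fin 2) (Fin 2) K)) ≠ 0 := by
        intro h0
        have h1 := mat2_sub_smul_mulVec (ρ (n₀ : H)) (mu n₀) v
        rw [h0, Matrix.zero_mulVec, hlam n₀, ← sub_smul] at h1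
        rcases smul_eq_zero.mp h1.symm with h2 | h2
        · exact hn₀ (sub_eq_zero.mp h2)
        · exact hv0 h2
      have hk1 : (ρ (n₀ : H) - mu n₀ • (1 : Matrix (Fin 2) (Fin 2) K)).mulVec
          ((ρ h₀).mulVec v) = 0 := by
        rw [mat2_sub_smul_mulVec, hmu n₀, sub_self]
      have hk2 : (ρ (n₀ : H) - mu n₀ • (1 : Matrix (Fin 2) (Fin 2) K)).mulVec
          ((ρ h₀).mulVec ((ρ h₀).mulVec v)) = 0 := by
        rw [mat2_sub_smul_mulVec, hc, hc1, sub_self]
      obtain ⟨b, hb⟩ := mem_span_singleton_exists (mat2_ker_dep _ hM2 _ _ hk1 hk2 hw0)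
      -- ρ h₀ (w - b v) = 0
      apply hh₀ b
      have h1 : (ρ h₀).mulVec ((ρ h₀).mulVec v - b • v) = 0 := by
        rw [Matrix.mulVec_sub, Matrix.mulVec_smul, hb, sub_self]
      have h2 := hinv h₀ ((ρ h₀).mulVec v - b • v)
      rw [h1, Matrix.mulVec_zero] at h2
      exact sub_eq_zero.mp h2.symm
  · -- N acts by scalars
    push Not at hdiff
    have hscal : ∀ n ∈ N, ∃ c : K, ρ n = c • (1 : Matrix (Fin 2) (Fin 2) K) := by
      intro n hn
      refine ⟨lam ⟨n, hn⟩, ?_⟩
      by_contra hne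
      have hM : (ρ n - lam ⟨n, hn⟩ • (1 : Matrix (Fin 2) (Fin 2) K)) ≠ 0 := by
        intro h0
        exact hne (sub_eq_zero.mp h0)
      have hk1 : (ρ n - lam ⟨n, hn⟩ • (1 : Matrix (Fin 2) (Fin 2) K)).mulVec v = 0 := by
        rw [mat2_sub_smul_mulVec]
        exact sub_eq_zero.mpr (hlam ⟨n, hn⟩)
      have hk2 : (ρ n - lam ⟨n, hn⟩ • (1 : Matrix (Fin 2) (Fin 2) K)).mulVec
          ((ρ h₀).mulVec v) = 0 := by
        rw [mat2_sub_smul_mulVec, hdiff ⟨n, hn⟩]
        exact sub_eq_zero.mpr (hmu ⟨n, hn⟩)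
      obtain ⟨c, hc⟩ := mem_span_singleton_exists (mat2_ker_dep _ hM v _ hk1 hk2 hv0)
      exact hh₀ c hc
    have hdet : ∀ g : H, (ρ g).det ≠ 0 := by
      intro g h0
      have h1 : (ρ g).det * (ρ g⁻¹).det = 1 := by
        rw [← Matrix.det_mul, ← map_mul, mul_inv_cancel, map_one, Matrix.det_one]
      rw [h0, zero_mul] at h1
      exact zero_ne_one h1
    have hcomm : ∀ h g : H, ρ h * ρ g = ρ g * ρ h := by
      intro h g
      have hx : h * g * h⁻¹ * g⁻¹ ∈ N := by
        apply hN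
        have := Subgroup.commutator_mem_commutator (Subgroup.mem_top h) (Subgroup.mem_top g)
        rw [commutatorElement_def] at this
        exact this
      obtain ⟨ζ, hζ⟩ := hscal _ hx
      have e1 : ρ h * ρ g = ζ • (ρ g * ρ h) := by
        have e : h * g = (h * g * h⁻¹ * g⁻¹) * (g * h) := by group
        rw [← map_mul, e, map_mul, hζ, map_mul, smul_mul_assoc, one_mul]
      have e2 : ζ ^ 2 = 1 := by
        have h1 := congrArg Matrix.det e1
        rw [Matrix.det_smul, Matrix.det_mul, Matrix.det_mul, Fintype.card_fin] at h1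
        have h2 : (ρ h).det * (ρ g).det ≠ 0 := mul_ne_zero (hdet h) (hdet g)
        have h3 : (ρ h).det * (ρ g).det * 1 = (ρ h).det * (ρ g).det * ζ ^ 2 := by
          rw [mul_one]
          conv_lhs => rw [h1]
          ring
        exact (mul_left_cancel₀ h2 h3).symm
      have e3 : ζ = 1 := by
        obtain ⟨k, hk⟩ := hoddel (h * g * h⁻¹ * g⁻¹)
        have h1 : ρ ((h * g * h⁻¹ * g⁻¹) ^ (2 * k + 1)) = 1 := by
          rw [← hk, pow_orderOf_eq_one, map_one]
        rw [map_pow, hζ, smul_pow, one_pow] at h1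
        have h2 : ζ ^ (2 * k + 1) = 1 := by
          have h3 := congrFun (congrFun h1 0) 0
          simpa using h3
        rw [pow_succ, pow_mul, e2, one_pow, one_mul] at h2
        exact h2
      rw [e1, e3, one_smul]
    by_cases hs : ∀ g : H, ∃ a : K, ρ g = a • (1 : Matrix (Fin 2) (Fin 2) K)
    · refine ⟨v, hv0, fun g => ?_⟩
      obtain ⟨a, ha⟩ := hs g
      exact ⟨a, by rw [ha, Matrix.smul_mulVec, Matrix.one_mulVec]⟩
    · push Not at hs
      obtain ⟨g₁, hg₁⟩ := hs
      obtain ⟨u, hu0, a, hu⟩ := mat2_exists_eigen (ρ g₁)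
      have hM : (ρ g₁ - a • (1 : Matrix (Fin 2) (Fin 2) K)) ≠ 0 := by
        intro h0
        exact hg₁ a (sub_eq_zero.mp h0)
      have hk1 : (ρ g₁ - a • (1 : Matrix (Fin 2) (Fin 2) K)).mulVec u = 0 := by
        rw [mat2_sub_smul_mulVec, hu, sub_self]
      refine ⟨u, hu0, fun h => ?_⟩
      have hk2 : (ρ g₁ - a • (1 : Matrix (Fin 2) (Fin 2) K)).mulVec ((ρ h).mulVec u) = 0 := by
        rw [mat2_sub_smul_mulVec, Matrix.mulVec_mulVec, hcomm g₁ h, ← Matrix.mulVec_mulVec, hu,
          Matrix.mulVec_smul, sub_self]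
      exact mem_span_singleton_exists (mat2_ker_dep _ hM u _ hk1 hk2 hu0)

theorem common_eigen_aux [IsAlgClosed K] : ∀ (n : ℕ) (H : Type u) [Group H] [Finite H],
    Nat.card H ≤ n → Group.IsSolvable H → Odd (Nat.card H) →
    ∀ ρ : H →* Matrix (Fin 2) (Fin 2) K,
      ∃ v : Fin 2 → K, v ≠ 0 ∧ ∀ h : H, ∃ c : K, (ρ h).mulVec v = c • v := by
  intro n
  induction n with
  | zero =>
    intro H _ _ hcard
    exact absurd hcard (by have := Nat.card_pos (α := H); omega)
  | succ n ih =>
    intro H _ _ hcard hs hodd ρ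
    by_cases htriv : Subsingleton H
    · refine ⟨Pi.single 0 1, ?_, fun h => ⟨1, ?_⟩⟩
      · intro h0
        have := congrFun h0 0
        simp at this
      · have : h = 1 := Subsingleton.elim _ _
        rw [this, map_one, Matrix.one_mulVec, one_smul]
    · rw [not_subsingleton_iff_nontrivial] at htriv
      have hlt : commutator H < ⊤ := IsSolvable.commutator_lt_top_of_nontrivial H
      have hcardN : Nat.card (commutator H) ≤ n := by
        have h1 : (commutator H).index ≠ 1 := by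
          intro h
          exact hlt.ne (Subgroup.index_eq_one.mp h)
        have h2 := Subgroup.card_mul_index (commutator H)
        have h3 : (commutator H).index ≠ 0 := Subgroup.index_ne_zero_of_finite
        have h4 : 2 ≤ (commutator H).index := by omega
        nlinarith [Nat.card_pos (α := commutator H)]
      have hoddN : Odd (Nat.card (commutator H)) :=
        Odd.of_dvd_nat hodd (Subgroup.card_subgroup_dvd_card _)
      obtain ⟨v, hv0, hv⟩ := ih (commutator H) hcardN inferInstance hoddN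
        (ρ.comp (commutator H).subtype)
      exact common_eigen_step hodd ρ (commutator H) le_rfl
        ⟨v, hv0, fun n hn => hv ⟨n, hn⟩⟩

/-- the derived subgroup of a finite solvable group of odd order acts unipotently in any
representation of degree 2 over an algebraically closed field of characteristic `p` -/
theorem commutator_unipotent [IsAlgClosed K] (p : ℕ) [Fact p.Prime] [CharP K p] {H : Type u}
    [Group H] [Finite H] (hs : Group.IsSolvable H) (hodd : Odd (Nat.card H))
    (ρ : H →* Matrix (Fin 2) (Fin 2) K) : ∀ g ∈ commutator H, (ρ g) ^ p = 1 := by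
  obtain ⟨v, hv0, hv⟩ := common_eigen_aux (Nat.card H) H le_rfl hs hodd ρ
  have hinv : ∀ (h : H) (x : Fin 2 → K), (ρ h⁻¹).mulVec ((ρ h).mulVec x) = x := by
    intro h x
    rw [Matrix.mulVec_mulVec, ← map_mul, inv_mul_cancel, map_one, Matrix.one_mulVec]
  have hdetinv : ∀ h : H, (ρ h).det * (ρ h⁻¹).det = 1 := by
    intro h
    rw [← Matrix.det_mul, ← map_mul, mul_inv_cancel, map_one, Matrix.det_one]
  let T : Subgroup H :=
    { carrier := {g | (ρ g).mulVec v = v ∧ (ρ g).det = 1}
      mul_mem' := by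
        rintro a b ⟨ha1, ha2⟩ ⟨hb1, hb2⟩
        refine ⟨?_, ?_⟩
        · rw [map_mul, ← Matrix.mulVec_mulVec, hb1, ha1]
        · rw [map_mul, Matrix.det_mul, ha2, hb2, one_mul]
      one_mem' := by
        refine ⟨?_, ?_⟩
        · rw [map_one, Matrix.one_mulVec]
        · rw [map_one, Matrix.det_one]
      inv_mem' := by
        rintro a ⟨ha1, ha2⟩
        refine ⟨?_, ?_⟩
        · have := hinv a v
          rw [ha1] at this
          exact this
        · have := hdetinv a
          rw [ha2, one_mul] at this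
          exact this }
  have hT : commutator H ≤ T := by
    rw [commutator_eq_closure, Subgroup.closure_le]
    rintro _ ⟨h, k, rfl⟩
    rw [commutatorElement_def]
    obtain ⟨a, ha⟩ := hv h
    obtain ⟨b, hb⟩ := hv k
    have ha0 : a ≠ 0 := by
      intro h0
      have := hinv h v
      rw [ha, h0, zero_smul, Matrix.mulVec_zero] at this
      exact hv0 this.symm
    have hb0 : b ≠ 0 := by
      intro h0
      have := hinv k v
      rw [hb, h0, zero_smul, Matrix.mulVec_zero] at this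
      exact hv0 this.symm
    have hai : (ρ h⁻¹).mulVec v = a⁻¹ • v := by
      have := hinv h v
      rw [ha, Matrix.mulVec_smul] at this
      rw [eq_inv_smul_iff₀ ha0]
      exact this
    have hbi : (ρ k⁻¹).mulVec v = b⁻¹ • v := by
      have := hinv k v
      rw [hb, Matrix.mulVec_smul] at this
      rw [eq_inv_smul_iff₀ hb0]
      exact this
    refine ⟨?_, ?_⟩
    · have key : (ρ (h * k * h⁻¹ * k⁻¹)).mulVec v = (a * b * a⁻¹ * b⁻¹) • v := by
        simp only [map_mul, ← Matrix.mulVec_mulVec, hbi, hai, hb, ha, Matrix.mulVec_smul,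
          smul_smul]
        congr 1
        ring
      rw [key]
      have : a * b * a⁻¹ * b⁻¹ = 1 := by field_simp
      rw [this, one_smul]
    · rw [map_mul, map_mul, map_mul, Matrix.det_mul, Matrix.det_mul, Matrix.det_mul]
      have h1 := hdetinv h
      have h2 := hdetinv k
      calc (ρ h).det * (ρ k).det * (ρ h⁻¹).det * (ρ k⁻¹).det
          = ((ρ h).det * (ρ h⁻¹).det) * ((ρ k).det * (ρ k⁻¹).det) := by ring
        _ = 1 := by rw [h1, h2, one_mul]
  intro g hg
  obtain ⟨hg1, hg2⟩ := hT hg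
  exact mat2_unipotent_pow p (ρ g) (mat2_trace_of_fixed _ v hv0 hg1 hg2) hg2

end Cfsg.Agent.Lib.Helper34
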