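import Mathlib
import Cfsg.Agent.Lib.Helper34.Lin2

set_option autoImplicit false

namespace Cfsg.Agent.Lib.Helper34

universe u v

theorem matrix_comm_of_subsingleton {n : Type*} [Fintype n] [DecidableEq n] [Subsingleton n]
    {R : Type*} [CommRing R] (A B : Matrix n n R) : A * B = B * A := by
  ext i j
  rw [Matrix.mul_apply, Matrix.mul_apply]
  apply Finset.sum_congr rfl
  intro k _
  rw [Subsingleton.elim k i, Subsingleton.elim j i, mul_comm]

/-- a monoid hom from a group into a monoid whose image commutes kills the commutator
subgroup -/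
theorem commutator_le_of_image_comm {H : Type*} [Group H] {M : Type*} [Monoid M] (χ : H →* M)
    (hc : ∀ a b : H, χ a * χ b = χ b * χ a) : ∀ g ∈ commutator H, χ g = 1 := by
  let T : Subgroup H :=
    { carrier := {g | χ g = 1}
      mul_mem' := by
        intro a b ha hb
        show χ (a * b) = 1
        rw [map_mul, show χ a = 1 from ha, show χ b = 1 from hb, one_mul]
      one_mem' := map_one χ
      inv_mem' := by
        intro a ha
        show χ a⁻¹ = 1
        have h1 : χ a * χ a⁻¹ = 1 := by rw [← map_mul, mul_inv_cancel, map_one]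
        rw [show χ a = 1 from ha, one_mul] at h1
        exact h1 }
  have hT : commutator H ≤ T := by
    rw [commutator_eq_closure, Subgroup.closure_le]
    rintro _ ⟨h, k, rfl⟩
    rw [commutatorElement_def]
    show χ (h * k * h⁻¹ * k⁻¹) = 1
    rw [map_mul, map_mul, map_mul, mul_assoc (χ h), hc k h⁻¹,
      ← mul_assoc, ← map_mul, mul_inv_cancel, map_one, one_mul, ← map_mul, mul_inv_cancel,
      map_one]
  exact fun g hg => hT hg

/-- a finite solvable group of odd order acting on an elementary abelian `p`-group of order at
most `p ^ 2`: the derived subgroup acts as a `p`-group (elements of order dividing `p`). -/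
theorem mulAut_commutator_pow {V : Type v} [CommGroup V] [Finite V] (p : ℕ) [Fact p.Prime]
    (hVp : ∀ x : V, x ^ p = 1) (hVcard : Nat.card V ≤ p ^ 2)
    {H : Type u} [Group H] [Finite H] (hs : Group.IsSolvable H) (hodd : Odd (Nat.card H))
    (φ : H →* MulAut V) : ∀ g ∈ commutator H, (φ g) ^ p = 1 := by
  have hVp' : ∀ x : Additive V, p • x = 0 := by
    intro x
    exact congrArg Additive.ofMul (hVp x.toMul)
  letI : Module (ZMod p) (Additive V) := AddCommGroup.zmodModule (n := p) hVp'
  let E : MulAut V →* Module.End (ZMod p) (Additive V) :=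
    { toFun := fun α => AddMonoidHom.toZModLinearMap p (MonoidHom.toAdditive α.toMonoidHom)
      map_one' := by ext x; rfl
      map_mul' := by intro α β; ext x; rfl }
  have hE : Function.Injective E := by
    intro α β h
    ext x
    have h1 := congrArg (fun f : Module.End (ZMod p) (Additive V) => f (Additive.ofMul x)) h
    exact congrArg Additive.toMul h1
  haveI : Fintype (Additive V) := Fintype.ofFinite _
  have hcard : Nat.card V = p ^ Module.finrank (ZMod p) (Additive V) := by
    have h1 := Module.card_eq_pow_finrank (K := ZMod p) (V := Additive V)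
    rw [ZMod.card, ← Nat.card_eq_fintype_card] at h1
    exact h1
  have hd : Module.finrank (ZMod p) (Additive V) ≤ 2 := by
    rw [hcard] at hVcard
    exact (Nat.pow_le_pow_iff_right (Fact.out : p.Prime).one_lt).mp hVcard
  intro g hg
  by_cases hd2 : Module.finrank (ZMod p) (Additive V) = 2
  · let b := Module.finBasisOfFinrankEq (ZMod p) (Additive V) hd2
    let T := LinearMap.toMatrixAlgEquiv b
    let ι := (algebraMap (ZMod p) (AlgebraicClosure (ZMod p))).mapMatrix (m := Fin 2)
    let ρ : H →* Matrix (Fin 2) (Fin 2) (AlgebraicClosure (ZMod p)) :=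
      (ι : Matrix (Fin 2) (Fin 2) (ZMod p) →* _).comp
        ((T : Module.End (ZMod p) (Additive V) →* _).comp (E.comp φ))
    have h1 := commutator_unipotent p hs hodd ρ g hg
    rw [← map_pow] at h1
    have hι : Function.Injective ι :=
      Matrix.map_injective (algebraMap (ZMod p) (AlgebraicClosure (ZMod p))).injective
    have h2 : ρ (g ^ p) = ρ 1 := by rw [h1, map_one]
    have h3 : φ (g ^ p) = φ 1 := hE (T.injective (hι h2))
    rw [map_pow, map_one] at h3
    exact h3
  · have hd1 : Module.finrank (ZMod p) (Additive V) ≤ 1 := by omega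
    haveI : Subsingleton (Fin (Module.finrank (ZMod p) (Additive V))) :=
      Fin.subsingleton_iff_le_one.mpr hd1
    let b := Module.finBasis (ZMod p) (Additive V)
    let T := LinearMap.toMatrixAlgEquiv b
    let χ : H →* Matrix (Fin (Module.finrank (ZMod p) (Additive V)))
        (Fin (Module.finrank (ZMod p) (Additive V))) (ZMod p) :=
      (T : Module.End (ZMod p) (Additive V) →* _).comp (E.comp φ)
    have h1 := commutator_le_of_image_comm χ (fun a b => matrix_comm_of_subsingleton _ _) g hg
    have h2 : χ g = χ 1 := by rw [h1, map_one]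
    have h3 : φ g = φ 1 := hE (T.injective h2)
    rw [h3, map_one, one_pow]

end Cfsg.Agent.Lib.Helper34
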