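import Mathlib
import Cfsg.Agent.S0093
import Cfsg.Agent.S0096
import Cfsg.Agent.S0120
import Cfsg.Agent.S0121
import Cfsg.Agent.S3771

set_option autoImplicit false

namespace Cfsg.Agent.Lib.Helper34

open Cfsg

universe u

theorem mem_of_char {G : Type*} [Group G] {H : Subgroup G} (hH : H.Characteristic)
    (α : MulAut G) {x : G} (hx : x ∈ H) : α x ∈ H := by
  have h1 : x ∈ H.comap α.toMonoidHom := by
    rw [hH.fixed]; exact hx
  exact h1

/-- restriction of automorphisms to a characteristic subgroup -/
def resChar {G : Type*} [Group G] (H : Subgroup G) (hH : H.Characteristic) :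
    MulAut G →* MulAut ↥H where
  toFun α :=
    { toFun := fun x => ⟨α x, mem_of_char hH α x.2⟩
      invFun := fun x => ⟨α⁻¹ x, mem_of_char hH α⁻¹ x.2⟩
      left_inv := fun x => Subtype.ext (by simp)
      right_inv := fun x => Subtype.ext (by simp)
      map_mul' := fun x y => Subtype.ext (by simp) }
  map_one' := by ext x; rfl
  map_mul' := by intro α β; ext x; rfl

theorem resChar_apply {G : Type*} [Group G] (H : Subgroup G) (hH : H.Characteristic)
    (α : MulAut G) (x : ↥H) : ((resChar H hH α x : ↥H) : G) = α x := rfl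

/-- the automorphism induced on the abelianization -/
def abAut (W : Type*) [Group W] : MulAut W →* MulAut (Abelianization W) where
  toFun α := α.abelianizationCongr
  map_one' := by
    ext x
    obtain ⟨w, rfl⟩ := QuotientGroup.mk_surjective x
    rfl
  map_mul' := by
    intro α β
    ext x
    obtain ⟨w, rfl⟩ := QuotientGroup.mk_surjective x
    rfl

theorem abAut_of (W : Type*) [Group W] (α : MulAut W) (w : W) :
    abAut W α (Abelianization.of w) = Abelianization.of (α w) := rfl

theorem commutatorElement_mul_central {G : Type*} [Group G] (a b z₁ z₂ : G)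
    (h1 : ∀ x : G, x * z₁ = z₁ * x) (h2 : ∀ x : G, x * z₂ = z₂ * x) :
    (a * z₁) * (b * z₂) * (a * z₁)⁻¹ * (b * z₂)⁻¹ = a * b * a⁻¹ * b⁻¹ := by
  have e1 : (a * z₁) * (b * z₂) * (a * z₁)⁻¹ = a * (b * z₂) * a⁻¹ := by
    calc (a * z₁) * (b * z₂) * (a * z₁)⁻¹ = a * (z₁ * (b * z₂)) * z₁⁻¹ * a⁻¹ := by group
      _ = a * ((b * z₂) * z₁) * z₁⁻¹ * a⁻¹ := by rw [h1 (b * z₂)]
      _ = a * (b * z₂) * a⁻¹ := by group
  rw [e1]
  calc a * (b * z₂) * a⁻¹ * (b * z₂)⁻¹ = a * b * (z₂ * a⁻¹) * z₂⁻¹ * b⁻¹ := by group
    _ = a * b * (a⁻¹ * z₂) * z₂⁻¹ * b⁻¹ := by rw [h2 a⁻¹]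
    _ = a * b * a⁻¹ * b⁻¹ := by group

/-- **Rank-2 reduction.** A finite `p`-group `R` (`p` odd) of `p`-rank at most 2 has a
characteristic subgroup `W` whose abelianization is elementary abelian of order at most `p ^ 2`
and on which every `p'`-automorphism of `R` acts faithfully. -/
theorem rank2_exists {R : Type u} [Group R] [Finite R] (p : ℕ) [Fact p.Prime] (hp : p ≠ 2)
    (hR : IsPGroup p R) (hr : PRankLE p 2 R) :
    ∃ (W : Subgroup R) (hW : W.Characteristic),
      (∀ x : Abelianization ↥W, x ^ p = 1) ∧ Nat.card (Abelianization ↥W) ≤ p ^ 2 ∧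
      ∀ α : MulAut R, (orderOf α).Coprime p → abAut ↥W (resChar W hW α) = 1 → α = 1 := by
  obtain ⟨C, hCchar, hC1, hC2, hC3⟩ := Cfsg.Agent.S0093.result hR
  -- commutators of elements of C centralize C
  have hcomm_central : ∀ a ∈ C, ∀ b : R, ∀ c ∈ C, c * (a * b * a⁻¹ * b⁻¹) = (a * b * a⁻¹ * b⁻¹) * c := by
    intro a ha b c hc
    have h1 : a * b * a⁻¹ * b⁻¹ ∈ ⁅C, (⊤ : Subgroup R)⁆ := by
      have := Subgroup.commutator_mem_commutator ha (Subgroup.mem_top b)
      rw [commutatorElement_def] at this
      exact this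
    have h2 := (hC2 h1).2
    exact Subgroup.mem_centralizer_iff.mp h2 c hc
  have hPC : IsPGroup p ↥C := hR.to_subgroup C
  -- class ≤ 2 in ↥C
  have hcl : ⁅commutator ↥C, (⊤ : Subgroup ↥C)⁆ = ⊥ := by
    rw [eq_bot_iff, Subgroup.commutator_le]
    intro g₁ hg₁ g₂ _
    rw [Subgroup.mem_bot]
    have hcen : commutator ↥C ≤ Subgroup.center ↥C := by
      rw [commutator_eq_closure, Subgroup.closure_le]
      rintro _ ⟨a, b, rfl⟩
      rw [commutatorElement_def]
      apply Subgroup.mem_center_iff.mpr
      intro z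
      apply Subtype.ext
      exact hcomm_central a a.2 b z z.2
    have h1 := Subgroup.mem_center_iff.mp (hcen hg₁) g₂
    rw [commutatorElement_def]
    calc g₁ * g₂ * g₁⁻¹ * g₂⁻¹ = (g₂ * g₁) * g₁⁻¹ * g₂⁻¹ := by rw [h1]
      _ = 1 := by group
  -- W
  set W : Subgroup R := Subgroup.closure {y : R | y ∈ C ∧ y ^ p = 1} with hWdef
  have hWC : W ≤ C := by
    rw [hWdef, Subgroup.closure_le]
    intro y hy
    exact hy.1
  have hWchar : W.Characteristic := by
    rw [Subgroup.characteristic_iff_le_comap]
    intro ϕ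
    rw [hWdef, Subgroup.closure_le]
    intro y hy
    apply Subgroup.subset_closure
    refine ⟨mem_of_char hCchar ϕ hy.1, ?_⟩
    show (ϕ y) ^ p = 1
    rw [← map_pow, hy.2, map_one]
  have hWexp : ∀ w ∈ W, w ^ p = 1 := by
    intro w hw
    have h1 : ∃ hwC : w ∈ C, (⟨w, hwC⟩ : ↥C) ∈ Subgroup.closure {x : ↥C | x ^ p = 1} := by
      induction hw using Subgroup.closure_induction with
      | mem y hy =>
        refine ⟨hy.1, Subgroup.subset_closure ?_⟩
        show (⟨y, hy.1⟩ : ↥C) ^ p = 1
        apply Subtype.ext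
        exact hy.2
      | one => exact ⟨C.one_mem, Subgroup.one_mem _⟩
      | mul a b _ _ iha ihb =>
        obtain ⟨ha1, ha2⟩ := iha
        obtain ⟨hb1, hb2⟩ := ihb
        exact ⟨C.mul_mem ha1 hb1, Subgroup.mul_mem _ ha2 hb2⟩
      | inv a _ iha =>
        obtain ⟨ha1, ha2⟩ := iha
        exact ⟨C.inv_mem ha1, Subgroup.inv_mem _ ha2⟩
    obtain ⟨hwC, hmem⟩ := h1
    have h2 := Cfsg.Agent.S0096.result hp hPC hcl ⟨w, hwC⟩ hmem
    exact congrArg Subtype.val h2
  have hPW : IsPGroup p ↥W := hR.to_subgroup W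
  -- rank of W
  have hrW : PRankLE p 2 ↥W := by
    intro A hA hAe
    have h1 := hr (A.map W.subtype) (Subgroup.map_isMulCommutative A W.subtype) (by
      rintro _ ⟨a, ha, rfl⟩
      have := hAe a ha
      exact congrArg Subtype.val this)
    rwa [Subgroup.card_map_of_injective W.subtype_injective] at h1
  have hWcard : Nat.card ↥W ≤ p ^ 3 :=
    Cfsg.Agent.S3771.result hPW hrW (fun x => Subtype.ext (hWexp x x.2))
  -- commutator of W is central in W
  have hWcen : ∀ z ∈ commutator ↥W, ∀ w : ↥W, w * z = z * w := by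
    intro z hz
    have hcen : commutator ↥W ≤ Subgroup.center ↥W := by
      rw [commutator_eq_closure, Subgroup.closure_le]
      rintro _ ⟨a, b, rfl⟩
      rw [commutatorElement_def]
      apply Subgroup.mem_center_iff.mpr
      intro z
      apply Subtype.ext
      exact hcomm_central a (hWC a.2) b z (hWC z.2)
    exact fun w => Subgroup.mem_center_iff.mp (hcen hz) w
  have hp1 : 1 < p := (Fact.out : p.Prime).one_lt
  refine ⟨W, hWchar, ?_, ?_, ?_⟩
  · intro x
    obtain ⟨w, rfl⟩ := QuotientGroup.mk_surjective x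
    have : w ^ p = 1 := Subtype.ext (hWexp w w.2)
    show (Abelianization.of w) ^ p = 1
    rw [← map_pow, this, map_one]
  · -- index of commutator ≤ p^2
    show (commutator ↥W).index ≤ p ^ 2
    have hmul := Subgroup.card_mul_index (commutator ↥W)
    obtain ⟨k, hk⟩ := IsPGroup.iff_card.mp hPW
    have hk3 : k ≤ 3 := by
      rw [hk] at hWcard
      exact (Nat.pow_le_pow_iff_right hp1).mp hWcard
    have hidx_pos : 0 < (commutator ↥W).index := Nat.pos_of_ne_zero Subgroup.index_ne_zero_of_finite
    by_cases hk2 : k ≤ 2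
    · have h1 : (commutator ↥W).index ≤ Nat.card ↥W :=
        Nat.le_of_dvd Nat.card_pos (Subgroup.index_dvd_card _)
      rw [hk] at h1
      exact h1.trans (Nat.pow_le_pow_right (le_of_lt hp1) hk2)
    · have hk3' : k = 3 := by omega
      have hne : commutator ↥W ≠ ⊥ := by
        intro hbot
        have hWab : IsMulCommutative ↥W := by
          refine ⟨⟨fun a b => ?_⟩⟩
          have h1 : a * b * a⁻¹ * b⁻¹ ∈ commutator ↥W := by
            have := Subgroup.commutator_mem_commutator (Subgroup.mem_top a) (Subgroup.mem_top b)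
            rw [commutatorElement_def] at this
            exact this
          rw [hbot, Subgroup.mem_bot] at h1
          calc a * b = (a * b * a⁻¹ * b⁻¹) * (b * a) := by group
            _ = b * a := by rw [h1, one_mul]
        have h2 := hr W hWab hWexp
        rw [hk, hk3'] at h2
        have h3 : p ^ 2 < p ^ 3 := Nat.pow_lt_pow_right hp1 (by norm_num)
        omega
      obtain ⟨j, hj⟩ := IsPGroup.iff_card.mp (hPW.to_subgroup (commutator ↥W))
      have hj1 : 1 ≤ j := by
        rcases Nat.eq_zero_or_pos j with h0 | h0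
        · exfalso
          rw [h0, pow_zero] at hj
          exact hne (Subgroup.eq_bot_of_card_eq _ hj)
        · exact h0
      have h4 : p ≤ Nat.card ↥(commutator ↥W) := by
        rw [hj]
        calc p = p ^ 1 := (pow_one p).symm
          _ ≤ p ^ j := Nat.pow_le_pow_right (le_of_lt hp1) hj1
      rw [hk, hk3'] at hmul
      have h5 : p * (commutator ↥W).index ≤ p * p ^ 2 := by
        calc p * (commutator ↥W).index ≤ Nat.card ↥(commutator ↥W) * (commutator ↥W).index :=
              Nat.mul_le_mul_right _ h4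
          _ = p ^ 3 := hmul
          _ = p * p ^ 2 := by ring
      exact Nat.le_of_mul_le_mul_left h5 (by omega)
  · intro α hα hab
    set β := resChar W hWchar α with hβ
    have hβord : (orderOf β).Coprime p :=
      Nat.Coprime.coprime_dvd_left (orderOf_map_dvd (resChar W hWchar) α) hα
    -- (i)
    have h_i : ∀ w : ↥W, w⁻¹ * β w ∈ commutator ↥W := by
      intro w
      have h1 : abAut ↥W β (Abelianization.of w) = Abelianization.of w := by
        rw [hab]; rfl
      rw [abAut_of] at h1
      exact QuotientGroup.eq.mp h1.symm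
    -- (iii)
    let F : Subgroup ↥W :=
      { carrier := {x | β x = x}
        mul_mem' := by
          intro a b ha hb
          show β (a * b) = a * b
          rw [map_mul, show β a = a from ha, show β b = b from hb]
        one_mem' := map_one β
        inv_mem' := by
          intro a ha
          show β a⁻¹ = a⁻¹
          rw [map_inv, show β a = a from ha] }
    have hF : commutator ↥W ≤ F := by
      rw [commutator_eq_closure, Subgroup.closure_le]
      rintro _ ⟨a, b, rfl⟩
      rw [commutatorElement_def]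
      show β (a * b * a⁻¹ * b⁻¹) = a * b * a⁻¹ * b⁻¹
      rw [map_mul, map_mul, map_mul, map_inv, map_inv]
      have ea : β a = a * (a⁻¹ * β a) := by group
      have eb : β b = b * (b⁻¹ * β b) := by group
      rw [ea, eb]
      exact commutatorElement_mul_central a b _ _ (hWcen _ (h_i a)) (hWcen _ (h_i b))
    -- (iv)
    have hβ1 : ∀ w : ↥W, β w = w := by
      intro w
      have hz := h_i w
      have hzfix : β (w⁻¹ * β w) = w⁻¹ * β w := hF hz
      have hpow : ∀ k : ℕ, (β ^ k) w = w * (w⁻¹ * β w) ^ k := by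
        intro k
        induction k with
        | zero => simp
        | succ k ih =>
          rw [pow_succ', MulAut.mul_apply, ih, map_mul, map_pow, hzfix, pow_succ',
            ← mul_assoc w, mul_inv_cancel_left]
      have h1 := hpow (orderOf β)
      rw [pow_orderOf_eq_one, MulAut.one_apply] at h1
      have h2 : (w⁻¹ * β w) ^ orderOf β = 1 := by
        have : w * (w⁻¹ * β w) ^ orderOf β = w * 1 := by rw [mul_one]; exact h1.symm
        exact mul_left_cancel this
      have h3 : (w⁻¹ * β w) ^ p = 1 := Subtype.ext (hWexp _ (w⁻¹ * β w).2)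
      have h4 : orderOf (w⁻¹ * β w) ∣ 1 := by
        have := Nat.dvd_gcd (orderOf_dvd_of_pow_eq_one h2) (orderOf_dvd_of_pow_eq_one h3)
        rwa [Nat.Coprime.gcd_eq_one hβord] at this
      have h5 : w⁻¹ * β w = 1 := orderOf_eq_one_iff.mp (Nat.dvd_one.mp h4)
      exact (inv_mul_eq_one.mp h5).symm
    -- (v)
    have hαW : ∀ w ∈ W, α w = w := by
      intro w hw
      have := hβ1 ⟨w, hw⟩
      exact congrArg Subtype.val this
    set γ := resChar C hCchar α with hγ
    have hγord : (orderOf γ).Coprime p :=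
      Nat.Coprime.coprime_dvd_left (orderOf_map_dvd (resChar C hCchar) α) hα
    have hγ1 : γ = 1 := by
      apply Cfsg.Agent.S0120.result hp hPC γ hγord
      intro x hx
      apply Subtype.ext
      show α (x : R) = x
      apply hαW
      apply Subgroup.subset_closure
      exact ⟨x.2, congrArg Subtype.val hx⟩
    -- (vi)
    apply Cfsg.Agent.S0121.result hR C hCchar hC1 hC2 hC3 α hα
    intro x hx
    have h1 : γ ⟨x, hx⟩ = ⟨x, hx⟩ := by rw [hγ1]; rfl
    exact congrArg Subtype.val h1

end Cfsg.Agent.Lib.Helper34
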