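import Mathlib
import Cfsg.Agent.Lib.Helper34.Rank2
import Cfsg.Agent.Lib.Helper34.Lin2b

set_option autoImplicit false

namespace Cfsg.Agent.Lib.Helper34

open Cfsg

universe u v

/-- **Odd solvable groups acting on rank-2 `p`-groups.** If a finite solvable group `H` of odd
order acts on a `p`-group `R` (`p` odd) of `p`-rank at most 2 with kernel a `p`-group, then the
derived subgroup of `H` is a `p`-group. -/
theorem commutator_isPGroup_of_rank2 {R : Type u} [Group R] [Finite R] (p : ℕ) [Fact p.Prime]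
    (hp : p ≠ 2) (hR : IsPGroup p R) (hr : PRankLE p 2 R) {H : Type v} [Group H] [Finite H]
    (hs : Group.IsSolvable H) (hodd : Odd (Nat.card H)) (θ : H →* MulAut R)
    (hker : ∀ h : H, θ h = 1 → ∃ k : ℕ, h ^ (p ^ k) = 1) : IsPGroup p (commutator H) := by
  obtain ⟨W, hW, hexp, hcard, hfaith⟩ := rank2_exists p hp hR hr
  have key := mulAut_commutator_pow p hexp hcard hs hodd
    ((abAut ↥W).comp ((resChar W hW).comp θ))
  have hpp : p.Prime := Fact.out
  rintro ⟨g, hg⟩
  obtain ⟨k, m, hm, hkm⟩ := Nat.exists_eq_pow_mul_and_not_dvd (orderOf_pos g).ne' p hpp.ne_one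
  have hmc : Nat.Coprime p m := (Nat.Prime.coprime_iff_not_dvd hpp).mpr hm
  have hg0m : (g ^ (p ^ k)) ^ m = 1 := by
    rw [← pow_mul, ← hkm, pow_orderOf_eq_one]
  have hg0 : g ^ (p ^ k) ∈ commutator H := Subgroup.pow_mem _ hg _
  have h1 := key _ hg0
  have h2 : ((abAut ↥W).comp ((resChar W hW).comp θ)) (g ^ (p ^ k)) = 1 := by
    have h3 : (((abAut ↥W).comp ((resChar W hW).comp θ)) (g ^ (p ^ k))) ^ m = 1 := by
      rw [← map_pow, hg0m, map_one]
    have h4 := Nat.dvd_gcd (orderOf_dvd_of_pow_eq_one h1) (orderOf_dvd_of_pow_eq_one h3)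
    rw [Nat.Coprime.gcd_eq_one hmc] at h4
    exact orderOf_eq_one_iff.mp (Nat.dvd_one.mp h4)
  have h5 : θ (g ^ (p ^ k)) = 1 := by
    apply hfaith _ _ h2
    have h6 : (θ (g ^ (p ^ k))) ^ m = 1 := by rw [← map_pow, hg0m, map_one]
    exact Nat.Coprime.coprime_dvd_left (orderOf_dvd_of_pow_eq_one h6) hmc.symm
  obtain ⟨j, hj⟩ := hker _ h5
  have h7 : g ^ (p ^ k) = 1 := by
    have h8 := Nat.dvd_gcd (orderOf_dvd_of_pow_eq_one hj) (orderOf_dvd_of_pow_eq_one hg0m)
    rw [Nat.Coprime.gcd_eq_one (Nat.Coprime.pow_left j hmc)] at h8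
    exact orderOf_eq_one_iff.mp (Nat.dvd_one.mp h8)
  exact ⟨k, Subtype.ext h7⟩

/-- an automorphism of prime order `q ≠ p` of a `p`-group of `p`-rank at most 2 (`p` odd) has
`q ∣ p ^ 2 - 1` and `q < p`. -/
theorem prime_order_aut_of_rank2 {R : Type u} [Group R] [Finite R] (p : ℕ) [Fact p.Prime]
    (hp : p ≠ 2) (hR : IsPGroup p R) (hr : PRankLE p 2 R) (α : MulAut R) (q : ℕ) (hq : q.Prime)
    (hqp : q ≠ p) (hα : orderOf α = q) : q ∣ p ^ 2 - 1 ∧ q < p := by
  obtain ⟨W, hW, hexp, hcard, hfaith⟩ := rank2_exists p hp hR hr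
  haveI : Fact q.Prime := ⟨hq⟩
  have hpp : p.Prime := Fact.out
  have hqpc : Nat.Coprime q p := (Nat.coprime_primes hq hpp).mpr hqp
  set ψ := abAut ↥W (resChar W hW α) with hψ
  have hψ1 : ψ ≠ 1 := by
    intro h
    have h1 := hfaith α (by rw [hα]; exact hqpc) h
    rw [h1, orderOf_one] at hα
    exact hq.ne_one hα.symm
  have hψq : ψ ^ q = 1 := by
    rw [hψ, ← map_pow, ← map_pow, ← hα, pow_orderOf_eq_one, map_one, map_one]
  have hordψ : orderOf ψ = q := by
    rcases (Nat.dvd_prime hq).mp (orderOf_dvd_of_pow_eq_one hψq) with h | h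
    · exact absurd (orderOf_eq_one_iff.mp h) hψ1
    · exact h
  -- the fixed point subgroup
  let Fix : Subgroup (Abelianization ↥W) :=
    { carrier := {x | ψ x = x}
      mul_mem' := by
        intro a b ha hb
        show ψ (a * b) = a * b
        rw [map_mul, show ψ a = a from ha, show ψ b = b from hb]
      one_mem' := map_one ψ
      inv_mem' := by
        intro a ha
        show ψ a⁻¹ = a⁻¹
        rw [map_inv, show ψ a = a from ha] }
  have hFixne : Fix ≠ ⊤ := by
    intro h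
    apply hψ1
    ext x
    have : x ∈ Fix := by rw [h]; trivial
    exact this
  have hVp : IsPGroup p (Abelianization ↥W) := by
    intro x
    exact ⟨1, by rw [pow_one]; exact hexp x⟩
  obtain ⟨k, hk⟩ := IsPGroup.iff_card.mp hVp
  obtain ⟨j, hj⟩ := IsPGroup.iff_card.mp (hVp.to_subgroup Fix)
  have hk2 : k ≤ 2 := by
    rw [hk] at hcard
    exact (Nat.pow_le_pow_iff_right hpp.one_lt).mp hcard
  have hjk : j < k := by
    have h1 : Nat.card Fix ∣ Nat.card (Abelianization ↥W) := Subgroup.card_subgroup_dvd_card Fix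
    rw [hj, hk] at h1
    have h2 : j ≤ k := (Nat.pow_dvd_pow_iff_le_right hpp.one_lt).mp h1
    rcases Nat.lt_or_ge j k with h3 | h3
    · exact h3
    · exfalso
      apply hFixne
      apply Subgroup.eq_top_of_card_eq
      rw [hj, hk, le_antisymm h2 h3]
  -- counting fixed points
  have hZq : IsPGroup q (Subgroup.zpowers ψ) := by
    apply IsPGroup.of_card (n := 1)
    rw [Nat.card_zpowers, hordψ, pow_one]
  have hmod := hZq.card_modEq_card_fixedPoints (Abelianization ↥W)
  have hfp : MulAction.fixedPoints (Subgroup.zpowers ψ) (Abelianization ↥W) =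
      (Fix : Set (Abelianization ↥W)) := by
    ext x
    constructor
    · intro hx
      exact hx ⟨ψ, Subgroup.mem_zpowers ψ⟩
    · intro hx g
      have h1 : Subgroup.zpowers ψ ≤ MulAction.stabilizer (MulAut (Abelianization ↥W)) x := by
        rw [Subgroup.zpowers_le]
        exact hx
      exact h1 g.2
  have hcardfp : Nat.card (MulAction.fixedPoints (Subgroup.zpowers ψ) (Abelianization ↥W)) =
      p ^ j := by
    rw [hfp]; exact hj
  rw [hk, hcardfp] at hmod
  have hle : p ^ j ≤ p ^ k := Nat.pow_le_pow_right hpp.pos hjk.le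
  have hdvd : q ∣ p ^ k - p ^ j := (Nat.modEq_iff_dvd' hle).mp hmod.symm
  obtain ⟨e, he1, rfl⟩ : ∃ e, 1 ≤ e ∧ k = j + e := ⟨k - j, by omega, by omega⟩
  have he2 : e ≤ 2 := by omega
  have hfac : p ^ (j + e) - p ^ j = p ^ j * (p ^ e - 1) := by
    rw [pow_add, Nat.mul_sub_one]
  rw [hfac] at hdvd
  have hdvd2 : q ∣ p ^ e - 1 :=
    (Nat.Coprime.dvd_mul_left (Nat.Coprime.pow_right j hqpc)).mp hdvd
  have hp3 : 3 ≤ p := by
    have := hpp.two_le
    omega
  have hsq : p ^ 2 - 1 = (p - 1) * (p + 1) := by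
    obtain ⟨t, rfl⟩ : ∃ t, p = t + 1 := ⟨p - 1, by omega⟩
    have : (t + 1) ^ 2 = t * (t + 1 + 1) + 1 := by ring
    rw [this]
    simp
  have hdvdsq : q ∣ p ^ 2 - 1 := by
    rcases Nat.lt_or_ge e 2 with h | h
    · have he : e = 1 := by omega
      rw [he, pow_one] at hdvd2
      rw [hsq]
      exact dvd_mul_of_dvd_left hdvd2 _
    · have he : e = 2 := by omega
      rw [he] at hdvd2
      exact hdvd2
  refine ⟨hdvdsq, ?_⟩
  rw [hsq] at hdvdsq
  rcases (Nat.Prime.dvd_mul hq).mp hdvdsq with h | h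
  · have := Nat.le_of_dvd (by omega) h
    omega
  · by_cases hq2 : q = 2
    · omega
    · have hodd : Odd p := hpp.odd_of_ne_two hp
      have h2 : 2 ∣ p + 1 := by
        obtain ⟨t, ht⟩ := hodd
        exact ⟨t + 1, by omega⟩
      have hc : Nat.Coprime 2 q := (Nat.coprime_primes Nat.prime_two hq).mpr (Ne.symm hq2)
      have h3 : 2 * q ∣ p + 1 := Nat.Coprime.mul_dvd_of_dvd_of_dvd hc h2 h
      have := Nat.le_of_dvd (by omega) h3
      omega

/-- conjugation action of a subgroup `A ≤ N_G(R)` on `R` -/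
def conjAut {G : Type*} [Group G] (R A : Subgroup G)
    (hA : A ≤ Subgroup.normalizer (R : Set G)) : ↥A →* MulAut ↥R where
  toFun a :=
    { toFun := fun x => ⟨a * x * (a : G)⁻¹, (Subgroup.mem_normalizer_iff.mp (hA a.2) x).mp x.2⟩
      invFun := fun x => ⟨(a : G)⁻¹ * x * a, by
        apply (Subgroup.mem_normalizer_iff.mp (hA a.2) ((a : G)⁻¹ * x * a)).mpr
        have e : (a : G) * ((a : G)⁻¹ * x * a) * (a : G)⁻¹ = x := by group
        rw [e]
        exact x.2⟩
      left_inv := fun x => Subtype.ext (by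
        show (a : G)⁻¹ * ((a : G) * x * (a : G)⁻¹) * a = x
        group)
      right_inv := fun x => Subtype.ext (by
        show (a : G) * ((a : G)⁻¹ * x * a) * (a : G)⁻¹ = x
        group)
      map_mul' := fun x y => Subtype.ext (by
        show (a : G) * (x * y) * (a : G)⁻¹ = ((a : G) * x * (a : G)⁻¹) * ((a : G) * y * (a : G)⁻¹)
        group) }
  map_one' := by
    ext x
    show (1 : G) * x * (1 : G)⁻¹ = x
    group
  map_mul' := by
    intro a b
    ext x
    show ((a : G) * b) * x * ((a : G) * b)⁻¹ = (a : G) * ((b : G) * x * (b : G)⁻¹) * (a : G)⁻¹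
    group

theorem conjAut_apply {G : Type*} [Group G] (R A : Subgroup G)
    (hA : A ≤ Subgroup.normalizer (R : Set G)) (a : ↥A) (x : ↥R) :
    ((conjAut R A hA a x : ↥R) : G) = a * x * (a : G)⁻¹ := rfl

end Cfsg.Agent.Lib.Helper34
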