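import Mathlib
import Cfsg.Agent.Lib.Helper34.Rank2b
import Cfsg.Agent.Lib.Helper34.Quad3
import Cfsg.Agent.Lib.Helper26.NpcBasic

set_option autoImplicit false

namespace Cfsg.Agent.Lib.Helper34

open Cfsg

universe u v

/-- an element of a `p'`-subgroup of `p`-power order is trivial -/
theorem eq_one_of_mem_coprime_of_pow {G : Type*} [Group G] (p : ℕ) (K : Subgroup G) [Finite K]
    (hK : (Nat.card K).Coprime p) (x : G) (hx : x ∈ K) (n : ℕ) (hn : x ^ (p ^ n) = 1) : x = 1 := by
  have h1 : orderOf x ∣ Nat.card K := by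
    have := orderOf_dvd_natCard (⟨x, hx⟩ : ↥K)
    rwa [Subgroup.orderOf_mk] at this
  have h2 : orderOf x ∣ p ^ n := orderOf_dvd_of_pow_eq_one hn
  have h3 := Nat.dvd_gcd h1 h2
  rw [Nat.Coprime.gcd_eq_one (Nat.Coprime.pow_right n hK)] at h3
  exact orderOf_eq_one_iff.mp (Nat.dvd_one.mp h3)

/-- the `p`-rank does not grow in a quotient by a normal `p'`-subgroup -/
theorem prankLE_quotient_of_coprime {G : Type u} [Group G] [Finite G] (p : ℕ) [Fact p.Prime]
    (K : Subgroup G) [K.Normal] (hK : (Nat.card K).Coprime p) (k : ℕ) (hr : PRankLE p k G) :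
    PRankLE p k (G ⧸ K) := by
  intro A hAc hAp
  have hpp : p.Prime := Fact.out
  set L : Subgroup G := A.comap (QuotientGroup.mk' K) with hL
  have hLcard : Nat.card L = Nat.card K * Nat.card A := Helper30.card_comap_mk' K A
  have hApg : IsPGroup p A := by
    rintro ⟨a, ha⟩
    exact ⟨1, Subtype.ext (by simpa using hAp a ha)⟩
  obtain ⟨j, hj⟩ := IsPGroup.iff_card.mp hApg
  let P : Sylow p ↥L := default
  set B : Subgroup G := (P : Subgroup ↥L).map L.subtype with hB
  have hBcard : Nat.card B = Nat.card (P : Subgroup ↥L) :=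
    Subgroup.card_map_of_injective (Subgroup.subtype_injective L)
  obtain ⟨i, hi⟩ := IsPGroup.iff_card.mp P.isPGroup'
  have hBpow : ∀ b ∈ B, ∃ n : ℕ, b ^ (p ^ n) = 1 := by
    intro b hb
    obtain ⟨y, hy, rfl⟩ := hb
    obtain ⟨n, hn⟩ := P.isPGroup' ⟨y, hy⟩
    refine ⟨n, ?_⟩
    have h1 : (y : ↥L) ^ (p ^ n) = 1 := by
      have := congrArg Subtype.val hn
      simpa using this
    have h2 := congrArg Subtype.val h1
    simpa using h2
  have hBL : B ≤ L := by
    rintro b ⟨y, -, rfl⟩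
    exact y.2
  have hBA : ∀ b ∈ B, QuotientGroup.mk' K b ∈ A := fun b hb => hBL hb
  have hBc : IsMulCommutative B := by
    refine ⟨⟨fun a b => Subtype.ext ?_⟩⟩
    show (a : G) * b = b * a
    have h1 : QuotientGroup.mk' K (a : G) * QuotientGroup.mk' K (b : G) =
        QuotientGroup.mk' K (b : G) * QuotientGroup.mk' K (a : G) :=
      congrArg Subtype.val (hAc.is_comm.comm ⟨_, hBA a a.2⟩ ⟨_, hBA b b.2⟩)
    have h2 : (a : G) * b * ((b : G) * a)⁻¹ ∈ K := by
      rw [← QuotientGroup.eq_one_iff (N := K)]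
      show QuotientGroup.mk' K ((a : G) * b * ((b : G) * a)⁻¹) = 1
      rw [map_mul, map_inv, map_mul, map_mul, h1, mul_inv_cancel]
    obtain ⟨n, hn⟩ := hBpow _ (B.mul_mem (B.mul_mem a.2 b.2) (B.inv_mem (B.mul_mem b.2 a.2)))
    have h3 := eq_one_of_mem_coprime_of_pow p K hK _ h2 n hn
    exact mul_inv_eq_one.mp h3
  have hBp : ∀ b ∈ B, b ^ p = 1 := by
    intro b hb
    have h2 : b ^ p ∈ K := by
      rw [← QuotientGroup.eq_one_iff (N := K)]
      show QuotientGroup.mk' K (b ^ p) = 1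
      rw [map_pow]
      exact hAp _ (hBA b hb)
    obtain ⟨n, hn⟩ := hBpow _ (B.pow_mem hb p)
    exact eq_one_of_mem_coprime_of_pow p K hK _ h2 n hn
  have hBle := hr B hBc hBp
  have hidx : ¬ p ∣ (P : Subgroup ↥L).index := P.not_dvd_index
  have hmul : Nat.card (P : Subgroup ↥L) * (P : Subgroup ↥L).index = Nat.card L :=
    Subgroup.card_mul_index _
  have hdvd : p ^ j ∣ p ^ i := by
    have h1 : p ^ j ∣ p ^ i * (P : Subgroup ↥L).index := by
      rw [← hi, hmul, hLcard, hj]
      exact dvd_mul_left _ _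
    exact (Nat.Coprime.dvd_mul_right (Nat.Coprime.pow_left j
      ((Nat.Prime.coprime_iff_not_dvd hpp).mpr hidx))).mp h1
  calc Nat.card A = p ^ j := hj
    _ ≤ p ^ i := Nat.le_of_dvd (pow_pos hpp.pos i) hdvd
    _ = Nat.card B := by rw [hBcard, hi]
    _ ≤ p ^ k := hBle

/-- a subgroup of order prime to `p` lies in every normal subgroup of `p`-power index -/
theorem le_of_coprime_of_index_pow {H : Type*} [Group H] [Finite H] (p : ℕ) (N : Subgroup H)
    [N.Normal] (k : ℕ) (hk : N.index = p ^ k) (L : Subgroup H) (hL : (Nat.card L).Coprime p) :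
    L ≤ N := by
  intro x hx
  rw [← QuotientGroup.eq_one_iff (N := N)]
  have h1 : orderOf (x : H ⧸ N) ∣ p ^ k := by
    rw [← hk, Subgroup.index_eq_card]
    exact orderOf_dvd_natCard _
  have h2 : orderOf (x : H ⧸ N) ∣ Nat.card L := by
    have h3 : orderOf (QuotientGroup.mk' N x) ∣ orderOf x := orderOf_map_dvd _ x
    have h4 : orderOf x ∣ Nat.card L := by
      have := orderOf_dvd_natCard (⟨x, hx⟩ : ↥L)
      rwa [Subgroup.orderOf_mk] at this
    exact dvd_trans h3 h4
  have h5 := Nat.dvd_gcd h2 h1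
  rw [Nat.Coprime.gcd_eq_one (Nat.Coprime.pow_right k hL)] at h5
  exact orderOf_eq_one_iff.mp (Nat.dvd_one.mp h5)

/-- The common conclusions of B&G 4.18/4.20-type results, derived from: `(G / O_{p'}(G))'` is a
`p`-group and all prime divisors of `|G : O_{p'}(G)|` are at most `p`. -/
theorem npc_conclusions {G : Type u} [Group G] [Finite G] (hodd : Odd (Nat.card G)) (p : ℕ)
    [Fact p.Prime]
    (h1 : IsPGroup p (commutator (G ⧸ pPrimeCore p G)))
    (h2 : ∀ q : ℕ, q.Prime → q ∣ (pPrimeCore p G).index → q ≤ p) :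
    (∀ q : ℕ, q.Prime → q ∣ (Cfsg.pPrimeCore p G).index → q ≤ p) ∧
      ((p = 3 ∨ ∀ q : ℕ, q.Prime → q ∣ Nat.card G → p ≤ q) → Cfsg.HasNormalPComplement p G) ∧
      Cfsg.HasNormalPComplement p ↥(commutator G) ∧
      (∀ L : Subgroup ↥(commutator G), (Nat.card L).Coprime p →
        L ≤ Cfsg.pPrimeCore p ↥(commutator G)) ∧
      commutator G ≤ Cfsg.pPrimePCore p G ∧ ((Cfsg.pPrimePCore p G).index).Coprime p := by
  have hpp : p.Prime := Fact.out
  have hKn : (pPrimeCore p G).Normal := Helper30.pPrimeCore_normal p G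
  have hKc : (Nat.card (pPrimeCore p G)).Coprime p := Helper30.pPrimeCore_coprime p
  have hRn : (pCore p (G ⧸ pPrimeCore p G)).Normal := Helper30.pCore_normal p _
  have hDR : commutator (G ⧸ pPrimeCore p G) ≤ pCore p (G ⧸ pPrimeCore p G) :=
    Helper30.le_pCore_of_normal inferInstance h1
  have hmapD : ∀ g ∈ commutator G,
      QuotientGroup.mk' (pPrimeCore p G) g ∈ commutator (G ⧸ pPrimeCore p G) := by
    intro g hg
    have h3 : (commutator G).map (QuotientGroup.mk' (pPrimeCore p G)) ≤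
        commutator (G ⧸ pPrimeCore p G) := by
      rw [commutator_def, commutator_def, Subgroup.map_commutator]
      exact Subgroup.commutator_mono le_top le_top
    exact h3 ⟨g, hg, rfl⟩
  -- the commutator subgroup has a normal p-complement
  let ψ : ↥(commutator G) →* G ⧸ pPrimeCore p G :=
    (QuotientGroup.mk' (pPrimeCore p G)).comp (commutator G).subtype
  have hψr : ψ.range ≤ commutator (G ⧸ pPrimeCore p G) := by
    rintro _ ⟨d, rfl⟩
    exact hmapD d d.2
  have hψker : (Nat.card ψ.ker).Coprime p := by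
    have h3 : ψ.ker = (pPrimeCore p G).comap (commutator G).subtype := by
      ext d
      rw [MonoidHom.mem_ker, Subgroup.mem_comap]
      exact QuotientGroup.eq_one_iff _
    rw [h3]
    exact Nat.Coprime.coprime_dvd_left
      (Subgroup.card_comap_dvd_of_injective _ _ (Subgroup.subtype_injective _)) hKc
  obtain ⟨kψ, hkψ⟩ : ∃ k : ℕ, ψ.ker.index = p ^ k := by
    rw [Subgroup.index_ker]
    exact IsPGroup.iff_card.mp (h1.to_le hψr)
  refine ⟨h2, ?_, ?_, ?_, ?_, ?_⟩
  · intro hcase
    apply Helper26.hasNPC_of_npc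
    refine ⟨pPrimeCore p G, hKn, hKc, ?_⟩
    have hall : ∀ {d : ℕ}, d.Prime → d ∣ (pPrimeCore p G).index → d = p := by
      intro d hd hdvd
      have hle := h2 d hd hdvd
      have hdG : d ∣ Nat.card G := dvd_trans hdvd (Subgroup.index_dvd_card _)
      rcases hcase with h3 | h3
      · have hd2 : d ≠ 2 := by
          rintro rfl
          exact (Nat.not_even_iff_odd.mpr hodd) (even_iff_two_dvd.mpr hdG)
        have := hd.two_le
        omega
      · exact le_antisymm hle (h3 d hd hdG)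
    exact ⟨_, Nat.eq_prime_pow_of_unique_prime_dvd
      (Subgroup.index_ne_zero_of_finite) hall⟩
  · apply Helper26.hasNPC_of_npc
    exact ⟨ψ.ker, inferInstance, hψker, kψ, hkψ⟩
  · intro L hL
    exact le_trans (le_of_coprime_of_index_pow p ψ.ker kψ hkψ L hL)
      (Helper30.le_pPrimeCore_of_normal inferInstance hψker)
  · intro g hg
    show g ∈ (pCore p (G ⧸ pPrimeCore p G)).comap (QuotientGroup.mk' (pPrimeCore p G))
    rw [Subgroup.mem_comap]
    exact hDR (hmapD g hg)
  · show ((pCore p (G ⧸ pPrimeCore p G)).comap (QuotientGroup.mk' (pPrimeCore p G))).index.Coprime p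
    rw [Subgroup.index_comap_of_surjective _ (QuotientGroup.mk'_surjective _)]
    obtain ⟨P, hP⟩ := IsPGroup.exists_le_sylow
      (Helper30.pCore_isPGroup (G := G ⧸ pPrimeCore p G) p)
    have hPn : (P : Subgroup (G ⧸ pPrimeCore p G)).Normal :=
      Subgroup.Normal.of_commutator_le _ (le_trans hDR hP)
    have hPR : (P : Subgroup (G ⧸ pPrimeCore p G)) = pCore p (G ⧸ pPrimeCore p G) :=
      le_antisymm (Helper30.le_pCore_of_normal hPn P.isPGroup') hP
    rw [← hPR]
    exact ((Nat.Prime.coprime_iff_not_dvd hpp).mpr P.not_dvd_index).symm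

/-- the `p`-rank of a subgroup is at most that of the group -/
theorem prankLE_subgroup {G : Type*} [Group G] (p k : ℕ) (hr : PRankLE p k G) (R : Subgroup G) :
    PRankLE p k ↥R := by
  intro A hAc hAp
  have h1 : Nat.card (A.map R.subtype) = Nat.card A :=
    Subgroup.card_map_of_injective (Subgroup.subtype_injective R)
  rw [← h1]
  apply hr
  · refine ⟨⟨?_⟩⟩
    rintro ⟨_, a, ha, rfl⟩ ⟨_, b, hb, rfl⟩
    apply Subtype.ext
    show R.subtype a * R.subtype b = R.subtype b * R.subtype a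
    rw [← map_mul, ← map_mul]
    exact congrArg R.subtype (congrArg Subtype.val (hAc.is_comm.comm ⟨a, ha⟩ ⟨b, hb⟩))
  · rintro _ ⟨a, ha, rfl⟩
    rw [← map_pow, hAp a ha, map_one]

/-- **B&G 4.18, core.** `G` solvable of odd order with `p`-rank at most 2: the derived subgroup
of `G / O_{p'}(G)` is a `p`-group and the primes dividing `|G : O_{p'}(G)|` other than `p` are
smaller than `p`. -/
theorem rank2_quotient_core {G : Type u} [Group G] [Finite G] [Group.IsSolvable G]
    (hodd : Odd (Nat.card G)) (p : ℕ) [Fact p.Prime] (hr : PRankLE p 2 G) (hp : p ≠ 2) :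
    IsPGroup p (commutator (G ⧸ pPrimeCore p G)) ∧
      ∀ q : ℕ, q.Prime → q ∣ (pPrimeCore p G).index → q ≤ p := by
  have hpp : p.Prime := Fact.out
  have hKn : (pPrimeCore p G).Normal := Helper30.pPrimeCore_normal p G
  have hKc : (Nat.card (pPrimeCore p G)).Coprime p := Helper30.pPrimeCore_coprime p
  have hRn : (pCore p (G ⧸ pPrimeCore p G)).Normal := Helper30.pCore_normal p _
  have hRp : IsPGroup p ↥(pCore p (G ⧸ pPrimeCore p G)) := Helper30.pCore_isPGroup p
  have hRr : PRankLE p 2 ↥(pCore p (G ⧸ pPrimeCore p G)) :=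
    prankLE_subgroup p 2 (prankLE_quotient_of_coprime p (pPrimeCore p G) hKc 2 hr) _
  have hcent : Subgroup.centralizer (pCore p (G ⧸ pPrimeCore p G) : Set (G ⧸ pPrimeCore p G)) ≤
      pCore p (G ⧸ pPrimeCore p G) :=
    solv_centralizer_pCore_le p (Helper30.pPrimeCore_quotient_eq_bot p)
  have hs : Group.IsSolvable (G ⧸ pPrimeCore p G) := inferInstance
  have hodd' : Odd (Nat.card (G ⧸ pPrimeCore p G)) := by
    have h1 : Nat.card (G ⧸ pPrimeCore p G) ∣ Nat.card G := by
      rw [← Subgroup.index_eq_card]; exact Subgroup.index_dvd_card _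
    exact Odd.of_dvd_nat hodd h1
  let θ : (G ⧸ pPrimeCore p G) →* MulAut ↥(pCore p (G ⧸ pPrimeCore p G)) :=
    MulAut.conjNormal
  have hker : ∀ h : G ⧸ pPrimeCore p G, θ h = 1 → ∃ k : ℕ, h ^ (p ^ k) = 1 := by
    intro h hh
    have h1 : h ∈ Subgroup.centralizer
        (pCore p (G ⧸ pPrimeCore p G) : Set (G ⧸ pPrimeCore p G)) := by
      apply Subgroup.mem_centralizer_iff.mpr
      intro x hx
      have h2 : ((θ h ⟨x, hx⟩ : ↥(pCore p (G ⧸ pPrimeCore p G))) : G ⧸ pPrimeCore p G) =
          h * x * h⁻¹ := MulAut.conjNormal_apply h ⟨x, hx⟩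
      rw [hh] at h2
      have h3 : x = h * x * h⁻¹ := h2
      calc x * h = (h * x * h⁻¹) * h := by rw [← h3]
        _ = h * x := by group
    obtain ⟨k, hk⟩ := hRp ⟨h, hcent h1⟩
    exact ⟨k, by simpa using congrArg Subtype.val hk⟩
  refine ⟨commutator_isPGroup_of_rank2 p hp hRp hRr hs hodd' θ hker, ?_⟩
  intro q hq hdvd
  by_cases hqp : q = p
  · exact hqp.le
  · haveI : Fact q.Prime := ⟨hq⟩
    rw [Subgroup.index_eq_card] at hdvd
    obtain ⟨x, hx⟩ := exists_prime_orderOf_dvd_card' q hdvd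
    have h1 : (θ x) ^ q = 1 := by rw [← map_pow, ← hx, pow_orderOf_eq_one, map_one]
    have h2 : θ x ≠ 1 := by
      intro h
      obtain ⟨k, hk⟩ := hker x h
      have h3 : q ∣ p ^ k := by rw [← hx]; exact orderOf_dvd_of_pow_eq_one hk
      exact hqp ((Nat.prime_dvd_prime_iff_eq hq hpp).mp (hq.dvd_of_dvd_pow h3))
    have h3 : orderOf (θ x) = q := by
      rcases (Nat.dvd_prime hq).mp (orderOf_dvd_of_pow_eq_one h1) with h | h
      · exact absurd (orderOf_eq_one_iff.mp h) h2
      · exact h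
    exact (prime_order_aut_of_rank2 p hp hRp hRr (θ x) q hq hqp h3).2.le

end Cfsg.Agent.Lib.Helper34
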