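import Mathlib
import Cfsg.Agent.Lib.Helper34.Rank2c
import Cfsg.Agent.Lib.Helper30.Basic
import Cfsg.Agent.Lib.Helper30.PType

set_option autoImplicit false

namespace Cfsg.Agent.Lib.Helper34

open Cfsg

universe u v

/-- if `x ^ a` and `x ^ b` lie in a subgroup and `a`, `b` are coprime, so does `x` -/
theorem mem_of_pow_mem_of_coprime {G : Type*} [Group G] (S : Subgroup G) (x : G) (a b : ℕ)
    (hab : Nat.Coprime a b) (ha : x ^ a ∈ S) (hb : x ^ b ∈ S) : x ∈ S := by
  have h1 : (a : ℤ) * Nat.gcdA a b + (b : ℤ) * Nat.gcdB a b = 1 := by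
    have := Nat.gcd_eq_gcd_ab a b
    rw [Nat.Coprime.gcd_eq_one hab] at this
    exact_mod_cast this.symm
  have h2 : x = (x ^ a) ^ (Nat.gcdA a b) * (x ^ b) ^ (Nat.gcdB a b) := by
    rw [← zpow_natCast, ← zpow_natCast, ← zpow_mul, ← zpow_mul, ← zpow_add, h1, zpow_one]
  rw [h2]
  exact S.mul_mem (S.zpow_mem ha _) (S.zpow_mem hb _)

theorem mem_of_pow_mem_of_coprime' {G : Type*} [Group G] (S : Subgroup G) (x : G) (a b : ℕ)
    (hab : Nat.Coprime a b) (ha : x ^ a ∈ S) (hb : x ^ b = 1) : x ∈ S :=
  mem_of_pow_mem_of_coprime S x a b hab ha (by rw [hb]; exact S.one_mem)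

/-- a subgroup `D` lies in `S` as soon as its elements of prime power order do -/
theorem le_of_primary_mem {G : Type*} [Group G] [Finite G] (D S : Subgroup G)
    (h : ∀ r : ℕ, r.Prime → ∀ x ∈ D, ∀ k : ℕ, x ^ (r ^ k) = 1 → x ∈ S) : D ≤ S := by
  suffices H : ∀ n : ℕ, ∀ d ∈ D, orderOf d = n → d ∈ S from fun d hd => H _ d hd rfl
  intro n
  induction n using Nat.strong_induction_on with
  | _ n ih =>
    intro d hd hn
    by_cases h1 : n = 1
    · rw [h1] at hn
      rw [orderOf_eq_one_iff.mp hn]
      exact S.one_mem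
    · have hn0 : n ≠ 0 := by rw [← hn]; exact (orderOf_pos d).ne'
      obtain ⟨r, hr, hrn⟩ := Nat.exists_prime_and_dvd h1
      have hfac : r ^ n.factorization r * (n / r ^ n.factorization r) = n :=
        Nat.ordProj_mul_ordCompl_eq_self n r
      have hcop : Nat.Coprime (r ^ n.factorization r) (n / r ^ n.factorization r) :=
        Nat.Coprime.pow_left _ (Nat.coprime_ordCompl hr hn0)
      have hapos : 0 < n.factorization r := Nat.Prime.factorization_pos_of_dvd hr hn0 hrn
      have hm0 : 0 < n / r ^ n.factorization r := by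
        rcases Nat.eq_zero_or_pos (n / r ^ n.factorization r) with h0 | h0
        · rw [h0, mul_zero] at hfac; exact absurd hfac.symm hn0
        · exact h0
      have hlt : n / r ^ n.factorization r < n := by
        have h2 : 2 ≤ r ^ n.factorization r :=
          le_trans hr.two_le (Nat.le_self_pow hapos.ne' r)
        nlinarith
      have e1 : (d ^ (n / r ^ n.factorization r)) ^ (r ^ n.factorization r) = 1 := by
        rw [← pow_mul, mul_comm, hfac, ← hn, pow_orderOf_eq_one]
      have e2 : (d ^ (r ^ n.factorization r)) ^ (n / r ^ n.factorization r) = 1 := by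
        rw [← pow_mul, hfac, ← hn, pow_orderOf_eq_one]
      have m1 : d ^ (n / r ^ n.factorization r) ∈ S := h r hr _ (D.pow_mem hd _) _ e1
      have m2 : d ^ (r ^ n.factorization r) ∈ S := by
        have h3 : orderOf (d ^ (r ^ n.factorization r)) ≤ n / r ^ n.factorization r :=
          Nat.le_of_dvd hm0 (orderOf_dvd_of_pow_eq_one e2)
        exact ih _ (lt_of_le_of_lt h3 hlt) _ (D.pow_mem hd _) rfl
      exact mem_of_pow_mem_of_coprime S d _ _ hcop m2 m1

/-- **Transfer lemma.** If every `t`-element of a finite group `M` is central and `M` is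
generated by elements of order prime to `t`, then `t` does not divide `|M|`. -/
theorem not_dvd_card_of_central_of_closure {M : Type*} [Group M] [Finite M] (t : ℕ)
    [Fact t.Prime]
    (hcent : ∀ m : M, ∀ k : ℕ, m ^ (t ^ k) = 1 → m ∈ Subgroup.center M)
    (X : Set M) (hX : Subgroup.closure X = ⊤) (hXt : ∀ x ∈ X, ¬ t ∣ orderOf x) :
    ¬ t ∣ Nat.card M := by
  intro hdvd
  have ht : t.Prime := Fact.out
  have hcard0 : Nat.card M ≠ 0 := Nat.card_pos.ne'
  have hc_t : ¬ t ∣ (Subgroup.center M).index := by
    let T : Sylow t M := default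
    have hT : (T : Subgroup M) ≤ Subgroup.center M := by
      intro m hm
      obtain ⟨k, hk⟩ := T.isPGroup' ⟨m, hm⟩
      exact hcent m k (by simpa using congrArg Subtype.val hk)
    intro h
    exact T.not_dvd_index (dvd_trans h (Subgroup.index_dvd_of_le hT))
  have hcomm : ∀ a b : ↥(Subgroup.center M), Commute a b := fun a b =>
    Subtype.ext (Subgroup.mem_center_iff.mp b.2 a)
  let σ : M →* Subgroup.center M :=
    { toFun := fun x => (MonoidHom.transferCenterPow M x) ^
        (Nat.card M / t ^ (Nat.card M).factorization t)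
      map_one' := by rw [map_one, one_pow]
      map_mul' := fun a b => by rw [map_mul, (hcomm _ _).mul_pow] }
  have hσval : ∀ x : M, ((σ x : Subgroup.center M) : M) =
      (x ^ (Subgroup.center M).index) ^ (Nat.card M / t ^ (Nat.card M).factorization t) := by
    intro x
    show (((MonoidHom.transferCenterPow M x) ^
      (Nat.card M / t ^ (Nat.card M).factorization t) : Subgroup.center M) : M) = _
    rw [Subgroup.coe_pow, MonoidHom.transferCenterPow_apply]
  have hσ : σ = 1 := by
    apply MonoidHom.eq_of_eqOn_dense hX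
    intro x hx
    show σ x = 1
    have h1 : orderOf x ∣ Nat.card M / t ^ (Nat.card M).factorization t :=
      Nat.dvd_ordCompl_of_dvd_not_dvd (orderOf_dvd_natCard x) (hXt x hx)
    apply Subtype.ext
    rw [hσval, ← pow_mul, mul_comm, pow_mul, orderOf_dvd_iff_pow_eq_one.mp h1, one_pow]
    rfl
  obtain ⟨x, hx⟩ := exists_prime_orderOf_dvd_card' t hdvd
  have h2 : x ^ ((Subgroup.center M).index *
      (Nat.card M / t ^ (Nat.card M).factorization t)) = 1 := by
    have h3 : σ x = 1 := by rw [hσ]; rfl
    have h4 := congrArg Subtype.val h3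
    rw [hσval] at h4
    rw [pow_mul]; exact h4
  have h6 : t ∣ (Subgroup.center M).index *
      (Nat.card M / t ^ (Nat.card M).factorization t) := by
    have h7 := orderOf_dvd_of_pow_eq_one h2
    rwa [hx] at h7
  rcases (Nat.Prime.dvd_mul ht).mp h6 with h | h
  · exact hc_t h
  · exact Nat.not_dvd_ordCompl ht hcard0 h

/-- the closure of a conjugation-invariant set is normal -/
theorem closure_normal_of_conj_mem {G : Type*} [Group G] (X : Set G)
    (h : ∀ g : G, ∀ x ∈ X, g * x * g⁻¹ ∈ X) : (Subgroup.closure X).Normal := by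
  refine ⟨fun n hn g => ?_⟩
  induction hn using Subgroup.closure_induction with
  | mem x hx => exact Subgroup.subset_closure (h g x hx)
  | one => simp
  | mul a b _ _ ha hb =>
    have e : g * (a * b) * g⁻¹ = (g * a * g⁻¹) * (g * b * g⁻¹) := by group
    rw [e]; exact Subgroup.mul_mem _ ha hb
  | inv a _ ha =>
    have e : g * a⁻¹ * g⁻¹ = (g * a * g⁻¹)⁻¹ := by group
    rw [e]; exact Subgroup.inv_mem _ ha

/-- `p`-rank bounds pull back along injective homomorphisms -/
theorem prankLE_of_injective {A : Type*} {B : Type*} [Group A] [Group B] (p k : ℕ)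
    (f : A →* B) (hf : Function.Injective f) (hr : PRankLE p k B) : PRankLE p k A := by
  intro E hEc hEp
  have h1 : Nat.card (E.map f) = Nat.card E := Subgroup.card_map_of_injective hf
  rw [← h1]
  apply hr
  · refine ⟨⟨?_⟩⟩
    rintro ⟨_, a, ha, rfl⟩ ⟨_, b, hb, rfl⟩
    apply Subtype.ext
    show f a * f b = f b * f a
    rw [← map_mul, ← map_mul]
    exact congrArg f (congrArg Subtype.val (hEc.is_comm.comm ⟨a, ha⟩ ⟨b, hb⟩))
  · rintro _ ⟨a, ha, rfl⟩
    rw [← map_pow, hEp a ha, map_one]

theorem map_commutator_le {A : Type*} {B : Type*} [Group A] [Group B] (f : A →* B) :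
    (commutator A).map f ≤ commutator B := by
  rw [commutator_def, commutator_def, Subgroup.map_commutator]
  exact Subgroup.commutator_mono le_top le_top

end Cfsg.Agent.Lib.Helper34
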