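import Mathlib
import Cfsg.Prelude.Def_LieExceptional
import Cfsg.Agent.Lib.Helper34.Nilp

set_option autoImplicit false

namespace Cfsg.Agent.Lib.Helper34

variable {G : Type*} [Group G]

/-- Elements of coprime orders in a nilpotent subgroup commute. -/
theorem commute_of_mem_nilpotent {L : Subgroup G} (hL : Group.IsNilpotent L) {a b : G}
    (ha : a ∈ L) (hb : b ∈ L) (h : (orderOf a).Coprime (orderOf b)) : a * b = b * a := by
  have h1 : (orderOf (⟨a, ha⟩ : L)).Coprime (orderOf (⟨b, hb⟩ : L)) := by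
    rw [← Subgroup.orderOf_coe, ← Subgroup.orderOf_coe]; exact h
  have h2 := commute_of_coprime_orderOf (⟨a, ha⟩ : L) ⟨b, hb⟩ h1
  exact Subtype.ext_iff.mp h2

/-- Central elements of prime order in a finite nilpotent subgroup. -/
theorem exists_central_of_prime_dvd [Finite G] {H : Subgroup G} (hH : Group.IsNilpotent H)
    {t : ℕ} (ht : t.Prime) (hd : t ∣ Nat.card H) :
    ∃ z ∈ H, orderOf z = t ∧ ∀ h ∈ H, h * z = z * h := by
  haveI := Fact.mk ht
  obtain ⟨z, hz, hzo⟩ := exists_center_orderOf_eq_prime (N := H) t hd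
  refine ⟨(z : G), z.2, by rw [Subgroup.orderOf_coe]; exact hzo, ?_⟩
  intro h hh
  have := Subgroup.mem_center_iff.mp hz ⟨h, hh⟩
  exact Subtype.ext_iff.mp this

/-- In a CN-group, the centralizer of a nontrivial central element of a maximal nilpotent
subgroup `H` is `H`. -/
theorem centralizer_eq_of_central (hCN : Cfsg.IsCNGroup G) {H : Subgroup G}
    (hmax : ∀ L : Subgroup G, Group.IsNilpotent L → H ≤ L → L = H) {z : G} (hz1 : z ≠ 1)
    (hzc : ∀ h ∈ H, h * z = z * h) : Subgroup.centralizer ({z} : Set G) = H := by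
  apply hmax _ (hCN z hz1)
  intro h hh
  rw [Subgroup.mem_centralizer_iff]
  intro w hw
  rw [Set.mem_singleton_iff] at hw; subst hw
  exact (hzc h hh).symm

theorem mem_centralizer_singleton {a z : G} : a ∈ Subgroup.centralizer ({z} : Set G) ↔ z * a = a * z := by
  rw [Subgroup.mem_centralizer_iff]
  constructor
  · intro h; exact h z rfl
  · intro h w hw
    rw [Set.mem_singleton_iff] at hw; subst hw; exact h

/-- The order of an element of a `p`-subgroup is a power of `p`. -/
theorem orderOf_eq_prime_pow_of_mem {p : ℕ} [hp : Fact p.Prime] {P : Subgroup G} (hP : IsPGroup p P)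
    {a : G} (ha : a ∈ P) : ∃ k, orderOf a = p ^ k := by
  obtain ⟨k, hk⟩ := hP ⟨a, ha⟩
  have h1 : a ^ (p ^ k) = 1 := by
    have := Subtype.ext_iff.mp hk
    simpa using this
  obtain ⟨m, -, hm⟩ := (Nat.dvd_prime_pow hp.out).mp (orderOf_dvd_of_pow_eq_one h1)
  exact ⟨m, hm⟩

theorem ne_one_of_orderOf_prime {t : ℕ} (ht : t.Prime) {z : G} (hz : orderOf z = t) : z ≠ 1 := by
  rintro rfl
  rw [orderOf_one] at hz
  exact ht.one_lt.ne hz

/-- If the order of a finite subgroup is divisible by no prime other than `p`, it is a `p`-group;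
contrapositive form. -/
theorem exists_other_prime_of_not_isPGroup [Finite G] {H : Subgroup G} {p : ℕ}
    (hpg : ¬ IsPGroup p H) : ∃ t : ℕ, t.Prime ∧ t ∣ Nat.card H ∧ t ≠ p := by
  by_contra hcon
  push Not at hcon
  apply hpg
  have hne : Nat.card H ≠ 0 := Nat.card_pos.ne'
  exact IsPGroup.of_card (Nat.eq_prime_pow_of_unique_prime_dvd hne (fun {d} hd1 hd2 => hcon d hd1 hd2))

/-- In a finite CN-group, a maximal nilpotent subgroup `H` contains a full Sylow `p`-subgroup of
the group for every prime `p` dividing its order. -/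
theorem exists_sylow_le_of_maxNilp [Finite G] (hCN : Cfsg.IsCNGroup G) {H : Subgroup G}
    (hH : Group.IsNilpotent H)
    (hmax : ∀ L : Subgroup G, Group.IsNilpotent L → H ≤ L → L = H) (p : ℕ) [hp : Fact p.Prime]
    (hd : p ∣ Nat.card H) : ∃ P : Sylow p G, (P : Subgroup G) ≤ H := by
  by_cases hpg : IsPGroup p H
  · obtain ⟨P, hP⟩ := hpg.exists_le_sylow
    have := hmax P P.isPGroup'.isNilpotent hP
    exact ⟨P, this.le⟩
  · obtain ⟨t, ht, htd, htp⟩ := exists_other_prime_of_not_isPGroup hpg
    obtain ⟨y, hyH, hyo, hyc⟩ := exists_central_of_prime_dvd hH hp.out hd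
    obtain ⟨z, hzH, hzo, hzc⟩ := exists_central_of_prime_dvd hH ht htd
    have hy1 : y ≠ 1 := ne_one_of_orderOf_prime hp.out hyo
    have hz1 : z ≠ 1 := ne_one_of_orderOf_prime ht hzo
    have hCy := centralizer_eq_of_central hCN hmax hy1 hyc
    have hCz := centralizer_eq_of_central hCN hmax hz1 hzc
    have hyp : IsPGroup p (Subgroup.zpowers y) :=
      IsPGroup.of_card (n := 1) (by rw [Nat.card_zpowers, hyo, pow_one])
    obtain ⟨P, hP⟩ := hyp.exists_le_sylow
    have hyP : y ∈ (P : Subgroup G) := hP (Subgroup.mem_zpowers y)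
    have hnt : Nontrivial (P : Subgroup G) :=
      ⟨⟨⟨y, hyP⟩, 1, fun h => hy1 (Subtype.ext_iff.mp h)⟩⟩
    have hcn : Nontrivial (Subgroup.center (P : Subgroup G)) := P.isPGroup'.center_nontrivial
    obtain ⟨u, hu1⟩ := exists_ne (1 : Subgroup.center (P : Subgroup G))
    have hucomm : ∀ a (ha : a ∈ (P : Subgroup G)), a * ((u : (P : Subgroup G)) : G) = ((u : (P : Subgroup G)) : G) * a := by
      intro a ha
      have := Subgroup.mem_center_iff.mp u.2 ⟨a, ha⟩
      exact Subtype.ext_iff.mp this
    have hu1' : ((u : (P : Subgroup G)) : G) ≠ 1 := by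
      intro h
      apply hu1
      apply Subtype.ext
      apply Subtype.ext
      exact h
    set u' : G := ((u : (P : Subgroup G)) : G) with hu'
    have hu'P : u' ∈ (P : Subgroup G) := (u : (P : Subgroup G)).2
    have hu'H : u' ∈ H := by
      rw [← hCy, mem_centralizer_singleton]
      exact hucomm y hyP
    obtain ⟨j, hj⟩ := orderOf_eq_prime_pow_of_mem P.isPGroup' hu'P
    have hzu : z * u' = u' * z := by
      apply commute_of_mem_nilpotent hH hzH hu'H
      rw [hzo, hj]
      exact Nat.Coprime.pow_right j ((Nat.coprime_primes ht hp.out).mpr htp)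
    have hC : Group.IsNilpotent (Subgroup.centralizer ({u'} : Set G)) := hCN u' hu1'
    refine ⟨P, ?_⟩
    intro a ha
    obtain ⟨i, hi⟩ := orderOf_eq_prime_pow_of_mem P.isPGroup' ha
    have haC : a ∈ Subgroup.centralizer ({u'} : Set G) := by
      rw [mem_centralizer_singleton]; exact (hucomm a ha).symm
    have hzC : z ∈ Subgroup.centralizer ({u'} : Set G) := by
      rw [mem_centralizer_singleton]; exact hzu.symm
    have : z * a = a * z := by
      apply commute_of_mem_nilpotent hC hzC haC
      rw [hzo, hi]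
      exact Nat.Coprime.pow_right i ((Nat.coprime_primes ht hp.out).mpr htp)
    rw [← hCz, mem_centralizer_singleton]
    exact this

/-- Membership in a conjugate subgroup. -/
theorem mem_map_conj {H : Subgroup G} {g a : G} :
    a ∈ H.map (MulAut.conj g).toMonoidHom ↔ g⁻¹ * a * g ∈ H := by
  constructor
  · rintro ⟨h, hh, rfl⟩
    have : g⁻¹ * ((MulAut.conj g).toMonoidHom h) * g = h := by
      simp [MulAut.conj_apply, mul_assoc]
    rw [this]; exact hh
  · intro h
    exact ⟨g⁻¹ * a * g, h, by simp [MulAut.conj_apply, mul_assoc]⟩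

/-- An element of prime order obtained as a power of a nontrivial element of finite order. -/
theorem exists_pow_prime_order [Finite G] {x : G} (hx : x ≠ 1) :
    ∃ (s : ℕ) (m : ℕ), s.Prime ∧ orderOf (x ^ m) = s := by
  have hox : orderOf x ≠ 1 := fun h => hx (orderOf_eq_one_iff.mp h)
  exact ⟨Nat.minFac (orderOf x), orderOf x / Nat.minFac (orderOf x), Nat.minFac_prime hox,
    orderOf_pow_orderOf_div (orderOf_pos x).ne' (Nat.minFac_dvd _)⟩

end Cfsg.Agent.Lib.Helper34
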