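import Mathlib
import Cfsg.Prelude.Def_LieExceptional
import Cfsg.Agent.Lib.Helper34.CN

set_option autoImplicit false

namespace Cfsg.Agent.Lib.Helper34

variable {G : Type*} [Group G]

open scoped Pointwise

theorem mem_sylow_smul {p : ℕ} {P : Sylow p G} {g a : G} :
    a ∈ ((g • P : Sylow p G) : Subgroup G) ↔ g⁻¹ * a * g ∈ (P : Subgroup G) := by
  rw [Sylow.coe_subgroup_smul, Subgroup.mem_pointwise_smul_iff_inv_smul_mem]
  rw [MulAut.smul_def, MulAut.conj_inv_apply]

theorem isNilpotent_map_conj {H : Subgroup G} (hH : Group.IsNilpotent H) (g : G) :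
    Group.IsNilpotent (H.map (MulAut.conj g).toMonoidHom) :=
  haveI := hH
  Group.nilpotent_of_mulEquiv (H.equivMapOfInjective _ (MulAut.conj g).injective)

/-- In a finite group every nilpotent subgroup lies in a maximal nilpotent subgroup. -/
theorem exists_maxNilp_ge [Finite G] {L₀ : Subgroup G} (h₀ : Group.IsNilpotent L₀) :
    ∃ H : Subgroup G, L₀ ≤ H ∧ Group.IsNilpotent H ∧
      ∀ L : Subgroup G, Group.IsNilpotent L → H ≤ L → L = H := by
  obtain ⟨H, hle, hmax⟩ := Set.Finite.exists_le_maximal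
    (s := {L : Subgroup G | Group.IsNilpotent L}) (Set.toFinite _) h₀
  refine ⟨H, hle, hmax.1, ?_⟩
  intro L hL hHL
  exact le_antisymm (hmax.2 hL hHL) hHL

/-- In a finite CN-group, two maximal nilpotent subgroups whose orders have a common prime divisor
are conjugate. -/
theorem conj_of_common_prime [Finite G] (hCN : Cfsg.IsCNGroup G) {H₁ H₂ : Subgroup G}
    (hH₁ : Group.IsNilpotent H₁)
    (hmax₁ : ∀ L : Subgroup G, Group.IsNilpotent L → H₁ ≤ L → L = H₁)
    (hH₂ : Group.IsNilpotent H₂)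
    (hmax₂ : ∀ L : Subgroup G, Group.IsNilpotent L → H₂ ≤ L → L = H₂)
    {s : ℕ} (hs : s.Prime) (hd₁ : s ∣ Nat.card H₁) (hd₂ : s ∣ Nat.card H₂) :
    ∃ g : G, H₂ = H₁.map (MulAut.conj g).toMonoidHom := by
  haveI := Fact.mk hs
  obtain ⟨P₁, hP₁⟩ := exists_sylow_le_of_maxNilp hCN hH₁ hmax₁ s hd₁
  obtain ⟨P₂, hP₂⟩ := exists_sylow_le_of_maxNilp hCN hH₂ hmax₂ s hd₂
  obtain ⟨g, hg⟩ := MulAction.exists_smul_eq G P₁ P₂
  have hP12 : ∀ a : G, a ∈ (P₂ : Subgroup G) ↔ g⁻¹ * a * g ∈ (P₁ : Subgroup G) := by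
    intro a; rw [← hg]; exact mem_sylow_smul
  refine ⟨g, ?_⟩
  symm
  apply hmax₂ _ (isNilpotent_map_conj hH₁ g)
  by_cases hpg : IsPGroup s H₁
  · have hHP : H₁ = P₁ := P₁.is_maximal' hpg hP₁
    have hL := hmax₁ _ (isNilpotent_map_conj hH₂ g⁻¹) (by
      intro h hh
      rw [mem_map_conj, inv_inv]
      apply hP₂
      rw [hP12]
      have : g⁻¹ * (g * h * g⁻¹) * g = h := by group
      rw [this, ← hHP]; exact hh)
    intro a ha
    rw [mem_map_conj, ← hL, mem_map_conj, inv_inv]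
    have : g * (g⁻¹ * a * g) * g⁻¹ = a := by group
    rw [this]; exact ha
  · obtain ⟨t, ht, htd, hts⟩ := exists_other_prime_of_not_isPGroup hpg
    obtain ⟨zt, hztH, hzto, hztc⟩ := exists_central_of_prime_dvd hH₁ ht htd
    obtain ⟨zs, hzsH, hzso, hzsc⟩ := exists_central_of_prime_dvd hH₁ hs hd₁
    obtain ⟨ws, hwsH, hwso, hwsc⟩ := exists_central_of_prime_dvd hH₂ hs hd₂
    have hzt1 : zt ≠ 1 := ne_one_of_orderOf_prime ht hzto
    have hzs1 : zs ≠ 1 := ne_one_of_orderOf_prime hs hzso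
    have hws1 : ws ≠ 1 := ne_one_of_orderOf_prime hs hwso
    have hCzt := centralizer_eq_of_central hCN hmax₁ hzt1 hztc
    have hCzs := centralizer_eq_of_central hCN hmax₁ hzs1 hzsc
    have hCws := centralizer_eq_of_central hCN hmax₂ hws1 hwsc
    -- a nontrivial central element of P₁
    have hP₁nb : (P₁ : Subgroup G) ≠ ⊥ := by
      intro hbot
      have := P₁.ne_bot_of_dvd_card (dvd_trans hd₁ (Subgroup.card_subgroup_dvd_card H₁))
      exact this hbot
    have hnt : Nontrivial (P₁ : Subgroup G) := (Subgroup.nontrivial_iff_ne_bot _).mpr hP₁nb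
    have hcn : Nontrivial (Subgroup.center (P₁ : Subgroup G)) := P₁.isPGroup'.center_nontrivial
    obtain ⟨u, hu1⟩ := exists_ne (1 : Subgroup.center (P₁ : Subgroup G))
    set u₁ : G := ((u : (P₁ : Subgroup G)) : G) with hu₁
    have hu₁P : u₁ ∈ (P₁ : Subgroup G) := (u : (P₁ : Subgroup G)).2
    have hu₁1 : u₁ ≠ 1 := by
      intro h
      apply hu1
      apply Subtype.ext
      apply Subtype.ext
      exact h
    set u₂ : G := g * u₁ * g⁻¹ with hu₂
    have hu₂1 : u₂ ≠ 1 := by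
      intro h
      apply hu₁1
      have : u₁ = g⁻¹ * u₂ * g := by rw [hu₂]; group
      rw [this, h]; group
    have hu₂P : u₂ ∈ (P₂ : Subgroup G) := by
      rw [hP12]
      have : g⁻¹ * u₂ * g = u₁ := by rw [hu₂]; group
      rw [this]; exact hu₁P
    have hu₂H : u₂ ∈ H₂ := hP₂ hu₂P
    have hC : Group.IsNilpotent (Subgroup.centralizer ({u₂} : Set G)) := hCN u₂ hu₂1
    -- the conjugates of zt, zs centralize u₂
    have hconjC : ∀ z : G, z ∈ H₁ → (∀ h ∈ H₁, h * z = z * h) →
        g * z * g⁻¹ ∈ Subgroup.centralizer ({u₂} : Set G) := by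
      intro z _ hzc
      rw [mem_centralizer_singleton]
      have h1 := hzc u₁ (hP₁ hu₁P)
      calc u₂ * (g * z * g⁻¹) = g * (u₁ * z) * g⁻¹ := by rw [hu₂]; group
        _ = g * (z * u₁) * g⁻¹ := by rw [h1]
        _ = g * z * g⁻¹ * u₂ := by rw [hu₂]; group
    have hoconj : ∀ z : G, orderOf (g * z * g⁻¹) = orderOf z := by
      intro z
      have := MulEquiv.orderOf_eq (MulAut.conj g) z
      rwa [MulAut.conj_apply] at this
    have hwsC : ws ∈ Subgroup.centralizer ({u₂} : Set G) := by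
      rw [mem_centralizer_singleton]; exact hwsc u₂ hu₂H
    have hζtH : g * zt * g⁻¹ ∈ H₂ := by
      rw [← hCws, mem_centralizer_singleton]
      apply commute_of_mem_nilpotent hC hwsC (hconjC zt hztH hztc)
      rw [hwso, hoconj, hzto]
      exact (Nat.coprime_primes hs ht).mpr (Ne.symm hts)
    have hnpg₂ : ¬ IsPGroup s H₂ := by
      intro hpg₂
      obtain ⟨j, hj⟩ := orderOf_eq_prime_pow_of_mem hpg₂ hζtH
      rw [hoconj, hzto] at hj
      have : s ∣ t := by
        rcases Nat.eq_zero_or_pos j with h0 | h0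
        · rw [h0, pow_zero] at hj
          exact absurd hj ht.one_lt.ne'
        · rw [hj]; exact dvd_pow_self s h0.ne'
      exact hts ((Nat.prime_dvd_prime_iff_eq hs ht).mp this).symm
    obtain ⟨t', ht', htd', hts'⟩ := exists_other_prime_of_not_isPGroup hnpg₂
    obtain ⟨wt, hwtH, hwto, hwtc⟩ := exists_central_of_prime_dvd hH₂ ht' htd'
    have hwt1 : wt ≠ 1 := ne_one_of_orderOf_prime ht' hwto
    have hCwt := centralizer_eq_of_central hCN hmax₂ hwt1 hwtc
    have hwtC : wt ∈ Subgroup.centralizer ({u₂} : Set G) := by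
      rw [mem_centralizer_singleton]; exact hwtc u₂ hu₂H
    have hζsH : g * zs * g⁻¹ ∈ H₂ := by
      rw [← hCwt, mem_centralizer_singleton]
      apply commute_of_mem_nilpotent hC hwtC (hconjC zs hzsH hzsc)
      rw [hwto, hoconj, hzso]
      exact (Nat.coprime_primes ht' hs).mpr hts'
    intro a ha
    apply mem_of_prime_pow_mem'
    rintro c hc ⟨r, k, hr, hck⟩
    have hcH : c ∈ H₂ := (Subgroup.zpowers_le.mpr ha) hc
    rw [mem_map_conj]
    by_cases hrt : r = t
    · have hrs : r ≠ s := by rw [hrt]; exact hts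
      have h1 : c * (g * zs * g⁻¹) = (g * zs * g⁻¹) * c := by
        apply commute_of_mem_nilpotent hH₂ hcH hζsH
        rw [hck, hoconj, hzso]
        exact Nat.Coprime.pow_left k ((Nat.coprime_primes hr hs).mpr hrs)
      rw [← hCzs, mem_centralizer_singleton]
      calc zs * (g⁻¹ * c * g) = g⁻¹ * ((g * zs * g⁻¹) * c) * g := by group
        _ = g⁻¹ * (c * (g * zs * g⁻¹)) * g := by rw [h1]
        _ = g⁻¹ * c * g * zs := by group
    · have h1 : c * (g * zt * g⁻¹) = (g * zt * g⁻¹) * c := by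
        apply commute_of_mem_nilpotent hH₂ hcH hζtH
        rw [hck, hoconj, hzto]
        exact Nat.Coprime.pow_left k ((Nat.coprime_primes hr ht).mpr hrt)
      rw [← hCzt, mem_centralizer_singleton]
      calc zt * (g⁻¹ * c * g) = g⁻¹ * ((g * zt * g⁻¹) * c) * g := by group
        _ = g⁻¹ * (c * (g * zt * g⁻¹)) * g := by rw [h1]
        _ = g⁻¹ * c * g * zt := by group

end Cfsg.Agent.Lib.Helper34
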