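import Mathlib

set_option autoImplicit false

namespace Cfsg.Agent.Lib.Helper34

section fpf

variable {D : Type*} [Group D] {V : Type*} [CommGroup V]

/-- For a fixed-point-free action on an abelian group, the norm over a nontrivial finite
subgroup is trivial. -/
theorem fpf_norm_eq_one (ρ : D →* MulAut V)
    (hf : ∀ d : D, d ≠ 1 → ∀ v : V, ρ d v = v → v = 1)
    (B : Subgroup D) [Fintype B] (hB : B ≠ ⊥) (v : V) : ∏ y : B, ρ (y : D) v = 1 := by
  obtain ⟨b, hb, hb1⟩ := B.bot_or_exists_ne_one.resolve_left hB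
  apply hf b hb1
  rw [map_prod]
  have h1 : ∀ y : B, ρ b (ρ (y : D) v) = ρ ((⟨b, hb⟩ * y : B) : D) v := by
    intro y
    rw [Subgroup.coe_mul, map_mul]
    rfl
  simp_rw [h1]
  exact Fintype.prod_equiv (Equiv.mulLeft (⟨b, hb⟩ : B)) _ _ (fun y => rfl)

/-- **A Frobenius group cannot act fixed-point-freely.** If `B` normalizes `A`, no nontrivial
element of `B` centralizes a nontrivial element of `A`, and `A B` acts fixed-point-freely on the
abelian group `V`, then `V` has exponent dividing `|A|`. -/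
theorem fpf_frobenius_pow (ρ : D →* MulAut V)
    (hf : ∀ d : D, d ≠ 1 → ∀ v : V, ρ d v = v → v = 1)
    (A B : Subgroup D) [Finite A] [Finite B] (hA : A ≠ ⊥) (hB : B ≠ ⊥)
    (hBA : B ≤ Subgroup.normalizer (A : Set D))
    (hAB : ∀ x ∈ A, ∀ y ∈ B, y ≠ 1 → x * y = y * x → x = 1) (v : V) :
    v ^ Nat.card A = 1 := by
  classical
  haveI := Fintype.ofFinite A
  haveI := Fintype.ofFinite B
  have h1 : ∏ x : A, ∏ y : B, ρ ((x : D) * y * (x : D)⁻¹) v = 1 := by
    apply Finset.prod_eq_one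
    intro x _
    have h2 : ∀ y : B, ρ ((x : D) * y * (x : D)⁻¹) v =
        ρ (x : D) (ρ (y : D) (ρ (x : D)⁻¹ v)) := by
      intro y
      rw [map_mul, map_mul]
      rfl
    simp_rw [h2]
    rw [← map_prod, fpf_norm_eq_one ρ hf B hB, map_one]
  rw [Finset.prod_comm] at h1
  have h2 : ∀ y : B, y ≠ 1 → ∏ x : A, ρ ((x : D) * y * (x : D)⁻¹) v = 1 := by
    intro y hy
    have hmem : ∀ x : A, (x : D) * y * (x : D)⁻¹ * (y : D)⁻¹ ∈ A := by
      intro x
      have h3 : (y : D) * (x : D)⁻¹ * (y : D)⁻¹ ∈ A :=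
        (Subgroup.mem_normalizer_iff.mp (hBA y.2) _).mp (A.inv_mem x.2)
      have e : (x : D) * y * (x : D)⁻¹ * (y : D)⁻¹ = x * ((y : D) * (x : D)⁻¹ * (y : D)⁻¹) := by
        group
      rw [e]
      exact A.mul_mem x.2 h3
    let φ : A → A := fun x => ⟨_, hmem x⟩
    have hφinj : Function.Injective φ := by
      intro x x' hxx'
      have h4 : (x : D) * y * (x : D)⁻¹ * (y : D)⁻¹ = (x' : D) * y * (x' : D)⁻¹ * (y : D)⁻¹ :=
        congrArg Subtype.val hxx'
      have h6 : (x : D) * y * (x : D)⁻¹ = (x' : D) * y * (x' : D)⁻¹ := mul_right_cancel h4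
      have h5 : ((x' : D)⁻¹ * x) * y = y * ((x' : D)⁻¹ * x) := by
        calc ((x' : D)⁻¹ * x) * y = (x' : D)⁻¹ * ((x : D) * y * (x : D)⁻¹) * x := by group
          _ = (x' : D)⁻¹ * ((x' : D) * y * (x' : D)⁻¹) * x := by rw [h6]
          _ = y * ((x' : D)⁻¹ * x) := by group
      have h7 := hAB _ (A.mul_mem (A.inv_mem x'.2) x.2) y y.2 (fun h => hy (Subtype.ext h)) h5
      apply Subtype.ext
      exact (inv_mul_eq_one.mp h7).symm
    have hφbij : Function.Bijective φ := Finite.injective_iff_bijective.mp hφinj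
    have h8 : ∀ x : A, ρ ((x : D) * y * (x : D)⁻¹) v = ρ ((φ x : A) : D) (ρ (y : D) v) := by
      intro x
      rw [← MulAut.mul_apply, ← map_mul]
      have e : (x : D) * y * (x : D)⁻¹ = ((φ x : A) : D) * y := by
        show (x : D) * y * (x : D)⁻¹ = (x : D) * y * (x : D)⁻¹ * (y : D)⁻¹ * y
        group
      rw [e]
    simp_rw [h8]
    rw [hφbij.prod_comp (fun z : A => ρ (z : D) (ρ (y : D) v))]
    exact fpf_norm_eq_one ρ hf A hA _
  rw [Fintype.prod_eq_single (1 : B) h2] at h1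
  have h9 : ∀ x : A, ρ ((x : D) * ((1 : B) : D) * (x : D)⁻¹) v = v := by
    intro x
    rw [Subgroup.coe_one, mul_one, mul_inv_cancel, map_one]
    rfl
  simp_rw [h9] at h1
  rw [Finset.prod_const, Finset.card_univ, ← Nat.card_eq_fintype_card] at h1
  exact h1

/-- for `g ≠ 1` with `g ^ n = 1` acting fixed-point-freely, the norm over the powers of `g`
is trivial -/
theorem fpf_pow_norm_eq_one (ρ : D →* MulAut V)
    (hf : ∀ d : D, d ≠ 1 → ∀ v : V, ρ d v = v → v = 1)
    (g : D) (hg : g ≠ 1) (n : ℕ) (hn : g ^ n = 1) (v : V) :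
    ∏ k ∈ Finset.range n, ρ (g ^ k) v = 1 := by
  apply hf g hg
  rw [map_prod]
  have h1 : ∀ k : ℕ, ρ g (ρ (g ^ k) v) = ρ (g ^ (k + 1)) v := by
    intro k
    rw [pow_succ', map_mul]
    rfl
  simp_rw [h1]
  have h2 := Finset.prod_range_succ (fun k => ρ (g ^ k) v) n
  have h3 := Finset.prod_range_succ' (fun k => ρ (g ^ k) v) n
  rw [h3] at h2
  simp only [hn, pow_zero] at h2
  exact mul_right_cancel h2

/-- **No `C_q × C_q` acts fixed-point-freely.** -/
theorem fpf_noncyclic_pow [Finite D] (ρ : D →* MulAut V)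
    (hf : ∀ d : D, d ≠ 1 → ∀ v : V, ρ d v = v → v = 1)
    (x y : D) (q : ℕ) (hq : q.Prime) (hxy : x * y = y * x) (hx : x ^ q = 1)
    (hy : orderOf y = q) (hxny : x ∉ Subgroup.zpowers y) (v : V) : v ^ q = 1 := by
  classical
  haveI := Fintype.ofFinite (Subgroup.zpowers y)
  have hB : Subgroup.zpowers y ≠ ⊥ := by
    intro h
    rw [Subgroup.zpowers_eq_bot] at h
    rw [h, orderOf_one] at hy
    exact hq.one_lt.ne hy
  have hcardB : Nat.card (Subgroup.zpowers y) = q := by rw [Nat.card_zpowers, hy]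
  have hcomm : ∀ y' : Subgroup.zpowers y, x * (y' : D) = (y' : D) * x := by
    intro y'
    obtain ⟨i, hi⟩ := Subgroup.mem_zpowers_iff.mp y'.2
    rw [← hi]
    exact ((show Commute x y from hxy).zpow_right i).eq
  have hyq : ∀ y' : Subgroup.zpowers y, (y' : D) ^ q = 1 := by
    intro y'
    obtain ⟨i, hi⟩ := Subgroup.mem_zpowers_iff.mp y'.2
    rw [← hi, ← zpow_natCast, ← zpow_mul, mul_comm, zpow_mul, zpow_natCast, ← hy,
      pow_orderOf_eq_one, one_zpow]
  have h1 : ∏ y' : Subgroup.zpowers y, ∏ k ∈ Finset.range q, ρ ((x * (y' : D)) ^ k) v = 1 := by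
    apply Finset.prod_eq_one
    intro y' _
    apply fpf_pow_norm_eq_one ρ hf
    · intro h
      apply hxny
      have : x = (y' : D)⁻¹ := eq_inv_of_mul_eq_one_left h
      rw [this]
      exact Subgroup.inv_mem _ y'.2
    · rw [(show Commute x (y' : D) from hcomm y').mul_pow, hx, hyq, one_mul]
  rw [Finset.prod_comm] at h1
  have h2 : ∀ k ∈ Finset.range q, k ≠ 0 →
      ∏ y' : Subgroup.zpowers y, ρ ((x * (y' : D)) ^ k) v = 1 := by
    intro k hk hk0
    rw [Finset.mem_range] at hk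
    have hcop : (Nat.card (Subgroup.zpowers y)).Coprime k := by
      rw [hcardB]
      exact (Nat.Prime.coprime_iff_not_dvd hq).mpr (Nat.not_dvd_of_pos_of_lt (by omega) hk)
    have h3 : ∀ y' : Subgroup.zpowers y, ρ ((x * (y' : D)) ^ k) v =
        ρ (((powCoprime hcop y' : Subgroup.zpowers y)) : D) (ρ (x ^ k) v) := by
      intro y'
      rw [← MulAut.mul_apply, ← map_mul, (show Commute x (y' : D) from hcomm y').mul_pow]
      have e : ((powCoprime hcop y' : Subgroup.zpowers y) : D) = (y' : D) ^ k := by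
        rw [powCoprime_apply]
        rfl
      rw [e]
      have e2 : x ^ k * (y' : D) ^ k = (y' : D) ^ k * x ^ k :=
        (((show Commute x (y' : D) from hcomm y').pow_left k).pow_right k).eq
      rw [e2]
    simp_rw [h3]
    rw [(powCoprime hcop).bijective.prod_comp
      (fun z : Subgroup.zpowers y => ρ (z : D) (ρ (x ^ k) v))]
    exact fpf_norm_eq_one ρ hf _ hB _
  rw [Finset.prod_eq_single 0 h2 (fun h => absurd (Finset.mem_range.mpr hq.pos) h)] at h1
  simp only [pow_zero, map_one, MulAut.one_apply, Finset.prod_const, Finset.card_univ] at h1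
  rw [← Nat.card_eq_fintype_card, hcardB] at h1
  exact h1

/-- an involution acting fixed-point-freely on an abelian group inverts it -/
theorem fpf_involution_inv (ρ : D →* MulAut V)
    (hf : ∀ d : D, d ≠ 1 → ∀ v : V, ρ d v = v → v = 1)
    (t : D) (ht : t ≠ 1) (ht2 : t ^ 2 = 1) (v : V) : ρ t v = v⁻¹ := by
  have h1 : v * ρ t v = 1 := by
    apply hf t ht
    rw [map_mul, ← MulAut.mul_apply, ← map_mul, ← pow_two, ht2, map_one, MulAut.one_apply,
      mul_comm]
  exact eq_inv_of_mul_eq_one_right h1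

/-- a group acting fixed-point-freely on a nontrivial abelian group has at most one
involution -/
theorem fpf_involution_unique (ρ : D →* MulAut V)
    (hf : ∀ d : D, d ≠ 1 → ∀ v : V, ρ d v = v → v = 1) (hV : ∃ v : V, v ≠ 1)
    (t u : D) (ht : t ≠ 1) (ht2 : t ^ 2 = 1) (hu : u ≠ 1) (hu2 : u ^ 2 = 1) : t = u := by
  obtain ⟨v, hv⟩ := hV
  by_contra htu
  have h1 : t * u ≠ 1 := by
    intro h
    apply htu
    have h2 : u * u = 1 := by rw [← pow_two, hu2]
    have h3 : t = u⁻¹ := eq_inv_of_mul_eq_one_left h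
    rw [h3]
    exact inv_eq_of_mul_eq_one_left h2
  apply hv
  apply hf (t * u) h1
  rw [map_mul, MulAut.mul_apply, fpf_involution_inv ρ hf u hu hu2, map_inv,
    fpf_involution_inv ρ hf t ht ht2, inv_inv]

end fpf

end Cfsg.Agent.Lib.Helper34
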