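import Mathlib
import Cfsg.Prelude.Def_OddOrderLocal
import Cfsg.Prelude.Def_Solvable
import Cfsg.Agent.Lib.Helper34.CN
import Cfsg.Agent.Lib.Helper34.Fpf
import Cfsg.Agent.Lib.Helper34.Rank2d
import Cfsg.Agent.Lib.Helper30.Basic

set_option autoImplicit false

namespace Cfsg.Agent.Lib.Helper34

open Cfsg

universe u

section

variable {G : Type u} [Group G] [Finite G]

/-- `p`-elements lie in a normal Sylow `p`-subgroup -/
theorem mem_normal_sylow (p : ℕ) [Fact p.Prime] (P : Sylow p G) (hPn : (P : Subgroup G).Normal)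
    (x : G) (k : ℕ) (hx : x ^ (p ^ k) = 1) : x ∈ P := by
  haveI := hPn
  have hz : IsPGroup p (Subgroup.zpowers x) := isPGroup_zpowers_of_pow hx
  obtain ⟨P', hP'⟩ := hz.exists_le_sylow
  obtain ⟨g, hg⟩ := MulAction.exists_smul_eq G P P'
  rw [Sylow.smul_eq_of_normal] at hg
  rw [← hg] at hP'
  exact hP' (Subgroup.mem_zpowers _)

omit [Finite G] in
theorem commute_of_nilpotent_of_pow {L : Subgroup G} (hL : Group.IsNilpotent L) {a b : G}
    (ha : a ∈ L) (hb : b ∈ L) (m n : ℕ) (hmn : Nat.Coprime m n) (ham : a ^ m = 1)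
    (hbn : b ^ n = 1) : a * b = b * a :=
  commute_of_mem_nilpotent hL ha hb
    (Nat.Coprime.coprime_dvd_left (orderOf_dvd_of_pow_eq_one ham)
      (Nat.Coprime.coprime_dvd_right (orderOf_dvd_of_pow_eq_one hbn) hmn))

omit [Finite G] in
theorem exists_pow_of_mem_sylow (p : ℕ) [Fact p.Prime] (P : Sylow p G) (x : G) (hx : x ∈ P) :
    ∃ k : ℕ, x ^ (p ^ k) = 1 := by
  obtain ⟨k, hk⟩ := P.isPGroup' ⟨x, hx⟩
  exact ⟨k, by simpa using congrArg Subtype.val hk⟩

/-- `C_G(z) ≤ C_G(z')` for `z, z' ∈ Z(P)`, `z ≠ 1`, `P` a normal Sylow subgroup of a CN-group -/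
theorem cn_centralizer_le_of_center (hCN : IsCNGroup G) (p : ℕ) [Fact p.Prime] (P : Sylow p G)
    (hPn : (P : Subgroup G).Normal) (z : G) (hzP : z ∈ P) (hz1 : z ≠ 1)
    (hzc : ∀ x ∈ P, x * z = z * x) (z' : G) (hz'P : z' ∈ P) (hz'c : ∀ x ∈ P, x * z' = z' * x) :
    Subgroup.centralizer ({z} : Set G) ≤ Subgroup.centralizer ({z'} : Set G) := by
  have hp : p.Prime := Fact.out
  apply le_of_primary_mem
  intro r hr x hx k hk
  rw [mem_centralizer_singleton]
  by_cases hrp : r = p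
  · subst hrp
    exact (hz'c x (mem_normal_sylow r P hPn x k hk)).symm
  · obtain ⟨j, hj⟩ := exists_pow_of_mem_sylow p P z' hz'P
    have hz'C : z' ∈ Subgroup.centralizer ({z} : Set G) := by
      rw [mem_centralizer_singleton]; exact (hzc z' hz'P).symm
    exact commute_of_nilpotent_of_pow (hCN z hz1) hz'C hx (p ^ j) (r ^ k)
      (Nat.Coprime.pow _ _ ((Nat.coprime_primes hp hr).mpr (Ne.symm hrp))) hj hk

/-- `C_G(z)` is normal -/
theorem cn_centralizer_normal (hCN : IsCNGroup G) (p : ℕ) [Fact p.Prime] (P : Sylow p G)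
    (hPn : (P : Subgroup G).Normal) (z : G) (hzP : z ∈ P) (hz1 : z ≠ 1)
    (hzc : ∀ x ∈ P, x * z = z * x) : (Subgroup.centralizer ({z} : Set G)).Normal := by
  refine ⟨fun x hx g => ?_⟩
  have hz'P : g⁻¹ * z * g ∈ P := by
    have := hPn.conj_mem z hzP g⁻¹
    rwa [inv_inv] at this
  have hz'c : ∀ y ∈ P, y * (g⁻¹ * z * g) = (g⁻¹ * z * g) * y := by
    intro y hy
    have h1 := hzc (g * y * g⁻¹) (hPn.conj_mem y hy g)
    calc y * (g⁻¹ * z * g) = g⁻¹ * ((g * y * g⁻¹) * z) * g := by group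
      _ = g⁻¹ * (z * (g * y * g⁻¹)) * g := by rw [h1]
      _ = (g⁻¹ * z * g) * y := by group
  have h2 := cn_centralizer_le_of_center hCN p P hPn z hzP hz1 hzc _ hz'P hz'c hx
  rw [mem_centralizer_singleton] at h2 ⊢
  calc z * (g * x * g⁻¹) = g * ((g⁻¹ * z * g) * x) * g⁻¹ := by group
    _ = g * (x * (g⁻¹ * z * g)) * g⁻¹ := by rw [h2]
    _ = (g * x * g⁻¹) * z := by group

/-- `C_G(z)` is a Hall subgroup -/
theorem cn_centralizer_hall (hCN : IsCNGroup G) (p : ℕ) [Fact p.Prime] (P : Sylow p G)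
    (hPn : (P : Subgroup G).Normal) (z : G) (hzP : z ∈ P) (hz1 : z ≠ 1)
    (hzc : ∀ x ∈ P, x * z = z * x) :
    (Nat.card (Subgroup.centralizer ({z} : Set G))).Coprime
      (Subgroup.centralizer ({z} : Set G)).index := by
  have hp : p.Prime := Fact.out
  have hPC : (P : Subgroup G) ≤ Subgroup.centralizer ({z} : Set G) := by
    intro x hx
    rw [mem_centralizer_singleton]; exact (hzc x hx).symm
  have hCnil := hCN z hz1
  apply Nat.coprime_of_dvd
  intro q hq hq1 hq2
  haveI : Fact q.Prime := ⟨hq⟩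
  by_cases hqp : q = p
  · subst hqp
    exact P.not_dvd_index (dvd_trans hq2 (Subgroup.index_dvd_of_le hPC))
  · obtain ⟨y₀, hy₀⟩ := exists_prime_orderOf_dvd_card' q hq1
    have hy0o : orderOf (y₀ : G) = q := by rw [Subgroup.orderOf_coe]; exact hy₀
    have hy0q : (y₀ : G) ^ (q ^ 1) = 1 := by rw [pow_one, ← hy0o, pow_orderOf_eq_one]
    have hy01 : (y₀ : G) ≠ 1 := ne_one_of_orderOf_prime hq hy0o
    obtain ⟨Q, hQ⟩ := (isPGroup_zpowers_of_pow hy0q).exists_le_sylow
    have hy0Q : (y₀ : G) ∈ Q := hQ (Subgroup.mem_zpowers _)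
    haveI : Nontrivial ↥(Q : Subgroup G) :=
      ⟨⟨⟨(y₀ : G), hy0Q⟩, 1, fun h => hy01 (congrArg Subtype.val h)⟩⟩
    haveI : Nontrivial ↥(Subgroup.center ↥(Q : Subgroup G)) := Q.isPGroup'.center_nontrivial
    obtain ⟨⟨y', hy'c⟩, hy'1⟩ := exists_ne (1 : ↥(Subgroup.center ↥(Q : Subgroup G)))
    have hy1Q : (y' : G) ∈ Q := y'.2
    have hy11 : (y' : G) ≠ 1 := by
      intro h
      apply hy'1
      apply Subtype.ext
      exact Subtype.ext h
    have hy1c : ∀ x ∈ Q, x * (y' : G) = (y' : G) * x := by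
      intro x hx
      exact congrArg Subtype.val (Subgroup.mem_center_iff.mp hy'c ⟨x, hx⟩)
    -- q-elements of C commute with P
    have hPcomm : ∀ y : G, y ∈ Subgroup.centralizer ({z} : Set G) → (∃ i : ℕ, y ^ (q ^ i) = 1) →
        ∀ x ∈ P, y * x = x * y := by
      intro y hy ⟨i, hi⟩ x hx
      obtain ⟨j, hj⟩ := exists_pow_of_mem_sylow p P x hx
      exact commute_of_nilpotent_of_pow hCnil hy (hPC hx) (q ^ i) (p ^ j)
        (Nat.Coprime.pow _ _ ((Nat.coprime_primes hq hp).mpr hqp)) hi hj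
    obtain ⟨jz, hjz⟩ := exists_pow_of_mem_sylow p P z hzP
    -- y' lies in C
    have hy1C : (y' : G) ∈ Subgroup.centralizer ({z} : Set G) := by
      have hL0 := hCN (y₀ : G) hy01
      have h1 : (y' : G) ∈ Subgroup.centralizer ({(y₀ : G)} : Set G) := by
        rw [mem_centralizer_singleton]; exact hy1c _ hy0Q
      have h2 : z ∈ Subgroup.centralizer ({(y₀ : G)} : Set G) := by
        rw [mem_centralizer_singleton]; exact hPcomm _ y₀.2 ⟨1, hy0q⟩ z hzP
      obtain ⟨i, hi⟩ := exists_pow_of_mem_sylow q Q _ hy1Q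
      rw [mem_centralizer_singleton]
      exact (commute_of_nilpotent_of_pow hL0 h1 h2 (q ^ i) (p ^ jz)
        (Nat.Coprime.pow _ _ ((Nat.coprime_primes hq hp).mpr hqp)) hi hjz).symm
    -- Q lies in C
    have hQC : (Q : Subgroup G) ≤ Subgroup.centralizer ({z} : Set G) := by
      intro x hx
      have hL1 := hCN (y' : G) hy11
      have h1 : x ∈ Subgroup.centralizer ({(y' : G)} : Set G) := by
        rw [mem_centralizer_singleton]; exact (hy1c x hx).symm
      have h2 : z ∈ Subgroup.centralizer ({(y' : G)} : Set G) := by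
        rw [mem_centralizer_singleton]
        exact hPcomm _ hy1C (exists_pow_of_mem_sylow q Q _ hy1Q) z hzP
      obtain ⟨i, hi⟩ := exists_pow_of_mem_sylow q Q x hx
      rw [mem_centralizer_singleton]
      exact (commute_of_nilpotent_of_pow hL1 h1 h2 (q ^ i) (p ^ jz)
        (Nat.Coprime.pow _ _ ((Nat.coprime_primes hq hp).mpr hqp)) hi hjz).symm
    exact Q.not_dvd_index (dvd_trans hq2 (Subgroup.index_dvd_of_le hQC))

/-- every normal nilpotent subgroup lies in `C_G(z)` -/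
theorem cn_normal_nilpotent_le (p : ℕ) [Fact p.Prime] (P : Sylow p G)
    (hPn : (P : Subgroup G).Normal) (z : G) (hzP : z ∈ P)
    (hzc : ∀ x ∈ P, x * z = z * x) (N : Subgroup G) (hNn : N.Normal)
    (hN : Group.IsNilpotent N) : N ≤ Subgroup.centralizer ({z} : Set G) := by
  have hp : p.Prime := Fact.out
  haveI := hNn
  haveI := hPn
  apply le_of_primary_mem
  intro r hr x hx k hk
  rw [mem_centralizer_singleton]
  by_cases hrp : r = p
  · subst hrp
    exact (hzc x (mem_normal_sylow r P hPn x k hk)).symm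
  · have hL : Group.IsNilpotent ↥(N ⊔ (P : Subgroup G)) :=
      Helper30.nilpotent_sup N (P : Subgroup G) hN P.isPGroup'.isNilpotent
    obtain ⟨j, hj⟩ := exists_pow_of_mem_sylow p P z hzP
    exact commute_of_nilpotent_of_pow hL (show z ∈ N ⊔ (P : Subgroup G) from
      (le_sup_right : (P : Subgroup G) ≤ _) hzP) (show x ∈ N ⊔ (P : Subgroup G) from
      (le_sup_left : N ≤ _) hx) (p ^ j) (r ^ k)
      (Nat.Coprime.pow _ _ ((Nat.coprime_primes hp hr).mpr (Ne.symm hrp))) hj hk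

/-- in a CN-group with a nontrivial normal Sylow `p`-subgroup `P`, the largest normal
nilpotent Hall subgroup is `C_G(z)` for any `1 ≠ z ∈ Z(P)`. -/
theorem cn_fittingHall_eq (hCN : IsCNGroup G) (p : ℕ) [Fact p.Prime] (P : Sylow p G)
    (hPn : (P : Subgroup G).Normal) (z : G) (hzP : z ∈ P) (hz1 : z ≠ 1)
    (hzc : ∀ x ∈ P, x * z = z * x) :
    fittingHall G = Subgroup.centralizer ({z} : Set G) := by
  apply le_antisymm
  · apply sSup_le
    rintro N ⟨hNn, hN, -⟩
    exact cn_normal_nilpotent_le p P hPn z hzP hzc N hNn hN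
  · exact le_sSup ⟨cn_centralizer_normal hCN p P hPn z hzP hz1 hzc, hCN z hz1,
      cn_centralizer_hall hCN p P hPn z hzP hz1 hzc⟩

end

end Cfsg.Agent.Lib.Helper34
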