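import Mathlib
import Cfsg.Agent.Lib.Helper34.CN3
import Cfsg.Agent.S0126

set_option autoImplicit false

namespace Cfsg.Agent.Lib.Helper34

open Cfsg

universe u

theorem commute_of_isCyclic {A : Type*} [Group A] [IsCyclic A] (a b : A) : a * b = b * a := by
  obtain ⟨g, hg⟩ := IsCyclic.exists_generator (α := A)
  obtain ⟨i, rfl⟩ := Subgroup.mem_zpowers_iff.mp (hg a)
  obtain ⟨j, rfl⟩ := Subgroup.mem_zpowers_iff.mp (hg b)
  rw [← zpow_add, ← zpow_add, add_comm]

/-- if `b` has prime order and `x` commutes with a nontrivial power of `b`, then `x` commutes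
with `b` -/
theorem commute_of_commute_zpowers {D : Type*} [Group D] [Finite D] (b : D) (s : ℕ) (hs : s.Prime)
    (hb : orderOf b = s) (x y : D) (hy : y ∈ Subgroup.zpowers b) (hy1 : y ≠ 1)
    (hxy : x * y = y * x) : x * b = b * x := by
  have h1 : Subgroup.zpowers y ≤ Subgroup.zpowers b := by
    rw [Subgroup.zpowers_le]; exact hy
  have h2 : orderOf y = s := by
    have h3 : orderOf y ∣ s := by
      rw [← hb, ← Nat.card_zpowers, ← Nat.card_zpowers]
      exact Subgroup.card_dvd_of_le h1
    rcases (Nat.dvd_prime hs).mp h3 with h | h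
    · exact absurd (orderOf_eq_one_iff.mp h) hy1
    · exact h
  have h4 : Subgroup.zpowers y = Subgroup.zpowers b := by
    apply Subgroup.eq_of_le_of_card_ge h1
    rw [Nat.card_zpowers, Nat.card_zpowers, h2, hb]
  have h5 : b ∈ Subgroup.zpowers y := by rw [h4]; exact Subgroup.mem_zpowers b
  obtain ⟨i, rfl⟩ := Subgroup.mem_zpowers_iff.mp h5
  exact ((show Commute x y from hxy).zpow_right i).eq

/-- **Centre of a CN-group acting fixed-point-freely.** Let `E` be a nontrivial finite group,
acting fixed-point-freely on a nontrivial abelian `p`-group `V` with `|E|` prime to `p`, such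
that centralizers in `E` of nontrivial elements are nilpotent. Then `E` has a nontrivial central
element. -/
theorem fpf_cn_exists_central {E : Type u} [Group E] [Finite E] [Nontrivial E]
    {V : Type*} [Group V] (hVcomm : ∀ a b : V, a * b = b * a) (p : ℕ) [Fact p.Prime]
    (hVp : ∀ v : V, ∃ k : ℕ, v ^ (p ^ k) = 1) (hV : ∃ v : V, v ≠ 1)
    (hEp : (Nat.card E).Coprime p)
    (ρ : E →* MulAut V) (hf : ∀ d : E, d ≠ 1 → ∀ v : V, ρ d v = v → v = 1)
    (hCN : ∀ g : E, g ≠ 1 → Group.IsNilpotent (Subgroup.centralizer ({g} : Set E))) :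
    ∃ z₀ : E, z₀ ≠ 1 ∧ ∀ e : E, e * z₀ = z₀ * e := by
  letI : CommGroup V := { (inferInstance : Group V) with mul_comm := hVcomm }
  have hp : p.Prime := Fact.out
  -- exponent killing
  have hVm : ∀ m : ℕ, m.Coprime p → (∀ v : V, v ^ m = 1) → False := by
    intro m hm hall
    obtain ⟨v, hv⟩ := hV
    obtain ⟨k, hk⟩ := hVp v
    apply hv
    have h1 := Nat.dvd_gcd (orderOf_dvd_of_pow_eq_one (hall v)) (orderOf_dvd_of_pow_eq_one hk)
    rw [Nat.Coprime.gcd_eq_one (Nat.Coprime.pow_right k hm)] at h1
    exact orderOf_eq_one_iff.mp (Nat.dvd_one.mp h1)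
  by_cases h2 : 2 ∣ Nat.card E
  · -- even order: the unique involution
    haveI : Fact (Nat.Prime 2) := ⟨Nat.prime_two⟩
    obtain ⟨t, ht⟩ := exists_prime_orderOf_dvd_card' 2 h2
    have ht1 : t ≠ 1 := ne_one_of_orderOf_prime Nat.prime_two ht
    have ht2 : t ^ 2 = 1 := by rw [← ht, pow_orderOf_eq_one]
    refine ⟨t, ht1, ?_⟩
    intro e
    have hu1 : e * t * e⁻¹ ≠ 1 := by
      intro h
      apply ht1
      have : t = e⁻¹ * (e * t * e⁻¹) * e := by group
      rw [this, h]; group
    have hu2 : (e * t * e⁻¹) ^ 2 = 1 := by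
      rw [conj_pow, ht2]; group
    have h3 := fpf_involution_unique ρ hf hV t (e * t * e⁻¹) ht1 ht2 hu1 hu2
    calc e * t = (e * t * e⁻¹) * e := by group
      _ = t * e := by rw [← h3]
  · -- odd order: E is a Z-group
    have hZ : IsZGroup E := by
      refine ⟨fun q hq Q => ?_⟩
      haveI : Fact q.Prime := ⟨hq⟩
      by_contra hnc
      have hq2 : q ≠ 2 := by
        rintro rfl
        apply hnc
        obtain ⟨n, hn⟩ := IsPGroup.iff_card.mp Q.isPGroup'
        have h3 : Nat.card (Q : Subgroup E) ∣ Nat.card E := Subgroup.card_subgroup_dvd_card _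
        rw [hn] at h3
        rcases Nat.eq_zero_or_pos n with h0 | h0
        · rw [h0, pow_zero] at hn
          haveI : Subsingleton ↥(Q : Subgroup E) := (Nat.card_eq_one_iff_unique.mp hn).1
          exact isCyclic_of_subsingleton
        · exact absurd (dvd_trans (dvd_pow_self 2 h0.ne') h3) h2
      obtain ⟨A, -, ⟨hAc, hAq⟩, hAcard⟩ := Cfsg.Agent.S0126.result hq2 Q.isPGroup' hnc
      have hAne : A ≠ ⊥ := by
        intro h
        rw [h, Subgroup.card_bot] at hAcard
        have := hq.one_lt
        nlinarith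
      obtain ⟨y, hyA, hy1⟩ := A.bot_or_exists_ne_one.resolve_left hAne
      have hyq : y ^ q = 1 := hAq y hyA
      have hyo : orderOf y = q := by
        rcases (Nat.dvd_prime hq).mp (orderOf_dvd_of_pow_eq_one hyq) with h | h
        · exact absurd (orderOf_eq_one_iff.mp h) hy1
        · exact h
      have hex : ∃ x ∈ A, x ∉ Subgroup.zpowers y := by
        by_contra hcon
        push Not at hcon
        have h3 : Nat.card A ≤ Nat.card (Subgroup.zpowers y) :=
          Subgroup.card_le_of_le (fun x hx => hcon x hx)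
        rw [hAcard, Nat.card_zpowers, hyo] at h3
        have := hq.one_lt
        nlinarith
      obtain ⟨x, hxA, hxy⟩ := hex
      have hcomm : x * y = y * x := congrArg Subtype.val (hAc.is_comm.comm ⟨x, hxA⟩ ⟨y, hyA⟩)
      have hqE : q ∣ Nat.card E := by
        have h3 : orderOf (y : E) = q := by rw [Subgroup.orderOf_coe]; exact hyo
        rw [← h3]; exact orderOf_dvd_natCard _
      apply hVm q (Nat.Coprime.coprime_dvd_left hqE hEp)
      intro v
      refine fpf_noncyclic_pow ρ hf (x : E) (y : E) q hq ?_ ?_ ?_ ?_ v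
      · exact congrArg Subtype.val hcomm
      · have := congrArg Subtype.val (hAq x hxA)
        simpa using this
      · rw [Subgroup.orderOf_coe]; exact hyo
      · intro h
        apply hxy
        obtain ⟨i, hi⟩ := Subgroup.mem_zpowers_iff.mp h
        rw [Subgroup.mem_zpowers_iff]
        refine ⟨i, Subtype.ext ?_⟩
        rw [Subgroup.coe_zpow]
        exact hi
    have hAlt : commutator E < ⊤ := IsZGroup.commutator_lt E
    have hidx : (commutator E).index ≠ 1 := by
      intro h
      exact hAlt.ne (Subgroup.index_eq_one.mp h)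
    obtain ⟨s, hs, hsdvd⟩ := Nat.exists_prime_and_dvd hidx
    haveI : Fact s.Prime := ⟨hs⟩
    have hsE : s ∣ Nat.card E := dvd_trans hsdvd (Subgroup.index_dvd_card _)
    obtain ⟨b, hb⟩ := exists_prime_orderOf_dvd_card' s hsE
    have hb1 : b ≠ 1 := ne_one_of_orderOf_prime hs hb
    have hbs : b ^ s = 1 := by rw [← hb, pow_orderOf_eq_one]
    have hcop : (Nat.card (commutator E)).Coprime s :=
      Nat.Coprime.coprime_dvd_right hsdvd (IsZGroup.coprime_commutator_index E)
    haveI hAcyc : IsCyclic ↥(commutator E) := IsZGroup.isCyclic_commutator E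
    have hAcardp : (Nat.card (commutator E)).Coprime p :=
      Nat.Coprime.coprime_dvd_left (Subgroup.card_subgroup_dvd_card _) hEp
    have hbA : ∀ a ∈ commutator E, a * b = b * a := by
      intro a ha
      by_cases hA : commutator E = ⊥
      · rw [hA] at ha
        rw [Subgroup.mem_bot.mp ha]; group
      · have hex : ∃ a₀ ∈ commutator E, a₀ ≠ 1 ∧ a₀ * b = b * a₀ := by
          by_contra hcon
          push Not at hcon
          apply hVm _ hAcardp
          intro v
          refine fpf_frobenius_pow ρ hf (commutator E) (Subgroup.zpowers b) hA ?_ ?_ ?_ v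
          · intro h
            rw [Subgroup.zpowers_eq_bot] at h
            exact hb1 h
          · rw [Subgroup.normalizer_eq_top_iff.mpr inferInstance]
            exact le_top
          · intro x hx y hy hy1 hxy
            by_contra hx1
            exact hcon x hx hx1 (commute_of_commute_zpowers b s hs hb x y hy hy1 hxy)
        obtain ⟨a₀, ha₀, ha₀1, ha₀b⟩ := hex
        have hL := hCN a₀ ha₀1
        have h3 : a ∈ Subgroup.centralizer ({a₀} : Set E) := by
          rw [mem_centralizer_singleton]
          exact congrArg Subtype.val (commute_of_isCyclic (⟨a₀, ha₀⟩ : commutator E) ⟨a, ha⟩)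
        have h4 : b ∈ Subgroup.centralizer ({a₀} : Set E) := by
          rw [mem_centralizer_singleton]; exact ha₀b
        have h5 : a ^ Nat.card (commutator E) = 1 := by
          have h := pow_card_eq_one' (G := ↥(commutator E)) (x := ⟨a, ha⟩)
          have h' : (((⟨a, ha⟩ : ↥(commutator E)) ^ Nat.card (commutator E) :
              ↥(commutator E)) : E) = ((1 : ↥(commutator E)) : E) := congrArg Subtype.val h
          rw [Subgroup.coe_pow, Subgroup.coe_one] at h'
          exact h'
        exact commute_of_nilpotent_of_pow hL h3 h4 _ s hcop h5 hbs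
    refine ⟨b, hb1, ?_⟩
    intro e
    have hc : e * b * e⁻¹ * b⁻¹ ∈ commutator E := by
      rw [commutator_def, ← commutatorElement_def]
      exact Subgroup.commutator_mem_commutator (Subgroup.mem_top e) (Subgroup.mem_top b)
    have hcb : (e * b * e⁻¹ * b⁻¹) * b = b * (e * b * e⁻¹ * b⁻¹) := hbA _ hc
    have h6 : (e * b * e⁻¹ * b⁻¹) ^ s = 1 := by
      have h7 : ((e * b * e⁻¹ * b⁻¹) * b) ^ s = (e * b * e⁻¹ * b⁻¹) ^ s * b ^ s :=
        (show Commute (e * b * e⁻¹ * b⁻¹) b from hcb).mul_pow s
      have h8 : (e * b * e⁻¹ * b⁻¹) * b = e * b * e⁻¹ := by group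
      rw [h8, conj_pow, hbs] at h7
      have h10 : e * 1 * e⁻¹ = 1 := by group
      rw [h10, mul_one] at h7
      exact h7.symm
    have h9 : e * b * e⁻¹ * b⁻¹ = 1 :=
      eq_one_of_mem_coprime_of_pow s (commutator E) hcop _ hc 1 (by rwa [pow_one])
    calc e * b = (e * b * e⁻¹ * b⁻¹) * (b * e) := by group
      _ = b * e := by rw [h9, one_mul]

end Cfsg.Agent.Lib.Helper34
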