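import Mathlib
import Cfsg.Agent.Lib.Helper34.CN4
import Cfsg.Agent.Lib.Helper34.Rank2

set_option autoImplicit false

namespace Cfsg.Agent.Lib.Helper34

open Cfsg

universe u

theorem cn_frobenius_core {G : Type u} [Group G] [Finite G] (hCN : IsCNGroup G) (p : ℕ)
    [Fact p.Prime] (P : Sylow p G) (hPn : (P : Subgroup G).Normal)
    (z : G) (hzP : z ∈ P) (hz1 : z ≠ 1) (hzc : ∀ x ∈ P, x * z = z * x)
    (H : Subgroup G) [hHn : H.Normal] (hHmem : ∀ x : G, x ∈ H ↔ z * x = x * z)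
    (hHall : (Nat.card H).Coprime H.index) (hHtop : H ≠ ⊤) :
    H ≠ ⊥ ∧ H ≠ ⊤ ∧ (∃ E : Subgroup G, Subgroup.IsComplement' H E ∧ IsFrobeniusComplement E ∧
        ∀ e ∈ E, e ≠ 1 → H ⊓ Subgroup.centralizer ({e} : Set G) = ⊥) ∧
      Group.IsNilpotent (G ⧸ H) := by
  have hp : p.Prime := Fact.out
  haveI := hPn
  have hzH : z ∈ H := (hHmem z).mpr rfl
  have hPH : (P : Subgroup G) ≤ H := fun x hx => (hHmem x).mpr (hzc x hx).symm
  have hHbot : H ≠ ⊥ := by
    intro h
    rw [h] at hzH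
    exact hz1 (Subgroup.mem_bot.mp hzH)
  obtain ⟨E, hE⟩ := Subgroup.exists_right_complement'_of_coprime hHall
  have hdisj : H ⊓ E = ⊥ := hE.disjoint.eq_bot
  have hcardE : Nat.card E = H.index := (hE.symm.index_eq_card).symm
  obtain ⟨jz, hjz⟩ := exists_pow_of_mem_sylow p P z hzP
  have hpH : p ∣ Nat.card H := by
    have h1 : orderOf z ∣ Nat.card H := by
      have := orderOf_dvd_natCard (⟨z, hzH⟩ : ↥H)
      rwa [Subgroup.orderOf_mk] at this
    have h2 : p ∣ orderOf z := by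
      obtain ⟨m, -, hm⟩ := (Nat.dvd_prime_pow hp).mp (orderOf_dvd_of_pow_eq_one hjz)
      rcases Nat.eq_zero_or_pos m with h0 | h0
      · rw [h0, pow_zero] at hm
        exact absurd (orderOf_eq_one_iff.mp hm) hz1
      · rw [hm]
        exact dvd_pow_self p h0.ne'
    exact dvd_trans h2 h1
  have hEp : (Nat.card E).Coprime p := by
    rw [hcardE]
    exact Nat.Coprime.coprime_dvd_right hpH hHall.symm
  have hEpow : ∀ e ∈ E, e ^ Nat.card E = 1 := by
    intro e he
    have h := pow_card_eq_one' (G := ↥E) (x := ⟨e, he⟩)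
    have h' : (((⟨e, he⟩ : ↥E) ^ Nat.card E : ↥E) : G) = ((1 : ↥E) : G) :=
      congrArg Subtype.val h
    rw [Subgroup.coe_pow, Subgroup.coe_one] at h'
    exact h'
  -- fixed point freeness
  have hfpf : ∀ e ∈ E, e ≠ 1 → H ⊓ Subgroup.centralizer ({e} : Set G) = ⊥ := by
    intro e he he1
    rw [eq_bot_iff]
    rintro h ⟨hhH, hhe⟩
    rw [Subgroup.mem_bot]
    by_contra hh1
    have hL := hCN h hh1
    have h1 : e ∈ Subgroup.centralizer ({h} : Set G) := by
      rw [mem_centralizer_singleton]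
      exact (mem_centralizer_singleton.mp hhe).symm
    have h2 : z ∈ Subgroup.centralizer ({h} : Set G) := by
      rw [mem_centralizer_singleton]
      exact ((hHmem h).mp hhH).symm
    have h3 : e * z = z * e := commute_of_nilpotent_of_pow hL h1 h2 (Nat.card E) (p ^ jz)
      (Nat.Coprime.pow_right jz hEp) (hEpow e he) hjz
    have h4 : e ∈ H ⊓ E := ⟨(hHmem e).mpr h3.symm, he⟩
    rw [hdisj] at h4
    exact he1 (Subgroup.mem_bot.mp h4)
  have hEbot : E ≠ ⊥ := by
    intro h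
    rw [h] at hE
    exact hHtop (Subgroup.isComplement'_bot_right.mp hE)
  have hEtop : E ≠ ⊤ := by
    intro h
    rw [h] at hE
    exact hHbot (Subgroup.isComplement'_top_right.mp hE)
  have hFrob : IsFrobeniusComplement E := by
    refine ⟨hEbot, hEtop, ?_⟩
    intro g hg
    rw [eq_bot_iff]
    rintro x ⟨hxE, hxg⟩
    rw [Subgroup.mem_bot]
    by_contra hx1
    obtain ⟨e₁, he₁, hxe⟩ := (Subgroup.mem_smul_pointwise_iff_exists x (MulAut.conj g) E).mp hxg
    have hxe' : g * e₁ * g⁻¹ = x := hxe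
    obtain ⟨⟨h, e'⟩, hhe'⟩ := hE.2 g
    have hge : (h : G) * (e' : G) = g := hhe'
    have he₂E : (e' : G) * e₁ * (e' : G)⁻¹ ∈ E := E.mul_mem (E.mul_mem e'.2 he₁) (E.inv_mem e'.2)
    have hx2 : x = (h : G) * ((e' : G) * e₁ * (e' : G)⁻¹) * (h : G)⁻¹ := by
      rw [← hxe', ← hge]; group
    generalize (e' : G) * e₁ * (e' : G)⁻¹ = e₂ at he₂E hx2
    have h5 : x * e₂⁻¹ ∈ H ⊓ E := by
      refine ⟨?_, E.mul_mem hxE (E.inv_mem he₂E)⟩
      have e : x * e₂⁻¹ = (h : G) * (e₂ * (h : G)⁻¹ * e₂⁻¹) := by rw [hx2]; group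
      rw [e]
      exact H.mul_mem h.2 (hHn.conj_mem _ (H.inv_mem h.2) e₂)
    rw [hdisj, Subgroup.mem_bot] at h5
    have hxe₂ : x = e₂ := by rwa [mul_inv_eq_one] at h5
    have h6 : (h : G) ∈ H ⊓ Subgroup.centralizer ({e₂} : Set G) := by
      refine ⟨h.2, ?_⟩
      apply mem_centralizer_singleton.mpr
      have h7 : (h : G) * e₂ * (h : G)⁻¹ = e₂ := by rw [← hx2, hxe₂]
      calc e₂ * (h : G) = ((h : G) * e₂ * (h : G)⁻¹) * h := by rw [h7]
        _ = h * e₂ := by group
    rw [hfpf e₂ he₂E (by rw [← hxe₂]; exact hx1), Subgroup.mem_bot] at h6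
    apply hg
    rw [← hge, h6, one_mul]
    exact e'.2
  -- the action on Z(P)
  haveI : Nontrivial ↥E := (Subgroup.nontrivial_iff_ne_bot _).mpr hEbot
  let ρG : G →* MulAut ↥(Subgroup.center ↥(P : Subgroup G)) :=
    (resChar (Subgroup.center ↥(P : Subgroup G)) inferInstance).comp MulAut.conjNormal
  let ρ : ↥E →* MulAut ↥(Subgroup.center ↥(P : Subgroup G)) := ρG.comp E.subtype
  have hρ : ∀ (d : ↥E) (v : ↥(Subgroup.center ↥(P : Subgroup G))),
      (((ρ d v : ↥(Subgroup.center ↥(P : Subgroup G))) : ↥(P : Subgroup G)) : G) =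
        (d : G) * ((v : ↥(P : Subgroup G)) : G) * (d : G)⁻¹ := fun d v => rfl
  have hf : ∀ d : ↥E, d ≠ 1 → ∀ v, ρ d v = v → v = 1 := by
    intro d hd v hv
    have h1 := hρ d v
    rw [hv] at h1
    have h2 : ((v : ↥(P : Subgroup G)) : G) ∈ H ⊓ Subgroup.centralizer ({(d : G)} : Set G) := by
      refine ⟨hPH (v : ↥(P : Subgroup G)).2, ?_⟩
      apply mem_centralizer_singleton.mpr
      calc (d : G) * ((v : ↥(P : Subgroup G)) : G)
          = ((d : G) * ((v : ↥(P : Subgroup G)) : G) * (d : G)⁻¹) * d := by group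
        _ = ((v : ↥(P : Subgroup G)) : G) * d := by rw [← h1]
    rw [hfpf d d.2 (fun h => hd (Subtype.ext h)), Subgroup.mem_bot] at h2
    exact Subtype.ext (Subtype.ext h2)
  have hVp : ∀ v : ↥(Subgroup.center ↥(P : Subgroup G)), ∃ k : ℕ, v ^ (p ^ k) = 1 := by
    intro v
    obtain ⟨k, hk⟩ := P.isPGroup' (v : ↥(P : Subgroup G))
    refine ⟨k, Subtype.ext ?_⟩
    rw [Subgroup.coe_pow, Subgroup.coe_one]
    exact hk
  have hV : ∃ v : ↥(Subgroup.center ↥(P : Subgroup G)), v ≠ 1 := by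
    refine ⟨⟨⟨z, hzP⟩, ?_⟩, ?_⟩
    · rw [Subgroup.mem_center_iff]
      intro g
      exact Subtype.ext (hzc g g.2)
    · intro h
      exact hz1 (congrArg (fun v : ↥(Subgroup.center ↥(P : Subgroup G)) =>
        ((v : ↥(P : Subgroup G)) : G)) h)
  have hCNE : ∀ g : ↥E, g ≠ 1 →
      Group.IsNilpotent (Subgroup.centralizer ({g} : Set ↥E)) := by
    intro g hg
    haveI hL := hCN (g : G) (fun h => hg (Subtype.ext h))
    let f : ↥(Subgroup.centralizer ({g} : Set ↥E)) →*
        ↥(Subgroup.centralizer ({(g : G)} : Set G)) :=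
      { toFun := fun x => ⟨((x : ↥E) : G), by
          rw [mem_centralizer_singleton]
          exact congrArg Subtype.val (mem_centralizer_singleton.mp x.2)⟩
        map_one' := rfl
        map_mul' := fun _ _ => rfl }
    have hfinj : Function.Injective f := by
      intro x y hxy
      apply Subtype.ext
      apply Subtype.ext
      exact congrArg (fun w : ↥(Subgroup.centralizer ({(g : G)} : Set G)) => (w : G)) hxy
    exact Group.nilpotent_of_mulEquiv (MonoidHom.ofInjective hfinj).symm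
  have hVcomm : ∀ a b : ↥(Subgroup.center ↥(P : Subgroup G)), a * b = b * a := fun a b =>
    Subtype.ext (Subgroup.mem_center_iff.mp b.2 a)
  obtain ⟨z₀, hz₀1, hz₀c⟩ := fpf_cn_exists_central hVcomm p hVp hV hEp ρ hf hCNE
  have hEnil : Group.IsNilpotent ↥E := by
    haveI hL := hCN (z₀ : G) (fun h => hz₀1 (Subtype.ext h))
    let f : ↥E →* ↥(Subgroup.centralizer ({(z₀ : G)} : Set G)) :=
      { toFun := fun x => ⟨(x : G), by
          rw [mem_centralizer_singleton]
          exact (congrArg Subtype.val (hz₀c x)).symm⟩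
        map_one' := rfl
        map_mul' := fun _ _ => rfl }
    have hfinj : Function.Injective f := fun x y hxy =>
      Subtype.ext (congrArg (fun w : ↥(Subgroup.centralizer ({(z₀ : G)} : Set G)) => (w : G)) hxy)
    exact Group.nilpotent_of_mulEquiv (MonoidHom.ofInjective hfinj).symm
  have hsurj : Function.Surjective ((QuotientGroup.mk' H).comp E.subtype) := by
    intro q
    obtain ⟨g, rfl⟩ := QuotientGroup.mk'_surjective H q
    obtain ⟨⟨h, e'⟩, hhe'⟩ := hE.2 g
    refine ⟨e', ?_⟩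
    have hge : (h : G) * (e' : G) = g := hhe'
    show QuotientGroup.mk' H (e' : G) = QuotientGroup.mk' H g
    have h1 : QuotientGroup.mk' H (h : G) = 1 := (QuotientGroup.eq_one_iff (h : G)).mpr h.2
    rw [← hge, map_mul, h1, one_mul]
  haveI := hEnil
  exact ⟨hHbot, hHtop, ⟨E, hE, hFrob, hfpf⟩, Group.nilpotent_of_surjective _ hsurj⟩

/-- **Feit–Hall–Thompson, CN-groups with a normal Sylow subgroup.** -/
theorem cn_normal_sylow_structure {G : Type u} [Group G] [Finite G] (hCN : IsCNGroup G)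
    (hnn : ¬ Group.IsNilpotent G) (p : ℕ) [Fact p.Prime] (P : Sylow p G)
    (hP1 : (P : Subgroup G) ≠ ⊥) (hPn : (P : Subgroup G).Normal) :
    fittingHall G ≠ ⊥ ∧ fittingHall G ≠ ⊤ ∧
      (∃ E : Subgroup G, Subgroup.IsComplement' (fittingHall G) E ∧ IsFrobeniusComplement E ∧
        ∀ e ∈ E, e ≠ 1 → fittingHall G ⊓ Subgroup.centralizer ({e} : Set G) = ⊥) ∧
      Group.IsNilpotent (G ⧸ fittingHall G) := by
  haveI : Nontrivial ↥(P : Subgroup G) := (Subgroup.nontrivial_iff_ne_bot _).mpr hP1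
  haveI : Nontrivial ↥(Subgroup.center ↥(P : Subgroup G)) := P.isPGroup'.center_nontrivial
  obtain ⟨⟨z', hz'c⟩, hz'1⟩ := exists_ne (1 : ↥(Subgroup.center ↥(P : Subgroup G)))
  have hzP : (z' : G) ∈ P := z'.2
  have hz1 : (z' : G) ≠ 1 := fun h => hz'1 (Subtype.ext (Subtype.ext h))
  have hzc : ∀ x ∈ P, x * (z' : G) = (z' : G) * x := fun x hx =>
    congrArg Subtype.val (Subgroup.mem_center_iff.mp hz'c ⟨x, hx⟩)
  have hHeq := cn_fittingHall_eq hCN p P hPn _ hzP hz1 hzc
  have hHmem : ∀ x : G, x ∈ fittingHall G ↔ (z' : G) * x = x * (z' : G) := by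
    intro x
    rw [hHeq, mem_centralizer_singleton]
  have hHall : (Nat.card (fittingHall G)).Coprime (fittingHall G).index := by
    rw [hHeq]
    exact cn_centralizer_hall hCN p P hPn _ hzP hz1 hzc
  have hHtop : fittingHall G ≠ ⊤ := by
    intro h
    apply hnn
    haveI hnil : Group.IsNilpotent ↥(Subgroup.centralizer ({(z' : G)} : Set G)) := hCN _ hz1
    rw [hHeq] at h
    have e1 : ↥(Subgroup.centralizer ({(z' : G)} : Set G)) ≃* G :=
      (MulEquiv.subgroupCongr h).trans Subgroup.topEquiv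
    exact Group.nilpotent_of_mulEquiv e1
  exact cn_frobenius_core hCN p P hPn _ hzP hz1 hzc (fittingHall G) hHmem hHall hHtop

end Cfsg.Agent.Lib.Helper34
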