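import Mathlib
import Cfsg.Agent.Lib.Helper34.CN5
import Cfsg.Agent.Lib.Helper30.Coprime
import Cfsg.Agent.Lib.Helper30.Cores

set_option autoImplicit false

namespace Cfsg.Agent.Lib.Helper34

open Cfsg

universe u

section

variable {G : Type u} [Group G] [Finite G]

omit [Finite G] in
theorem exists_pow_of_mem_pgroup (p : ℕ) (P : Subgroup G) (hP : IsPGroup p P) (u : G)
    (hu : u ∈ P) : ∃ k : ℕ, u ^ (p ^ k) = 1 := by
  obtain ⟨k, hk⟩ := hP ⟨u, hu⟩
  exact ⟨k, by simpa using congrArg Subtype.val hk⟩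

/-- existence of a nontrivial element of `Z(P)` -/
theorem exists_center_elt (p : ℕ) [Fact p.Prime] (P : Subgroup G) (hP : IsPGroup p P)
    (hP1 : P ≠ ⊥) : ∃ z ∈ P, z ≠ 1 ∧ ∀ u ∈ P, u * z = z * u := by
  haveI : Nontrivial ↥P := (Subgroup.nontrivial_iff_ne_bot _).mpr hP1
  haveI : Nontrivial ↥(Subgroup.center ↥P) := hP.center_nontrivial
  obtain ⟨⟨z', hz'c⟩, hz'1⟩ := exists_ne (1 : ↥(Subgroup.center ↥P))
  exact ⟨(z' : G), z'.2, fun h => hz'1 (Subtype.ext (Subtype.ext h)), fun u hu =>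
    congrArg Subtype.val (Subgroup.mem_center_iff.mp hz'c ⟨u, hu⟩)⟩

/-- **(F1)** In a CN-group, if `P` is a nontrivial normal `p`-subgroup with `C_G(P) ≤ P`, every
nontrivial `p'`-element acts fixed-point-freely on `P`. -/
theorem cn_fpf_of_centralizer_le (hCN : IsCNGroup G) (p : ℕ) [Fact p.Prime] (P : Subgroup G)
    (hP : IsPGroup p P) (hP1 : P ≠ ⊥) (hcent : Subgroup.centralizer (P : Set G) ≤ P)
    (x : G) (hx1 : x ≠ 1) (m : ℕ) (hm : m.Coprime p) (hxm : x ^ m = 1) :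
    P ⊓ Subgroup.centralizer ({x} : Set G) = ⊥ := by
  rw [eq_bot_iff]
  rintro y ⟨hyP, hyx⟩
  rw [Subgroup.mem_bot]
  by_contra hy1
  obtain ⟨z, hzP, hz1, hzc⟩ := exists_center_elt p P hP hP1
  obtain ⟨kz, hkz⟩ := exists_pow_of_mem_pgroup p P hP z hzP
  have h1 : x * z = z * x := by
    have hL := hCN y hy1
    have hx' : x ∈ Subgroup.centralizer ({y} : Set G) := by
      rw [mem_centralizer_singleton]; exact (mem_centralizer_singleton.mp hyx).symm
    have hz' : z ∈ Subgroup.centralizer ({y} : Set G) := by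
      rw [mem_centralizer_singleton]; exact hzc y hyP
    exact commute_of_nilpotent_of_pow hL hx' hz' m (p ^ kz) (Nat.Coprime.pow_right kz hm) hxm hkz
  have h2 : x ∈ Subgroup.centralizer (P : Set G) := by
    have hL := hCN z hz1
    apply Subgroup.mem_centralizer_iff.mpr
    intro u hu
    obtain ⟨ku, hku⟩ := exists_pow_of_mem_pgroup p P hP u hu
    have hx' : x ∈ Subgroup.centralizer ({z} : Set G) := by
      rw [mem_centralizer_singleton]; exact h1.symm
    have hu' : u ∈ Subgroup.centralizer ({z} : Set G) := by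
      rw [mem_centralizer_singleton]; exact (hzc u hu).symm
    exact (commute_of_nilpotent_of_pow hL hx' hu' m (p ^ ku) (Nat.Coprime.pow_right ku hm)
      hxm hku).symm
  obtain ⟨kx, hkx⟩ := exists_pow_of_mem_pgroup p P hP x (hcent h2)
  apply hx1
  have h3 := Nat.dvd_gcd (orderOf_dvd_of_pow_eq_one hxm) (orderOf_dvd_of_pow_eq_one hkx)
  rw [Nat.Coprime.gcd_eq_one (Nat.Coprime.pow_right kx hm)] at h3
  exact orderOf_eq_one_iff.mp (Nat.dvd_one.mp h3)

omit [Finite G] in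
/-- centralizers in a subgroup of a CN-group are nilpotent -/
theorem cn_centralizer_subgroup_nilpotent (hCN : IsCNGroup G) (E : Subgroup G) (g : ↥E)
    (hg : g ≠ 1) : Group.IsNilpotent (Subgroup.centralizer ({g} : Set ↥E)) := by
  haveI hL := hCN (g : G) (fun h => hg (Subtype.ext h))
  let f : ↥(Subgroup.centralizer ({g} : Set ↥E)) →*
      ↥(Subgroup.centralizer ({(g : G)} : Set G)) :=
    { toFun := fun x => ⟨((x : ↥E) : G), by
        rw [mem_centralizer_singleton]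
        exact congrArg Subtype.val (mem_centralizer_singleton.mp x.2)⟩
      map_one' := rfl
      map_mul' := fun _ _ => rfl }
  have hfinj : Function.Injective f := by
    intro x y hxy
    apply Subtype.ext
    apply Subtype.ext
    exact congrArg (fun w : ↥(Subgroup.centralizer ({(g : G)} : Set G)) => (w : G)) hxy
  exact Group.nilpotent_of_mulEquiv (MonoidHom.ofInjective hfinj).symm

omit [Finite G] in
/-- a subgroup of a CN-group with a nontrivial central element is nilpotent -/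
theorem cn_nilpotent_of_central (hCN : IsCNGroup G) (D : Subgroup G) (z₀ : G) (hz₀1 : z₀ ≠ 1)
    (hz₀c : ∀ d ∈ D, d * z₀ = z₀ * d) : Group.IsNilpotent ↥D := by
  haveI hL := hCN z₀ hz₀1
  let f : ↥D →* ↥(Subgroup.centralizer ({z₀} : Set G)) :=
    { toFun := fun x => ⟨(x : G), by
        rw [mem_centralizer_singleton]
        exact (hz₀c x x.2).symm⟩
      map_one' := rfl
      map_mul' := fun _ _ => rfl }
  have hfinj : Function.Injective f := fun x y hxy =>
    Subtype.ext (congrArg (fun w : ↥(Subgroup.centralizer ({z₀} : Set G)) => (w : G)) hxy)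
  exact Group.nilpotent_of_mulEquiv (MonoidHom.ofInjective hfinj).symm

/-- facts on `V = Z(P)` -/
theorem center_facts (p : ℕ) [Fact p.Prime] (P : Subgroup G) (hP : IsPGroup p P) (hP1 : P ≠ ⊥) :
    (∀ a b : ↥(Subgroup.center ↥P), a * b = b * a) ∧
      (∀ v : ↥(Subgroup.center ↥P), ∃ k : ℕ, v ^ (p ^ k) = 1) ∧
      ∃ v : ↥(Subgroup.center ↥P), v ≠ 1 := by
  refine ⟨fun a b => Subtype.ext (Subgroup.mem_center_iff.mp b.2 a), ?_, ?_⟩
  · intro v
    obtain ⟨k, hk⟩ := hP (v : ↥P)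
    refine ⟨k, Subtype.ext ?_⟩
    rw [Subgroup.coe_pow, Subgroup.coe_one]
    exact hk
  · haveI : Nontrivial ↥P := (Subgroup.nontrivial_iff_ne_bot _).mpr hP1
    haveI : Nontrivial ↥(Subgroup.center ↥P) := hP.center_nontrivial
    exact exists_ne (1 : ↥(Subgroup.center ↥P))

omit [Finite G] in
/-- the action of a subgroup `D` on `Z(P)`, fixed-point-free if `D` is so on `P` -/
theorem exists_fpf_action (P : Subgroup G) [hPn : P.Normal] (D : Subgroup G)
    (hfpf : ∀ d ∈ D, d ≠ 1 → P ⊓ Subgroup.centralizer ({d} : Set G) = ⊥) :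
    ∃ ρ : ↥D →* MulAut ↥(Subgroup.center ↥P), ∀ d : ↥D, d ≠ 1 → ∀ v, ρ d v = v → v = 1 := by
  let ρG : G →* MulAut ↥(Subgroup.center ↥P) :=
    (resChar (Subgroup.center ↥P) inferInstance).comp MulAut.conjNormal
  let ρ : ↥D →* MulAut ↥(Subgroup.center ↥P) := ρG.comp D.subtype
  have hρ : ∀ (d : ↥D) (v : ↥(Subgroup.center ↥P)),
      (((ρ d v : ↥(Subgroup.center ↥P)) : ↥P) : G) =
        (d : G) * ((v : ↥P) : G) * (d : G)⁻¹ := fun d v => rfl
  refine ⟨ρ, ?_⟩
  intro d hd v hv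
  have h1 := hρ d v
  rw [hv] at h1
  have h2 : ((v : ↥P) : G) ∈ P ⊓ Subgroup.centralizer ({(d : G)} : Set G) := by
    refine ⟨(v : ↥P).2, ?_⟩
    apply mem_centralizer_singleton.mpr
    calc (d : G) * ((v : ↥P) : G)
        = ((d : G) * ((v : ↥P) : G) * (d : G)⁻¹) * d := by group
      _ = ((v : ↥P) : G) * d := by rw [← h1]
  rw [hfpf d d.2 (fun h => hd (Subtype.ext h)), Subgroup.mem_bot] at h2
  exact Subtype.ext (Subtype.ext h2)

omit [Finite G] in
theorem pow_card_subgroup_eq_one [Finite G] (D : Subgroup G) (d : G) (hd : d ∈ D) :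
    d ^ Nat.card D = 1 := by
  have h := pow_card_eq_one' (G := ↥D) (x := ⟨d, hd⟩)
  have h' : (((⟨d, hd⟩ : ↥D) ^ Nat.card D : ↥D) : G) = ((1 : ↥D) : G) := congrArg Subtype.val h
  rw [Subgroup.coe_pow, Subgroup.coe_one] at h'
  exact h'

/-- **(F2)** `p'`-subgroups are nilpotent with nontrivial centre -/
theorem cn_pprime_subgroup_central (hCN : IsCNGroup G) (p : ℕ) [Fact p.Prime] (P : Subgroup G)
    [hPn : P.Normal] (hP : IsPGroup p P) (hP1 : P ≠ ⊥)
    (hcent : Subgroup.centralizer (P : Set G) ≤ P)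
    (D : Subgroup G) (hD : (Nat.card D).Coprime p) (hD1 : D ≠ ⊥) :
    ∃ z₀ ∈ D, z₀ ≠ 1 ∧ ∀ d ∈ D, d * z₀ = z₀ * d := by
  have hfpf : ∀ d ∈ D, d ≠ 1 → P ⊓ Subgroup.centralizer ({d} : Set G) = ⊥ := fun d hd hd1 =>
    cn_fpf_of_centralizer_le hCN p P hP hP1 hcent d hd1 _ hD (pow_card_subgroup_eq_one D d hd)
  obtain ⟨ρ, hf⟩ := exists_fpf_action P D hfpf
  obtain ⟨hVcomm, hVp, hV⟩ := center_facts p P hP hP1
  haveI : Nontrivial ↥D := (Subgroup.nontrivial_iff_ne_bot _).mpr hD1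
  obtain ⟨z₀, hz₀1, hz₀c⟩ := fpf_cn_exists_central hVcomm p hVp hV hD ρ hf
    (cn_centralizer_subgroup_nilpotent hCN D)
  exact ⟨(z₀ : G), z₀.2, fun h => hz₀1 (Subtype.ext h), fun d hd =>
    congrArg Subtype.val (hz₀c ⟨d, hd⟩)⟩

theorem cn_pprime_subgroup_nilpotent (hCN : IsCNGroup G) (p : ℕ) [Fact p.Prime] (P : Subgroup G)
    [hPn : P.Normal] (hP : IsPGroup p P) (hP1 : P ≠ ⊥)
    (hcent : Subgroup.centralizer (P : Set G) ≤ P)
    (D : Subgroup G) (hD : (Nat.card D).Coprime p) : Group.IsNilpotent ↥D := by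
  by_cases hD1 : D = ⊥
  · subst hD1
    infer_instance
  · obtain ⟨z₀, -, hz₀1, hz₀c⟩ := cn_pprime_subgroup_central hCN p P hP hP1 hcent D hD hD1
    exact cn_nilpotent_of_central hCN D z₀ hz₀1 hz₀c

end

/-- `q`-subgroups (`q` odd) of a group acting fixed-point-freely are cyclic -/
theorem fpf_isCyclic_of_pgroup {E : Type u} [Group E] [Finite E] {V : Type*} [Group V]
    (hVcomm : ∀ a b : V, a * b = b * a) (p : ℕ) [Fact p.Prime]
    (hVp : ∀ v : V, ∃ k : ℕ, v ^ (p ^ k) = 1) (hV : ∃ v : V, v ≠ 1)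
    (hEp : (Nat.card E).Coprime p)
    (ρ : E →* MulAut V) (hf : ∀ d : E, d ≠ 1 → ∀ v : V, ρ d v = v → v = 1)
    (q : ℕ) [Fact q.Prime] (hq2 : q ≠ 2) (Q : Subgroup E) (hQ : IsPGroup q Q) : IsCyclic ↥Q := by
  letI : CommGroup V := { (inferInstance : Group V) with mul_comm := hVcomm }
  have hq : q.Prime := Fact.out
  have hVm : ∀ m : ℕ, m.Coprime p → (∀ v : V, v ^ m = 1) → False := by
    intro m hm hall
    obtain ⟨v, hv⟩ := hV
    obtain ⟨k, hk⟩ := hVp v
    apply hv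
    have h1 := Nat.dvd_gcd (orderOf_dvd_of_pow_eq_one (hall v)) (orderOf_dvd_of_pow_eq_one hk)
    rw [Nat.Coprime.gcd_eq_one (Nat.Coprime.pow_right k hm)] at h1
    exact orderOf_eq_one_iff.mp (Nat.dvd_one.mp h1)
  by_contra hnc
  obtain ⟨A, -, ⟨hAc, hAq⟩, hAcard⟩ := Cfsg.Agent.S0126.result hq2 hQ hnc
  have hAne : A ≠ ⊥ := by
    intro h
    rw [h, Subgroup.card_bot] at hAcard
    have := hq.one_lt
    nlinarith
  obtain ⟨y, hyA, hy1⟩ := A.bot_or_exists_ne_one.resolve_left hAne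
  have hyq : y ^ q = 1 := hAq y hyA
  have hyo : orderOf y = q := by
    rcases (Nat.dvd_prime hq).mp (orderOf_dvd_of_pow_eq_one hyq) with h | h
    · exact absurd (orderOf_eq_one_iff.mp h) hy1
    · exact h
  have hex : ∃ x ∈ A, x ∉ Subgroup.zpowers y := by
    by_contra hcon
    push Not at hcon
    have h3 : Nat.card A ≤ Nat.card (Subgroup.zpowers y) :=
      Subgroup.card_le_of_le (fun x hx => hcon x hx)
    rw [hAcard, Nat.card_zpowers, hyo] at h3
    have := hq.one_lt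
    nlinarith
  obtain ⟨x, hxA, hxy⟩ := hex
  have hcomm : x * y = y * x := congrArg Subtype.val (hAc.is_comm.comm ⟨x, hxA⟩ ⟨y, hyA⟩)
  have hqE : q ∣ Nat.card E := by
    have h3 : orderOf (y : E) = q := by rw [Subgroup.orderOf_coe]; exact hyo
    rw [← h3]; exact orderOf_dvd_natCard _
  apply hVm q (Nat.Coprime.coprime_dvd_left hqE hEp)
  intro v
  refine fpf_noncyclic_pow ρ hf (x : E) (y : E) q hq ?_ ?_ ?_ ?_ v
  · exact congrArg Subtype.val hcomm
  · have := congrArg Subtype.val (hAq x hxA)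
    simpa using this
  · rw [Subgroup.orderOf_coe]; exact hyo
  · intro h
    apply hxy
    obtain ⟨i, hi⟩ := Subgroup.mem_zpowers_iff.mp h
    rw [Subgroup.mem_zpowers_iff]
    refine ⟨i, Subtype.ext ?_⟩
    rw [Subgroup.coe_zpow]
    exact hi

end Cfsg.Agent.Lib.Helper34
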