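import Mathlib
import Cfsg.Agent.Lib.Helper34.Rank2d

set_option autoImplicit false

namespace Cfsg.Agent.Lib.Helper34

open Cfsg

universe u v

section

variable {G : Type u} [Group G] [Finite G]

/-- `q`-elements of `F(G)` lie in `O_q(G)` -/
theorem mem_pCore_of_mem_fitting (q : ℕ) [Fact q.Prime] (x : G)
    (hx : x ∈ fittingSubgroup G) (k : ℕ) (hk : x ^ (q ^ k) = 1) : x ∈ pCore q G := by
  haveI : (fittingSubgroup G).Normal := Helper30.fitting_normal
  haveI : Group.IsNilpotent ↥(fittingSubgroup G) := Helper30.fitting_nilpotent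
  let P : Sylow q ↥(fittingSubgroup G) := default
  haveI hPn : (P : Subgroup ↥(fittingSubgroup G)).Normal := inferInstance
  haveI : (P : Subgroup ↥(fittingSubgroup G)).Characteristic :=
    Sylow.characteristic_of_normal P hPn
  have hN : ((P : Subgroup ↥(fittingSubgroup G)).map (fittingSubgroup G).subtype).Normal :=
    ConjAct.normal_of_characteristic_of_normal
  have hPg : IsPGroup q ((P : Subgroup ↥(fittingSubgroup G)).map (fittingSubgroup G).subtype) :=
    P.isPGroup'.map _
  apply Helper30.le_pCore_of_normal hN hPg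
  have hz : IsPGroup q (Subgroup.zpowers (⟨x, hx⟩ : ↥(fittingSubgroup G))) := by
    apply isPGroup_zpowers_of_pow (k := k)
    exact Subtype.ext (by simpa using hk)
  obtain ⟨P', hP'⟩ := hz.exists_le_sylow
  obtain ⟨g, hg⟩ := MulAction.exists_smul_eq ↥(fittingSubgroup G) P P'
  rw [Sylow.smul_eq_of_normal] at hg
  rw [← hg] at hP'
  exact ⟨⟨x, hx⟩, hP' (Subgroup.mem_zpowers _), rfl⟩

/-- in a finite solvable group, `C_G(F(G)) ≤ F(G)` -/
theorem solv_centralizer_fitting_le [Group.IsSolvable G] :
    Subgroup.centralizer (fittingSubgroup G : Set G) ≤ fittingSubgroup G := by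
  have hl : layer G = ⊥ := by
    rw [Helper30.layer_eq_bot_iff]
    intro K hK
    exact Helper30.comp_not_solvable hK inferInstance
  have h := Helper30.centralizer_genFitting_le (G := G)
  have e : generalizedFittingSubgroup G = fittingSubgroup G := by
    show layer G ⊔ fittingSubgroup G = fittingSubgroup G
    rw [hl, bot_sup_eq]
  rwa [e] at h

/-- an element inducing the trivial automorphism on a normal subgroup centralizes it -/
theorem mem_centralizer_of_conjNormal_eq_one (N : Subgroup G) [N.Normal] (g : G)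
    (h : (MulAut.conjNormal g : MulAut ↥N) = 1) : g ∈ Subgroup.centralizer (N : Set G) := by
  apply Subgroup.mem_centralizer_iff.mpr
  intro x hx
  have h2 : (((MulAut.conjNormal g : MulAut ↥N) ⟨x, hx⟩ : ↥N) : G) = g * x * g⁻¹ :=
    MulAut.conjNormal_apply g ⟨x, hx⟩
  rw [h] at h2
  have h3 : x = g * x * g⁻¹ := h2
  calc x * g = (g * x * g⁻¹) * g := by rw [← h3]
    _ = g * x := by group

/-- in a group of odd order, `O_2(G)` is trivial -/
theorem pCore_two_eq_bot (hodd : Odd (Nat.card G)) : pCore 2 G = ⊥ := by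
  haveI : Fact (Nat.Prime 2) := ⟨Nat.prime_two⟩
  obtain ⟨n, hn⟩ := IsPGroup.iff_card.mp (Helper30.pCore_isPGroup (G := G) 2)
  have h1 : Nat.card (pCore 2 G) ∣ Nat.card G := Subgroup.card_subgroup_dvd_card _
  rw [hn] at h1
  rcases Nat.eq_zero_or_pos n with h0 | h0
  · rw [h0, pow_zero] at hn
    exact Subgroup.card_eq_one.mp hn
  · exfalso
    exact (Nat.not_even_iff_odd.mpr hodd)
      (even_iff_two_dvd.mpr (dvd_trans (dvd_pow_self 2 h0.ne') h1))

/-- **Fact A1.** -/
theorem rank2_commutator_pow_mem_centralizer [Group.IsSolvable G] (hodd : Odd (Nat.card G))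
    (q : ℕ) [Fact q.Prime] (hr : PRankLE q 2 ↥(pCore q G)) (g : G) (hg : g ∈ commutator G) :
    ∃ k : ℕ, g ^ (q ^ k) ∈ Subgroup.centralizer (pCore q G : Set G) := by
  by_cases hq2 : q = 2
  · subst hq2
    refine ⟨0, ?_⟩
    rw [pCore_two_eq_bot hodd]
    apply Subgroup.mem_centralizer_iff.mpr
    intro h hh
    rw [show h = 1 from hh]
    simp
  · haveI hQn : (pCore q G).Normal := Helper30.pCore_normal q G
    let θ : G →* MulAut ↥(pCore q G) := MulAut.conjNormal
    have hsH : Group.IsSolvable ↥θ.range :=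
      solvable_of_surjective θ.rangeRestrict_surjective
    have hoddH : Odd (Nat.card ↥θ.range) := Odd.of_dvd_nat hodd (Subgroup.card_range_dvd θ)
    have key := commutator_isPGroup_of_rank2 q hq2 (Helper30.pCore_isPGroup q) hr hsH hoddH
      θ.range.subtype (by
        intro h hh
        refine ⟨0, ?_⟩
        rw [pow_zero, pow_one]
        exact Subtype.ext hh)
    have h1 : θ.rangeRestrict g ∈ commutator ↥θ.range :=
      map_commutator_le θ.rangeRestrict ⟨g, hg, rfl⟩
    obtain ⟨k, hk⟩ := key ⟨_, h1⟩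
    refine ⟨k, ?_⟩
    apply mem_centralizer_of_conjNormal_eq_one
    have h2 : (θ.rangeRestrict g) ^ (q ^ k) = 1 := by
      simpa using congrArg Subtype.val hk
    have h3 := congrArg Subtype.val h2
    rw [← map_pow] at h3
    exact h3

/-- **Fact A2.** -/
theorem rank2_mem_centralizer_of_large_prime (hodd : Odd (Nat.card G))
    (q : ℕ) [Fact q.Prime] (hr : PRankLE q 2 ↥(pCore q G)) (s : ℕ) (hs : s.Prime) (hqs : q < s)
    (x : G) (k : ℕ) (hx : x ^ (s ^ k) = 1) :
    x ∈ Subgroup.centralizer (pCore q G : Set G) := by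
  by_cases hq2 : q = 2
  · subst hq2
    rw [pCore_two_eq_bot hodd]
    apply Subgroup.mem_centralizer_iff.mpr
    intro h hh
    rw [show h = 1 from hh]
    simp
  · haveI hQn : (pCore q G).Normal := Helper30.pCore_normal q G
    let θ : G →* MulAut ↥(pCore q G) := MulAut.conjNormal
    by_contra hne
    have h1 : θ x ≠ 1 := fun h => hne (mem_centralizer_of_conjNormal_eq_one _ x h)
    have h2 : (θ x) ^ (s ^ k) = 1 := by rw [← map_pow, hx, map_one]
    obtain ⟨j, hjk, hj⟩ := (Nat.dvd_prime_pow hs).mp (orderOf_dvd_of_pow_eq_one h2)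
    have hj0 : j ≠ 0 := by
      rintro rfl
      rw [pow_zero] at hj
      exact h1 (orderOf_eq_one_iff.mp hj)
    have h3 : orderOf ((θ x) ^ (s ^ (j - 1))) = s := by
      rw [orderOf_pow_of_dvd (pow_pos hs.pos _).ne'
        (by rw [hj]; exact pow_dvd_pow s (Nat.sub_le j 1)), hj,
        Nat.pow_div (Nat.sub_le j 1) hs.pos]
      have : j - (j - 1) = 1 := by omega
      rw [this, pow_one]
    have h4 := prime_order_aut_of_rank2 q hq2 (Helper30.pCore_isPGroup q) hr _ s hs
      (ne_of_gt hqs) h3
    omega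

end

end Cfsg.Agent.Lib.Helper34
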