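import Mathlib
import Cfsg.Agent.Lib.Helper34.CN6
import Cfsg.Agent.Lib.Helper34.Rank2e

set_option autoImplicit false

namespace Cfsg.Agent.Lib.Helper34

open Cfsg

universe u

section

variable {G : Type u} [Group G] [Finite G]

/-- **(F6)** a `p`-element centralizes a nontrivial element of a nontrivial normal
`p`-subgroup -/
theorem exists_fixed_of_pelement (p : ℕ) [Fact p.Prime] (P : Subgroup G) [hPn : P.Normal]
    (hP : IsPGroup p P) (hP1 : P ≠ ⊥) (y : G) (k : ℕ) (hy : y ^ (p ^ k) = 1) :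
    ∃ w ∈ P, w ≠ 1 ∧ w * y = y * w := by
  have hp : p.Prime := Fact.out
  have hA : IsPGroup p (Subgroup.zpowers y) := isPGroup_zpowers_of_pow hy
  have hT : ¬ p ∣ Nat.card ↥({w : G | w ∈ P ∧ w ≠ 1} : Set G) := by
    have h1 : ({w : G | w ∈ P ∧ w ≠ 1} : Set G) = (P : Set G) \ {1} := by
      ext w
      simp only [Set.mem_setOf_eq, Set.mem_diff, SetLike.mem_coe, Set.mem_singleton_iff]
    rw [h1, Nat.card_coe_set_eq]
    have h2 : ((P : Set G) \ {1}).ncard + 1 = (P : Set G).ncard :=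
      Set.ncard_diff_singleton_add_one P.one_mem (Set.toFinite _)
    have h3 : (P : Set G).ncard = Nat.card P := (Nat.card_coe_set_eq _).symm
    obtain ⟨n, hn⟩ := IsPGroup.iff_card.mp hP
    have hn0 : n ≠ 0 := by
      rintro rfl
      rw [pow_zero] at hn
      exact hP1 (Subgroup.card_eq_one.mp hn)
    intro hdvd
    have h4 : p ∣ ((P : Set G) \ {1}).ncard + 1 := by
      rw [h2, h3, hn]; exact dvd_pow_self p hn0
    have h5 : p ∣ 1 := (Nat.dvd_add_right hdvd).mp h4
    exact hp.one_lt.ne' (Nat.dvd_one.mp h5)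
  obtain ⟨w, ⟨hwP, hw1⟩, hfix⟩ := Helper30.exists_conj_fixed p hA _ (by
    rintro a ha t ⟨htP, ht1⟩
    refine ⟨hPn.conj_mem t htP a, ?_⟩
    intro h
    apply ht1
    have e : t = a⁻¹ * (a * t * a⁻¹) * a := by group
    rw [e, h]; group) hT
  refine ⟨w, hwP, hw1, ?_⟩
  have h6 := hfix y (Subgroup.mem_zpowers y)
  calc w * y = (y * w * y⁻¹) * y := by rw [h6]
    _ = y * w := by group

/-- **(F7)** a `p`-element modulo `P` commuting modulo `P` with a `p'`-element of prime order
lies in `P` -/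
theorem cn_mem_of_commute_mod (hCN : IsCNGroup G) (p : ℕ) [Fact p.Prime] (P : Subgroup G)
    [hPn : P.Normal] (hP : IsPGroup p P) (hP1 : P ≠ ⊥)
    (hcent : Subgroup.centralizer (P : Set G) ≤ P)
    (a : G) (s : ℕ) (hs : s.Prime) (hsp : s ≠ p) (ha : orderOf a = s)
    (u : G) (j : ℕ) (hu : u ^ (p ^ j) ∈ P) (hua : u * a * u⁻¹ * a⁻¹ ∈ P) : u ∈ P := by
  haveI : Fact s.Prime := ⟨hs⟩
  have hp : p.Prime := Fact.out
  have ha1 : a ≠ 1 := ne_one_of_orderOf_prime hs ha
  have has : a ^ s = 1 := by rw [← ha, pow_orderOf_eq_one]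
  have hA : IsPGroup s (Subgroup.zpowers a) :=
    isPGroup_zpowers_of_pow (k := 1) (by rwa [pow_one])
  have hAN : Subgroup.zpowers a ≤ Subgroup.normalizer (P : Set G) := by
    rw [Subgroup.normalizer_eq_top_iff.mpr inferInstance]; exact le_top
  have hcop : s.Coprime p := (Nat.coprime_primes hs hp).mpr hsp
  have hsP : ¬ s ∣ Nat.card P := by
    obtain ⟨n, hn⟩ := IsPGroup.iff_card.mp hP
    rw [hn]
    intro h
    exact hsp ((Nat.prime_dvd_prime_iff_eq hs hp).mp (hs.dvd_of_dvd_pow h))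
  have hstab : ∀ e ∈ Subgroup.zpowers a, u⁻¹ * (e * u * e⁻¹) ∈ P := by
    intro e he
    rw [← QuotientGroup.eq_one_iff (N := P)]
    have h1 : Commute (QuotientGroup.mk' P a) (QuotientGroup.mk' P u) := by
      have h2 : QuotientGroup.mk' P (u * a * u⁻¹ * a⁻¹) = 1 := (QuotientGroup.eq_one_iff _).mpr hua
      rw [map_mul, map_mul, map_mul, map_inv, map_inv] at h2
      have h3 := mul_inv_eq_one.mp h2
      rw [mul_inv_eq_iff_eq_mul] at h3
      exact h3.symm
    obtain ⟨i, rfl⟩ := Subgroup.mem_zpowers_iff.mp he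
    show QuotientGroup.mk' P (u⁻¹ * (a ^ i * u * (a ^ i)⁻¹)) = 1
    rw [map_mul, map_mul, map_mul, map_inv, map_inv, map_zpow, (h1.zpow_left i).eq]
    group
  obtain ⟨n, hn, hfix⟩ := Helper30.coset_fixed s hA hAN hsP u hstab
  have hya : a * (u * n) = (u * n) * a := by
    have h4 := hfix a (Subgroup.mem_zpowers a)
    calc a * (u * n) = (a * (u * n) * a⁻¹) * a := by group
      _ = (u * n) * a := by rw [h4]
  have hyP : (u * n) ^ (p ^ j) ∈ P := by
    rw [← QuotientGroup.eq_one_iff (N := P)]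
    show QuotientGroup.mk' P ((u * n) ^ (p ^ j)) = 1
    have h5 : QuotientGroup.mk' P n = 1 := (QuotientGroup.eq_one_iff n).mpr hn
    rw [map_pow, map_mul, h5, mul_one, ← map_pow]
    exact (QuotientGroup.eq_one_iff _).mpr hu
  obtain ⟨i, hi⟩ := exists_pow_of_mem_pgroup p P hP _ hyP
  have hyp : (u * n) ^ (p ^ (j + i)) = 1 := by rw [pow_add, pow_mul]; exact hi
  by_cases hy1 : u * n = 1
  · have h6 : u = n⁻¹ := eq_inv_of_mul_eq_one_left hy1
    rw [h6]; exact P.inv_mem hn
  · exfalso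
    obtain ⟨w, hwP, hw1, hwy⟩ := exists_fixed_of_pelement p P hP hP1 (u * n) (j + i) hyp
    have hL := hCN (u * n) hy1
    have ha' : a ∈ Subgroup.centralizer ({u * n} : Set G) := by
      rw [mem_centralizer_singleton]; exact hya.symm
    have hw' : w ∈ Subgroup.centralizer ({u * n} : Set G) := by
      rw [mem_centralizer_singleton]; exact hwy.symm
    obtain ⟨kw, hkw⟩ := exists_pow_of_mem_pgroup p P hP w hwP
    have h5 : a * w = w * a := commute_of_nilpotent_of_pow hL ha' hw' s (p ^ kw)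
      (Nat.Coprime.pow_right kw hcop) has hkw
    have h6 := cn_fpf_of_centralizer_le hCN p P hP hP1 hcent a ha1 s hcop has
    have h7 : w ∈ P ⊓ Subgroup.centralizer ({a} : Set G) :=
      ⟨hwP, mem_centralizer_singleton.mpr h5⟩
    rw [h6, Subgroup.mem_bot] at h7
    exact hw1 h7

/-- **(LIFT)** `p'`-subgroups of `G / P` lift to `p'`-subgroups of `G` -/
theorem exists_lift_of_coprime (p : ℕ) [Fact p.Prime] (P : Subgroup G) [P.Normal]
    (hP : IsPGroup p P) (Dbar : Subgroup (G ⧸ P)) (hD : (Nat.card Dbar).Coprime p) :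
    ∃ D₀ : Subgroup G, (Nat.card D₀).Coprime p ∧ D₀.map (QuotientGroup.mk' P) = Dbar := by
  have hPL : P ≤ Dbar.comap (QuotientGroup.mk' P) := by
    intro x hx
    rw [Subgroup.mem_comap]
    have h1 : QuotientGroup.mk' P x = 1 := (QuotientGroup.eq_one_iff x).mpr hx
    rw [h1]
    exact Dbar.one_mem
  have hLcard : Nat.card (Dbar.comap (QuotientGroup.mk' P)) = Nat.card P * Nat.card Dbar :=
    Helper30.card_comap_mk' P Dbar
  haveI : (P.subgroupOf (Dbar.comap (QuotientGroup.mk' P))).Normal := Subgroup.normal_subgroupOf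
  have hNcard : Nat.card (P.subgroupOf (Dbar.comap (QuotientGroup.mk' P))) = Nat.card P :=
    Nat.card_congr (Subgroup.subgroupOfEquivOfLe hPL).toEquiv
  have hNidx : (P.subgroupOf (Dbar.comap (QuotientGroup.mk' P))).index = Nat.card Dbar := by
    have h1 := Subgroup.card_mul_index (P.subgroupOf (Dbar.comap (QuotientGroup.mk' P)))
    rw [hNcard, hLcard] at h1
    exact Nat.eq_of_mul_eq_mul_left Nat.card_pos h1
  have hcop : (Nat.card (P.subgroupOf (Dbar.comap (QuotientGroup.mk' P)))).Coprime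
      (P.subgroupOf (Dbar.comap (QuotientGroup.mk' P))).index := by
    rw [hNcard, hNidx]
    obtain ⟨n, hn⟩ := IsPGroup.iff_card.mp hP
    rw [hn]; exact Nat.Coprime.pow_left n hD.symm
  obtain ⟨K, hK⟩ := Subgroup.exists_right_complement'_of_coprime hcop
  have hKcard : Nat.card K = Nat.card Dbar := by
    rw [← hNidx]; exact (hK.symm.index_eq_card).symm
  refine ⟨K.map (Dbar.comap (QuotientGroup.mk' P)).subtype, ?_, ?_⟩
  · rw [Subgroup.card_map_of_injective (Subgroup.subtype_injective _), hKcard]; exact hD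
  · apply le_antisymm
    · rintro _ ⟨_, ⟨k, -, rfl⟩, rfl⟩
      exact k.2
    · intro d hd
      obtain ⟨g, rfl⟩ := QuotientGroup.mk'_surjective P d
      have hgL : g ∈ Dbar.comap (QuotientGroup.mk' P) := hd
      obtain ⟨⟨n, k⟩, hnk⟩ := hK.2 ⟨g, hgL⟩
      have h2 : (n : ↥(Dbar.comap (QuotientGroup.mk' P))) * (k : ↥(Dbar.comap (QuotientGroup.mk' P)))
          = ⟨g, hgL⟩ := hnk
      have h3 : ((n : ↥(Dbar.comap (QuotientGroup.mk' P))) : G) *
          ((k : ↥(Dbar.comap (QuotientGroup.mk' P))) : G) = g := congrArg Subtype.val h2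
      refine ⟨((k : ↥(Dbar.comap (QuotientGroup.mk' P))) : G), ⟨_, k.2, rfl⟩, ?_⟩
      have h4 : QuotientGroup.mk' P ((n : ↥(Dbar.comap (QuotientGroup.mk' P))) : G) = 1 :=
        (QuotientGroup.eq_one_iff _).mpr n.2
      rw [← h3, map_mul, h4, one_mul]

/-- **(Q1)** `O_p(G / O_p(G)) = 1` -/
theorem pCore_quotient_pCore_eq_bot (p : ℕ) [Fact p.Prime] :
    pCore p (G ⧸ pCore p G) = ⊥ := by
  rw [eq_bot_iff]
  intro x hx
  obtain ⟨g, rfl⟩ := QuotientGroup.mk'_surjective (pCore p G) x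
  have h1 : g ∈ (pCore p (G ⧸ pCore p G)).comap (QuotientGroup.mk' (pCore p G)) := hx
  have h2 := comap_pCore_le p (pCore p G) (Helper30.pCore_isPGroup p) h1
  rw [Subgroup.mem_bot]
  exact (QuotientGroup.eq_one_iff g).mpr h2

/-- **(Q2)** in a solvable group with `O_p = 1`, `C(O_{p'}) ≤ O_{p'}` -/
theorem centralizer_pPrimeCore_le {H : Type u} [Group H] [Finite H] [Group.IsSolvable H] (p : ℕ)
    [Fact p.Prime] (h : pCore p H = ⊥) :
    Subgroup.centralizer (pPrimeCore p H : Set H) ≤ pPrimeCore p H := by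
  have hp : p.Prime := Fact.out
  have hF : fittingSubgroup H ≤ pPrimeCore p H := by
    apply le_of_primary_mem
    intro r hr x hx k hk
    haveI : Fact r.Prime := ⟨hr⟩
    have h1 := mem_pCore_of_mem_fitting r x hx k hk
    by_cases hrp : r = p
    · subst hrp
      rw [h, Subgroup.mem_bot] at h1
      rw [h1]; exact Subgroup.one_mem _
    · refine Helper30.le_pPrimeCore_of_normal (Helper30.pCore_normal r H) ?_ h1
      obtain ⟨n, hn⟩ := IsPGroup.iff_card.mp (Helper30.pCore_isPGroup (G := H) r)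
      rw [hn]
      exact Nat.Coprime.pow_left n ((Nat.coprime_primes hr hp).mpr hrp)
  intro x hx
  apply hF
  apply solv_centralizer_fitting_le
  apply Subgroup.mem_centralizer_iff.mpr
  intro f hf
  exact Subgroup.mem_centralizer_iff.mp hx f (hF hf)

end

/-- uniqueness of involutions, version with a `Group` instance on `V` -/
theorem fpf_involution_unique' {D : Type*} [Group D] {V : Type*} [Group V]
    (hVcomm : ∀ a b : V, a * b = b * a) (ρ : D →* MulAut V)
    (hf : ∀ d : D, d ≠ 1 → ∀ v : V, ρ d v = v → v = 1) (hV : ∃ v : V, v ≠ 1)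
    (t u : D) (ht : t ≠ 1) (ht2 : t ^ 2 = 1) (hu : u ≠ 1) (hu2 : u ^ 2 = 1) : t = u := by
  letI : CommGroup V := { (inferInstance : Group V) with mul_comm := hVcomm }
  exact fpf_involution_unique ρ hf hV t u ht ht2 hu hu2

end Cfsg.Agent.Lib.Helper34
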