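import Mathlib
import Cfsg.Agent.Lib.Helper34.CN7

set_option autoImplicit false

namespace Cfsg.Agent.Lib.Helper34

open Cfsg

universe u

/-- **Solvable CN-groups, the three-step case.** If `F(G) = O_p(G)` is not a Sylow subgroup of
the solvable CN-group `G`, then `G` is a three-step group. -/
theorem cn_three_step {G : Type u} [Group G] [Finite G] [Group.IsSolvable G] (hCN : IsCNGroup G)
    (p : ℕ) [Fact p.Prime] (hP1 : pCore p G ≠ ⊥)
    (hcent : Subgroup.centralizer (pCore p G : Set G) ≤ pCore p G)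
    (hnS : p ∣ (pCore p G).index) : IsThreeStepGroup p G := by
  have hp : p.Prime := Fact.out
  have hP : IsPGroup p (pCore p G) := Helper30.pCore_isPGroup p
  have hAbc : (Nat.card (pPrimeCore p (G ⧸ pCore p G))).Coprime p := Helper30.pPrimeCore_coprime p
  have hQ1 : pCore p (G ⧸ pCore p G) = ⊥ := pCore_quotient_pCore_eq_bot p
  have hQ2 := centralizer_pPrimeCore_le (H := G ⧸ pCore p G) p hQ1
  obtain ⟨A, hAc, hAmap⟩ := exists_lift_of_coprime p (pCore p G) hP _ hAbc
  have hAP : ∀ x ∈ A, x ∈ pCore p G → x = 1 := by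
    intro x hx hxP
    obtain ⟨k, hk⟩ := exists_pow_of_mem_pgroup p _ hP x hxP
    exact eq_one_of_mem_coprime_of_pow p A hAc x hx k hk
  have hPA : pCore p G ⊔ A = (pPrimeCore p (G ⧸ pCore p G)).comap
      (QuotientGroup.mk' (pCore p G)) := by
    rw [← hAmap, Subgroup.comap_map_eq, QuotientGroup.ker_mk', sup_comm]
  have hnorm : (pCore p G ⊔ A).Normal := by
    rw [hPA]
    exact (Helper30.pPrimeCore_normal p _).comap _
  have hmemPA : ∀ x : G, x ∈ pCore p G ⊔ A ↔
      QuotientGroup.mk' (pCore p G) x ∈ pPrimeCore p (G ⧸ pCore p G) := by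
    intro x
    rw [hPA, Subgroup.mem_comap]
  have hfpfG : ∀ x : G, x ≠ 1 → ∀ m : ℕ, m.Coprime p → x ^ m = 1 →
      pCore p G ⊓ Subgroup.centralizer ({x} : Set G) = ⊥ := fun x hx1 m hm hxm =>
    cn_fpf_of_centralizer_le hCN p _ hP hP1 hcent x hx1 m hm hxm
  have hfpfA : ∀ a ∈ A, a ≠ 1 → pCore p G ⊓ Subgroup.centralizer ({a} : Set G) = ⊥ :=
    fun a ha ha1 => hfpfG a ha1 _ hAc (pow_card_subgroup_eq_one A a ha)
  obtain ⟨hVcomm, hVp, hV⟩ := center_facts p (pCore p G) hP hP1
  -- (K1)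
  have hK1 : ∀ (a : G) (s : ℕ), s.Prime → s ≠ p → orderOf a = s → ∀ ub : G ⧸ pCore p G,
      (∃ j : ℕ, ub ^ (p ^ j) = 1) →
      ub * QuotientGroup.mk' (pCore p G) a = QuotientGroup.mk' (pCore p G) a * ub → ub = 1 := by
    intro a s hs hsp ha ub ⟨j, hj⟩ hcomm
    obtain ⟨u, rfl⟩ := QuotientGroup.mk'_surjective (pCore p G) ub
    have h1 : u ^ (p ^ j) ∈ pCore p G := by
      rw [← QuotientGroup.eq_one_iff (N := pCore p G)]
      show QuotientGroup.mk' (pCore p G) (u ^ (p ^ j)) = 1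
      rw [map_pow]; exact hj
    have h2 : u * a * u⁻¹ * a⁻¹ ∈ pCore p G := by
      rw [← QuotientGroup.eq_one_iff (N := pCore p G)]
      show QuotientGroup.mk' (pCore p G) (u * a * u⁻¹ * a⁻¹) = 1
      rw [map_mul, map_mul, map_mul, map_inv, map_inv, hcomm]
      group
    have h3 := cn_mem_of_commute_mod hCN p _ hP hP1 hcent a s hs hsp ha u j h1 h2
    exact (QuotientGroup.eq_one_iff u).mpr h3
  -- A is nontrivial
  have hA1 : A ≠ ⊥ := by
    intro hA
    have h1 : pPrimeCore p (G ⧸ pCore p G) = ⊥ := by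
      rw [← hAmap, hA, Subgroup.map_bot]
    have h2 : ∀ x : G ⧸ pCore p G, x = 1 := by
      intro x
      have h3 : x ∈ Subgroup.centralizer (pPrimeCore p (G ⧸ pCore p G) : Set (G ⧸ pCore p G)) := by
        apply Subgroup.mem_centralizer_iff.mpr
        intro y hy
        rw [h1] at hy
        have hy' : y = 1 := Subgroup.mem_bot.mp hy
        rw [hy']; group
      have h4 := hQ2 h3
      rwa [h1, Subgroup.mem_bot] at h4
    have h5 : pCore p G = ⊤ := by
      rw [eq_top_iff]
      intro x _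
      exact (QuotientGroup.eq_one_iff x).mp (h2 _)
    rw [h5, Subgroup.index_top] at hnS
    exact hp.one_lt.ne' (Nat.dvd_one.mp hnS)
  obtain ⟨ρ, hf⟩ := exists_fpf_action (pCore p G) A hfpfA
  -- A has odd order
  have hodd : Odd (Nat.card A) := by
    by_contra hne
    have h2 : 2 ∣ Nat.card A := even_iff_two_dvd.mp (Nat.not_odd_iff_even.mp hne)
    have hp2 : (2 : ℕ) ≠ p := by
      rintro rfl
      have := Nat.dvd_gcd h2 (dvd_refl 2)
      rw [Nat.Coprime.gcd_eq_one hAc] at this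
      omega
    haveI : Fact (Nat.Prime 2) := ⟨Nat.prime_two⟩
    obtain ⟨t', ht'⟩ := exists_prime_orderOf_dvd_card' 2 h2
    have hto : orderOf (t' : G) = 2 := by rw [Subgroup.orderOf_coe]; exact ht'
    have ht1 : (t' : G) ≠ 1 := ne_one_of_orderOf_prime Nat.prime_two hto
    have ht2 : (t' : G) ^ 2 = 1 := by rw [← hto, pow_orderOf_eq_one]
    -- the image of t is central
    have hcentral : ∀ gb : G ⧸ pCore p G,
        gb * QuotientGroup.mk' (pCore p G) (t' : G) =
          QuotientGroup.mk' (pCore p G) (t' : G) * gb := by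
      intro gb
      obtain ⟨g, rfl⟩ := QuotientGroup.mk'_surjective (pCore p G) gb
      have h3 : g * (t' : G) * g⁻¹ ∈ pCore p G ⊔ A :=
        hnorm.conj_mem _ ((le_sup_right : A ≤ _) t'.2) g
      rw [hmemPA, ← hAmap] at h3
      obtain ⟨t₂, ht₂A, ht₂⟩ := h3
      have h4 : t₂ ^ 2 = 1 := by
        apply hAP _ (A.pow_mem ht₂A 2)
        rw [← QuotientGroup.eq_one_iff (N := pCore p G)]
        show QuotientGroup.mk' (pCore p G) (t₂ ^ 2) = 1
        rw [map_pow, ht₂, ← map_pow, conj_pow, ht2]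
        have e : g * 1 * g⁻¹ = 1 := by group
        rw [e, map_one]
      have h5 : t₂ ≠ 1 := by
        rintro rfl
        rw [map_one] at ht₂
        have h6 : g * (t' : G) * g⁻¹ ∈ pCore p G := (QuotientGroup.eq_one_iff _).mp ht₂.symm
        have h7 : (t' : G) ∈ pCore p G := by
          have := (Helper30.pCore_normal p G).conj_mem _ h6 g⁻¹
          have e : g⁻¹ * (g * (t' : G) * g⁻¹) * g⁻¹⁻¹ = (t' : G) := by group
          rwa [e] at this
        exact ht1 (hAP _ t'.2 h7)
      have h8 : t' = ⟨t₂, ht₂A⟩ := by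
        apply fpf_involution_unique' hVcomm ρ hf hV
        · exact fun h => ht1 (congrArg Subtype.val h)
        · exact Subtype.ext (by simpa using ht2)
        · exact fun h => h5 (congrArg Subtype.val h)
        · exact Subtype.ext (by simpa using h4)
      have h9 : (t' : G) = t₂ := congrArg Subtype.val h8
      rw [← h9] at ht₂
      calc QuotientGroup.mk' (pCore p G) g * QuotientGroup.mk' (pCore p G) (t' : G)
          = QuotientGroup.mk' (pCore p G) (g * (t' : G) * g⁻¹) *
            QuotientGroup.mk' (pCore p G) g := by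
            rw [← map_mul, ← map_mul]; congr 1; group
        _ = QuotientGroup.mk' (pCore p G) (t' : G) * QuotientGroup.mk' (pCore p G) g := by
            rw [← ht₂]
    -- every p-element lies in P
    have hall : ∀ x : G, ∀ k : ℕ, x ^ (p ^ k) = 1 → x ∈ pCore p G := by
      intro x k hk
      have h3 := hK1 (t' : G) 2 Nat.prime_two hp2 hto (QuotientGroup.mk' (pCore p G) x)
        ⟨k, by rw [← map_pow, hk, map_one]⟩ (hcentral _)
      exact (QuotientGroup.eq_one_iff x).mp h3
    let T : Sylow p G := default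
    have hT : (T : Subgroup G) ≤ pCore p G := by
      intro x hx
      obtain ⟨k, hk⟩ := exists_pow_of_mem_pgroup p _ T.isPGroup' x hx
      exact hall x k hk
    exact T.not_dvd_index (dvd_trans hnS (Subgroup.index_dvd_of_le hT))
  have hAbodd : (Nat.card (pPrimeCore p (G ⧸ pCore p G))).Coprime 2 := by
    have h1 : Nat.card (pPrimeCore p (G ⧸ pCore p G)) ∣ Nat.card A := by
      rw [← hAmap]; exact Subgroup.card_map_dvd _ _
    exact Nat.Coprime.coprime_dvd_left h1 (Nat.Coprime.symm (Nat.coprime_two_left.mpr hodd))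
  -- A is cyclic
  haveI hAnil : Group.IsNilpotent ↥A := cn_pprime_subgroup_nilpotent hCN p _ hP hP1 hcent A hAc
  have hAZ : IsZGroup ↥A := by
    refine ⟨fun q hq Q => ?_⟩
    haveI : Fact q.Prime := ⟨hq⟩
    by_cases hq2 : q = 2
    · subst hq2
      obtain ⟨n, hn⟩ := IsPGroup.iff_card.mp Q.isPGroup'
      have h3 : Nat.card (Q : Subgroup ↥A) ∣ Nat.card A := Subgroup.card_subgroup_dvd_card _
      rw [hn] at h3
      rcases Nat.eq_zero_or_pos n with h0 | h0
      · rw [h0, pow_zero] at hn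
        haveI : Subsingleton ↥(Q : Subgroup ↥A) := (Nat.card_eq_one_iff_unique.mp hn).1
        exact isCyclic_of_subsingleton
      · exfalso
        exact (Nat.not_even_iff_odd.mpr hodd)
          (even_iff_two_dvd.mpr (dvd_trans (dvd_pow_self 2 h0.ne') h3))
    · exact fpf_isCyclic_of_pgroup hVcomm p hVp hV hAc ρ hf q hq2 (Q : Subgroup ↥A) Q.isPGroup'
  haveI := hAZ
  have hcyc : IsCyclic ↥A := inferInstance
  -- (K3)
  have hK3 : ∀ q : ℕ, q.Prime → q ≠ p → ∀ xb : G ⧸ pCore p G, ∀ k : ℕ, xb ^ (q ^ k) = 1 →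
      xb ∈ pPrimeCore p (G ⧸ pCore p G) := by
    intro q hq hqp xb k hk
    apply hQ2
    apply Subgroup.mem_centralizer_iff.mpr
    suffices hsuff : pPrimeCore p (G ⧸ pCore p G) ≤ Subgroup.centralizer ({xb} : Set (G ⧸ pCore p G)) by
      intro yb hyb
      exact (mem_centralizer_singleton.mp (hsuff hyb)).symm
    apply le_of_primary_mem
    intro r hr yb hyb j hj
    rw [mem_centralizer_singleton]
    -- the subgroup generated by Ā and xb
    have hDc : (Nat.card ↥(pPrimeCore p (G ⧸ pCore p G) ⊔ Subgroup.zpowers xb)).Coprime p := by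
      rw [Helper30.card_eq_card_mul_relIndex
        (le_sup_left : pPrimeCore p (G ⧸ pCore p G) ≤ _ ⊔ Subgroup.zpowers xb),
        Subgroup.relIndex_sup_left]
      apply Nat.Coprime.mul_left hAbc
      have h1 : (pPrimeCore p (G ⧸ pCore p G)).relIndex (Subgroup.zpowers xb) ∣ q ^ k := by
        refine dvd_trans (Subgroup.relIndex_dvd_card _ _) ?_
        rw [Nat.card_zpowers]
        exact orderOf_dvd_of_pow_eq_one hk
      exact Nat.Coprime.coprime_dvd_left h1
        (Nat.Coprime.pow_left k ((Nat.coprime_primes hq hp).mpr hqp))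
    obtain ⟨D₀, hD₀c, hD₀map⟩ := exists_lift_of_coprime p (pCore p G) hP _ hDc
    haveI hD₀nil : Group.IsNilpotent ↥D₀ :=
      cn_pprime_subgroup_nilpotent hCN p _ hP hP1 hcent D₀ hD₀c
    have hxD : xb ∈ D₀.map (QuotientGroup.mk' (pCore p G)) := by
      rw [hD₀map]
      exact (le_sup_right : Subgroup.zpowers xb ≤ _) (Subgroup.mem_zpowers xb)
    have hyD : yb ∈ D₀.map (QuotientGroup.mk' (pCore p G)) := by
      rw [hD₀map]
      exact (le_sup_left : pPrimeCore p (G ⧸ pCore p G) ≤ _) hyb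
    obtain ⟨x₀, hx₀D, rfl⟩ := hxD
    obtain ⟨y₀, hy₀D, rfl⟩ := hyD
    have hD₀P : ∀ w ∈ D₀, w ∈ pCore p G → w = 1 := by
      intro w hw hwP
      obtain ⟨i, hi⟩ := exists_pow_of_mem_pgroup p _ hP w hwP
      exact eq_one_of_mem_coprime_of_pow p D₀ hD₀c w hw i hi
    have hx₀q : x₀ ^ (q ^ k) = 1 := by
      apply hD₀P _ (D₀.pow_mem hx₀D _)
      rw [← QuotientGroup.eq_one_iff (N := pCore p G)]
      show QuotientGroup.mk' (pCore p G) (x₀ ^ (q ^ k)) = 1
      rw [map_pow]; exact hk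
    have hy₀r : y₀ ^ (r ^ j) = 1 := by
      apply hD₀P _ (D₀.pow_mem hy₀D _)
      rw [← QuotientGroup.eq_one_iff (N := pCore p G)]
      show QuotientGroup.mk' (pCore p G) (y₀ ^ (r ^ j)) = 1
      rw [map_pow]; exact hj
    have hcomm : x₀ * y₀ = y₀ * x₀ := by
      by_cases hrq : r = q
      · subst hrq
        by_cases hr2 : r = 2
        · subst hr2
          have h1 : QuotientGroup.mk' (pCore p G) y₀ = 1 :=
            eq_one_of_mem_coprime_of_pow 2 _ hAbodd _ hyb j hj
          have h2 : y₀ = 1 := hD₀P y₀ hy₀D ((QuotientGroup.eq_one_iff y₀).mp h1)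
          rw [h2]; group
        · haveI : Fact r.Prime := ⟨hr⟩
          let Q : Sylow r ↥D₀ := default
          have hQn : (Q : Subgroup ↥D₀).Normal := inferInstance
          have hxQ : (⟨x₀, hx₀D⟩ : ↥D₀) ∈ Q :=
            mem_normal_sylow r Q hQn _ k (Subtype.ext (by simpa using hx₀q))
          have hyQ : (⟨y₀, hy₀D⟩ : ↥D₀) ∈ Q :=
            mem_normal_sylow r Q hQn _ j (Subtype.ext (by simpa using hy₀r))
          have hfpfD : ∀ d ∈ D₀, d ≠ 1 →
              pCore p G ⊓ Subgroup.centralizer ({d} : Set G) = ⊥ :=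
            fun d hd hd1 => hfpfG d hd1 _ hD₀c (pow_card_subgroup_eq_one D₀ d hd)
          obtain ⟨ρD, hfD⟩ := exists_fpf_action (pCore p G) D₀ hfpfD
          haveI : IsCyclic ↥(Q : Subgroup ↥D₀) :=
            fpf_isCyclic_of_pgroup hVcomm p hVp hV hD₀c ρD hfD r hr2 (Q : Subgroup ↥D₀)
              Q.isPGroup'
          have h1 := commute_of_isCyclic (⟨⟨x₀, hx₀D⟩, hxQ⟩ : ↥(Q : Subgroup ↥D₀))
            ⟨⟨y₀, hy₀D⟩, hyQ⟩
          exact congrArg (fun w : ↥(Q : Subgroup ↥D₀) => ((w : ↥D₀) : G)) h1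
      · exact commute_of_nilpotent_of_pow hD₀nil hx₀D hy₀D (q ^ k) (r ^ j)
          (Nat.Coprime.pow _ _ ((Nat.coprime_primes hq hr).mpr (Ne.symm hrq))) hx₀q hy₀r
    rw [← map_mul, ← map_mul, hcomm]
  -- index
  have hidx : ∃ n : ℕ, (pCore p G ⊔ A).index = p ^ n := by
    rw [hPA, Subgroup.index_comap_of_surjective _ (QuotientGroup.mk'_surjective _)]
    refine ⟨_, Nat.eq_prime_pow_of_unique_prime_dvd Subgroup.index_ne_zero_of_finite ?_⟩
    intro d hd hdvd
    by_contra hdp
    haveI : Fact d.Prime := ⟨hd⟩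
    let S : Sylow d (G ⧸ pCore p G) := default
    have hS : (S : Subgroup (G ⧸ pCore p G)) ≤ pPrimeCore p (G ⧸ pCore p G) := by
      intro x hx
      obtain ⟨k, hk⟩ := exists_pow_of_mem_pgroup d _ S.isPGroup' x hx
      exact hK3 d hd hdp x k hk
    exact S.not_dvd_index (dvd_trans hdvd (Subgroup.index_dvd_of_le hS))
  have hneqtop : pCore p G ⊔ A ≠ ⊤ := by
    intro h
    have h1 : pPrimeCore p (G ⧸ pCore p G) = ⊤ := by
      rw [eq_top_iff]
      intro x _
      obtain ⟨g, rfl⟩ := QuotientGroup.mk'_surjective (pCore p G) x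
      exact (hmemPA g).mp (by rw [h]; exact Subgroup.mem_top g)
    have h2 : (Nat.card (G ⧸ pCore p G)).Coprime p := by
      have h3 := hAbc
      rw [h1, Subgroup.card_top] at h3
      exact h3
    rw [← Subgroup.index_eq_card] at h2
    have h4 := Nat.dvd_gcd hnS (dvd_refl p)
    rw [Nat.Coprime.gcd_eq_one h2] at h4
    exact hp.one_lt.ne' (Nat.dvd_one.mp h4)
  refine ⟨hP1, A, hA1, hcyc, hodd, hAc, hnorm, hneqtop, hidx, hfpfA, ?_⟩
  intro x hx a ha ha1 hxa
  apply hx
  rw [hmemPA]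
  obtain ⟨s, m, hs, hm⟩ := exists_pow_prime_order ha1
  have hsp : s ≠ p := by
    rintro rfl
    have h1 : s ∣ Nat.card A := by
      have h2 := orderOf_dvd_natCard (⟨a ^ m, A.pow_mem ha m⟩ : ↥A)
      rwa [Subgroup.orderOf_mk, hm] at h2
    have h3 := Nat.dvd_gcd h1 (dvd_refl s)
    rw [Nat.Coprime.gcd_eq_one hAc] at h3
    exact hs.one_lt.ne' (Nat.dvd_one.mp h3)
  have hcomm : Commute (QuotientGroup.mk' (pCore p G) x) (QuotientGroup.mk' (pCore p G) a) := by
    have h2 : QuotientGroup.mk' (pCore p G) (x * a * x⁻¹ * a⁻¹) = 1 :=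
      (QuotientGroup.eq_one_iff _).mpr hxa
    rw [map_mul, map_mul, map_mul, map_inv, map_inv] at h2
    have h3 := mul_inv_eq_one.mp h2
    rw [mul_inv_eq_iff_eq_mul] at h3
    exact h3
  have hcomm' : QuotientGroup.mk' (pCore p G) x ∈
      Subgroup.centralizer ({QuotientGroup.mk' (pCore p G) (a ^ m)} : Set (G ⧸ pCore p G)) := by
    rw [mem_centralizer_singleton, map_pow]
    exact ((hcomm.pow_right m).eq).symm
  refine le_of_primary_mem _ _ ?_ hcomm'
  intro r hr ub hub j hj
  by_cases hrp : r = p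
  · subst hrp
    have h1 := hK1 (a ^ m) s hs hsp hm ub ⟨j, hj⟩ (mem_centralizer_singleton.mp hub).symm
    rw [h1]; exact Subgroup.one_mem _
  · exact hK3 r hr hrp ub j hj

end Cfsg.Agent.Lib.Helper34
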