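import Mathlib
import Cfsg.Agent.Lib.Helper34.CN8
import Cfsg.Agent.S0040

set_option autoImplicit false

namespace Cfsg.Agent.Lib.Helper34

open Cfsg

universe u

/-- **Solvable CN-groups, the Frobenius case.** -/
theorem cn_frobenius_case {G : Type u} [Group G] [Finite G] (hCN : IsCNGroup G)
    (hnn : ¬ Group.IsNilpotent G) (p : ℕ) [Fact p.Prime] (P : Sylow p G)
    (hP1 : (P : Subgroup G) ≠ ⊥) (hPn : (P : Subgroup G).Normal) :
    ∃ K E : Subgroup G, K.Normal ∧ Subgroup.IsComplement' K E ∧ IsFrobeniusComplement E ∧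
      (IsCyclic E ∨ ∃ C Q : Subgroup G, C ⊔ Q = E ∧ (∀ a ∈ C, ∀ b ∈ Q, a * b = b * a) ∧
        IsCyclic C ∧ Odd (Nat.card C) ∧ ∃ n : ℕ, Nonempty (↥Q ≃* QuaternionGroup (2 ^ n))) := by
  have hp : p.Prime := Fact.out
  haveI := hPn
  obtain ⟨hK1, hKtop, ⟨E, hE, hFrob, hfpf⟩, hnil⟩ := cn_normal_sylow_structure hCN hnn p P hP1 hPn
  refine ⟨fittingHall G, E, inferInstance, hE, hFrob, ?_⟩
  haveI := hnil
  haveI hEnil : Group.IsNilpotent ↥E := Group.nilpotent_of_mulEquiv hE.symm.QuotientMulEquiv
  have hPK : (P : Subgroup G) ≤ fittingHall G :=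
    le_sSup ⟨hPn, P.isPGroup'.isNilpotent, P.card_coprime_index⟩
  have hEp : (Nat.card E).Coprime p := by
    have h1 : Nat.card E = (fittingHall G).index := (hE.symm.index_eq_card).symm
    rw [h1]
    exact ((Nat.Prime.coprime_iff_not_dvd hp).mpr (fun h =>
      P.not_dvd_index (dvd_trans h (Subgroup.index_dvd_of_le hPK)))).symm
  have hfpfE : ∀ d ∈ E, d ≠ 1 →
      (P : Subgroup G) ⊓ Subgroup.centralizer ({d} : Set G) = ⊥ := by
    intro d hd hd1
    rw [eq_bot_iff, ← hfpf d hd hd1]
    exact inf_le_inf_right _ hPK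
  obtain ⟨ρ, hf⟩ := exists_fpf_action (P : Subgroup G) E hfpfE
  obtain ⟨hVcomm, hVp, hV⟩ := center_facts p (P : Subgroup G) P.isPGroup' hP1
  have hoddcyc : ∀ (q : ℕ) [Fact q.Prime], q ≠ 2 → ∀ S : Subgroup ↥E, IsPGroup q S →
      IsCyclic ↥S := fun q _ hq2 S hS =>
    fpf_isCyclic_of_pgroup hVcomm p hVp hV hEp ρ hf q hq2 S hS
  haveI : Fact (Nat.Prime 2) := ⟨Nat.prime_two⟩
  let Q2 : Sylow 2 ↥E := default
  haveI hQ2n : (Q2 : Subgroup ↥E).Normal := inferInstance
  rcases Cfsg.Agent.S0040.result (fittingHall G) E hE hK1 hfpf 2 Q2 with hcyc | ⟨n, ⟨e⟩⟩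
  · left
    have hZ : IsZGroup ↥E := by
      refine ⟨fun q hq Q => ?_⟩
      haveI : Fact q.Prime := ⟨hq⟩
      by_cases hq2 : q = 2
      · subst hq2
        obtain ⟨g, hg⟩ := MulAction.exists_smul_eq ↥E Q2 Q
        rw [Sylow.smul_eq_of_normal] at hg
        rw [← hg]
        exact hcyc
      · exact hoddcyc q hq2 (Q : Subgroup ↥E) Q.isPGroup'
    haveI := hZ
    infer_instance
  · right
    obtain ⟨C', hC'⟩ := Subgroup.exists_right_complement'_of_coprime Q2.card_coprime_index
    have hC'card : Nat.card C' = (Q2 : Subgroup ↥E).index := (hC'.symm.index_eq_card).symm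
    have hC'odd : Odd (Nat.card C') := by
      rw [hC'card, ← Nat.not_even_iff_odd, even_iff_two_dvd]
      exact Q2.not_dvd_index
    refine ⟨C'.map E.subtype, (Q2 : Subgroup ↥E).map E.subtype, ?_, ?_, ?_, ?_, n, ?_⟩
    · rw [← Subgroup.map_sup, sup_comm, hC'.sup_eq_top, ← MonoidHom.range_eq_map,
        Subgroup.range_subtype]
    · rintro _ ⟨a, ha, rfl⟩ _ ⟨b, hb, rfl⟩
      have h1 : (orderOf a).Coprime (orderOf b) := by
        have ha' : orderOf a ∣ Nat.card C' := by
          have := orderOf_dvd_natCard (⟨a, ha⟩ : ↥C')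
          rwa [Subgroup.orderOf_mk] at this
        obtain ⟨k, hk⟩ := Q2.isPGroup' ⟨b, hb⟩
        have hb' : orderOf b ∣ 2 ^ k := by
          apply orderOf_dvd_of_pow_eq_one
          simpa using congrArg Subtype.val hk
        exact Nat.Coprime.coprime_dvd_left ha' (Nat.Coprime.coprime_dvd_right hb'
          (Nat.Coprime.pow_right k (Nat.coprime_two_right.mpr hC'odd)))
      have h2 := (commute_of_coprime_orderOf a b h1).eq
      exact congrArg Subtype.val h2
    · have hZ : IsZGroup ↥C' := by
        refine ⟨fun q hq S => ?_⟩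
        haveI : Fact q.Prime := ⟨hq⟩
        by_cases hq2 : q = 2
        · subst hq2
          obtain ⟨m, hm⟩ := IsPGroup.iff_card.mp S.isPGroup'
          have h3 : Nat.card (S : Subgroup ↥C') ∣ Nat.card C' := Subgroup.card_subgroup_dvd_card _
          rw [hm] at h3
          rcases Nat.eq_zero_or_pos m with h0 | h0
          · rw [h0, pow_zero] at hm
            haveI : Subsingleton ↥(S : Subgroup ↥C') := (Nat.card_eq_one_iff_unique.mp hm).1
            exact isCyclic_of_subsingleton
          · exfalso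
            exact (Nat.not_even_iff_odd.mpr hC'odd)
              (even_iff_two_dvd.mpr (dvd_trans (dvd_pow_self 2 h0.ne') h3))
        · haveI : IsCyclic ↥((S : Subgroup ↥C').map C'.subtype) :=
            hoddcyc q hq2 _ (S.isPGroup'.map _)
          exact isCyclic_of_injective
            ((S : Subgroup ↥C').equivMapOfInjective C'.subtype (Subgroup.subtype_injective _)).toMonoidHom
            (MulEquiv.injective _)
      haveI := hZ
      haveI : IsCyclic ↥C' := inferInstance
      exact isCyclic_of_surjective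
        (C'.equivMapOfInjective E.subtype (Subgroup.subtype_injective _)).toMonoidHom
        (MulEquiv.surjective _)
    · rw [Subgroup.card_map_of_injective (Subgroup.subtype_injective _)]
      exact hC'odd
    · exact ⟨(((Q2 : Subgroup ↥E).equivMapOfInjective E.subtype
        (Subgroup.subtype_injective _)).symm).trans e⟩

/-- **Solvable CN-groups, the dichotomy.** -/
theorem cn_solvable_dichotomy {G : Type u} [Group G] [Finite G] [Group.IsSolvable G]
    (hCN : IsCNGroup G) (hnn : ¬ Group.IsNilpotent G) :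
    (∃ (p : ℕ) (_ : Fact p.Prime) (P : Sylow p G), (P : Subgroup G) ≠ ⊥ ∧
        (P : Subgroup G).Normal) ∨
      ∃ (p : ℕ) (_ : Fact p.Prime), pCore p G ≠ ⊥ ∧
        Subgroup.centralizer (pCore p G : Set G) ≤ pCore p G ∧ p ∣ (pCore p G).index := by
  have hF1 : fittingSubgroup G ≠ ⊥ := by
    intro h
    apply hnn
    have h1 : ∀ x : G, x = 1 := by
      intro x
      have h2 : x ∈ Subgroup.centralizer (fittingSubgroup G : Set G) := by
        apply Subgroup.mem_centralizer_iff.mpr
        intro y hy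
        rw [h] at hy
        have hy' : y = 1 := Subgroup.mem_bot.mp hy
        rw [hy']; group
      have h3 := solv_centralizer_fitting_le h2
      rwa [h, Subgroup.mem_bot] at h3
    haveI : Subsingleton G := ⟨fun a b => by rw [h1 a, h1 b]⟩
    infer_instance
  obtain ⟨x, hxF, hx1⟩ := (fittingSubgroup G).bot_or_exists_ne_one.resolve_left hF1
  obtain ⟨p, m, hp, hm⟩ := exists_pow_prime_order hx1
  haveI : Fact p.Prime := ⟨hp⟩
  have hxm1 : x ^ m ≠ 1 := ne_one_of_orderOf_prime hp hm
  have hxmP : x ^ m ∈ pCore p G := by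
    apply mem_pCore_of_mem_fitting p _ ((fittingSubgroup G).pow_mem hxF m) 1
    rw [pow_one, ← hm, pow_orderOf_eq_one]
  have hP1 : pCore p G ≠ ⊥ := by
    intro h
    rw [h] at hxmP
    exact hxm1 (Subgroup.mem_bot.mp hxmP)
  have hP : IsPGroup p (pCore p G) := Helper30.pCore_isPGroup p
  by_cases hq : ∃ q : ℕ, q.Prime ∧ q ≠ p ∧ pCore q G ≠ ⊥
  · left
    obtain ⟨q, hqp, hqne, hQ1⟩ := hq
    haveI : Fact q.Prime := ⟨hqp⟩
    have hQ : IsPGroup q (pCore q G) := Helper30.pCore_isPGroup q
    have hcop : ∀ i j : ℕ, Nat.Coprime (p ^ i) (q ^ j) := fun i j =>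
      Nat.Coprime.pow _ _ ((Nat.coprime_primes hp hqp).mpr (Ne.symm hqne))
    have hstep0 : ∀ a ∈ pCore p G, ∀ b ∈ pCore q G, a * b = b * a := by
      intro a ha b hb
      have hdis : Disjoint (pCore p G) (pCore q G) :=
        IsPGroup.disjoint_of_ne p q (Ne.symm hqne) _ _ hP hQ
      exact (Subgroup.commute_of_normal_of_disjoint _ _ (Helper30.pCore_normal p G)
        (Helper30.pCore_normal q G) hdis a b ha hb).eq
    have hstep1 : ∀ T' : Sylow p G, ∀ t ∈ T', ∀ b ∈ pCore q G, t * b = b * t := by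
      intro T' t ht b hb
      have hPT : pCore p G ≤ T' := IsPGroup.le_sylow_of_normal hP T'
      have hT1 : (T' : Subgroup G) ≠ ⊥ := by
        intro h
        rw [h, le_bot_iff] at hPT
        exact hP1 hPT
      obtain ⟨y', hy'T, hy'1, hy'c⟩ := exists_center_elt p (T' : Subgroup G) T'.isPGroup' hT1
      obtain ⟨y₀, hy₀P, hy₀1⟩ := (pCore p G).bot_or_exists_ne_one.resolve_left hP1
      obtain ⟨i', hi'⟩ := exists_pow_of_mem_pgroup p _ T'.isPGroup' y' hy'T
      obtain ⟨it, hit⟩ := exists_pow_of_mem_pgroup p _ T'.isPGroup' t ht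
      have hqpow : ∀ b ∈ pCore q G, ∃ j : ℕ, b ^ (q ^ j) = 1 := fun b hb =>
        exists_pow_of_mem_pgroup q _ hQ b hb
      have h1 : ∀ b ∈ pCore q G, y' * b = b * y' := by
        intro b hb
        obtain ⟨j, hj⟩ := hqpow b hb
        have hL := hCN y₀ hy₀1
        have hy'L : y' ∈ Subgroup.centralizer ({y₀} : Set G) := by
          rw [mem_centralizer_singleton]; exact hy'c y₀ (hPT hy₀P)
        have hbL : b ∈ Subgroup.centralizer ({y₀} : Set G) := by
          rw [mem_centralizer_singleton]; exact hstep0 y₀ hy₀P b hb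
        exact commute_of_nilpotent_of_pow hL hy'L hbL _ _ (hcop i' j) hi' hj
      obtain ⟨j, hj⟩ := hqpow b hb
      have hL := hCN y' hy'1
      have htL : t ∈ Subgroup.centralizer ({y'} : Set G) := by
        rw [mem_centralizer_singleton]; exact (hy'c t ht).symm
      have hbL : b ∈ Subgroup.centralizer ({y'} : Set G) := by
        rw [mem_centralizer_singleton]; exact h1 b hb
      exact commute_of_nilpotent_of_pow hL htL hbL _ _ (hcop it j) hit hj
    obtain ⟨w, hwQ, hw1⟩ := (pCore q G).bot_or_exists_ne_one.resolve_left hQ1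
    haveI hL : Group.IsNilpotent ↥(Subgroup.centralizer ({w} : Set G)) := hCN w hw1
    let T : Sylow p G := default
    have hTL : (T : Subgroup G) ≤ Subgroup.centralizer ({w} : Set G) := by
      intro t ht
      rw [mem_centralizer_singleton]
      exact (hstep1 T t ht w hwQ).symm
    have hpel : ∀ x : G, ∀ k : ℕ, x ^ (p ^ k) = 1 → x ∈ T := by
      intro x k hk
      obtain ⟨T', hT'⟩ := (isPGroup_zpowers_of_pow hk).exists_le_sylow
      have hxT' : x ∈ T' := hT' (Subgroup.mem_zpowers x)
      have hxL : x ∈ Subgroup.centralizer ({w} : Set G) := by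
        rw [mem_centralizer_singleton]
        exact (hstep1 T' x hxT' w hwQ).symm
      have hn : ((T.subtype hTL : Sylow p ↥(Subgroup.centralizer ({w} : Set G))) :
          Subgroup ↥(Subgroup.centralizer ({w} : Set G))).Normal := inferInstance
      have h2 := mem_normal_sylow p (T.subtype hTL) hn (⟨x, hxL⟩ : ↥(Subgroup.centralizer ({w} : Set G)))
        k (Subtype.ext (by simpa using hk))
      exact h2
    refine ⟨p, inferInstance, T, ?_, ?_⟩
    · intro h
      have hPT : pCore p G ≤ T := IsPGroup.le_sylow_of_normal hP T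
      rw [h, le_bot_iff] at hPT
      exact hP1 hPT
    · refine ⟨fun t ht g => ?_⟩
      obtain ⟨k, hk⟩ := exists_pow_of_mem_pgroup p _ T.isPGroup' t ht
      apply hpel _ k
      rw [conj_pow, hk]; group
  · push Not at hq
    have hFP : fittingSubgroup G ≤ pCore p G := by
      apply le_of_primary_mem
      intro r hr y hy k hk
      haveI : Fact r.Prime := ⟨hr⟩
      have h1 := mem_pCore_of_mem_fitting r y hy k hk
      by_cases hrp : r = p
      · subst hrp; exact h1
      · rw [hq r hr hrp, Subgroup.mem_bot] at h1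
        rw [h1]; exact Subgroup.one_mem _
    have hcent : Subgroup.centralizer (pCore p G : Set G) ≤ pCore p G := by
      intro y hy
      apply hFP
      apply solv_centralizer_fitting_le
      apply Subgroup.mem_centralizer_iff.mpr
      intro f hf
      exact Subgroup.mem_centralizer_iff.mp hy f (hFP hf)
    by_cases hS : p ∣ (pCore p G).index
    · right
      exact ⟨p, inferInstance, hP1, hcent, hS⟩
    · left
      exact ⟨p, inferInstance, hP.toSylow hS, hP1, Helper30.pCore_normal p G⟩

end Cfsg.Agent.Lib.Helper34
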