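import Mathlib
import Cfsg.Prelude.Def_Transfer
import Cfsg.Prelude.Def_Solvable
import Cfsg.Prelude.Def_OddOrderLocal
import Cfsg.Agent.Lib.Helper34.Nilp
import Cfsg.Agent.Lib.Helper34.CN3

/-!
# Generic lemmas for the local analysis of minimal simple CN-groups of odd order
-/

set_option autoImplicit false

namespace Cfsg.Agent.Lib.Helper34

open Cfsg

universe u v

/-- If `O^p(H) H' = H` then `H` has no nontrivial `p`-group quotient. -/
theorem no_pquot_of_residual {H : Type u} [Group H] [Finite H] (p : ℕ) [Fact p.Prime]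
    (h : pResidual p H ⊔ commutator H = ⊤) {Q : Type v} [Group Q] (ψ : H →* Q)
    (hψ : ∀ x, ∃ k : ℕ, ψ x ^ (p ^ k) = 1) : ∀ x, ψ x = 1 := by
  by_contra hne
  push Not at hne
  obtain ⟨x₀, hx₀⟩ := hne
  have hsurj : Function.Surjective ψ.rangeRestrict := ψ.rangeRestrict_surjective
  haveI : Finite ψ.range := Finite.of_surjective ψ.rangeRestrict hsurj
  have hR : IsPGroup p ψ.range := by
    rintro ⟨y, x, rfl⟩
    obtain ⟨k, hk⟩ := hψ x
    exact ⟨k, Subtype.ext (by simpa using hk)⟩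
  haveI : Group.IsNilpotent ψ.range := hR.isNilpotent
  haveI : Nontrivial ψ.range :=
    ⟨⟨ψ.rangeRestrict x₀, 1, fun h => hx₀ (by simpa using congrArg Subtype.val h)⟩⟩
  have hlt : commutator ψ.range < ⊤ := Group.IsSolvable.commutator_lt_top_of_nontrivial ψ.range
  have hK : (commutator ψ.range).comap ψ.rangeRestrict = ⊤ := by
    rw [eq_top_iff, ← h]
    apply sup_le
    · unfold pResidual
      rw [Subgroup.closure_le]
      intro g hg
      have hg' : Nat.Coprime (orderOf g) p := hg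
      show ψ.rangeRestrict g ∈ commutator ψ.range
      obtain ⟨k, hk⟩ := hR (ψ.rangeRestrict g)
      have h1 : orderOf (ψ.rangeRestrict g) ∣ p ^ k := orderOf_dvd_of_pow_eq_one hk
      have h2 : orderOf (ψ.rangeRestrict g) ∣ orderOf g := orderOf_map_dvd ψ.rangeRestrict g
      have h3 : orderOf (ψ.rangeRestrict g) = 1 :=
        Nat.Coprime.eq_one_of_dvd (Nat.Coprime.coprime_dvd_left h2 (Nat.Coprime.pow_right k hg')) h1
      rw [orderOf_eq_one_iff.mp h3]
      exact one_mem _
    · rw [← Subgroup.map_le_iff_le_comap, commutator_def, Subgroup.map_commutator, commutator_def]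
      exact Subgroup.commutator_mono le_top le_top
  apply hlt.ne
  rw [eq_top_iff]
  intro y _
  obtain ⟨x, rfl⟩ := hsurj y
  have hx : x ∈ (commutator ψ.range).comap ψ.rangeRestrict := by rw [hK]; trivial
  exact hx

/-- `SL₂(p)` has even order for odd `p`. -/
theorem two_dvd_card_sl2 (p : ℕ) [Fact p.Prime] (hp : p ≠ 2) :
    2 ∣ Nat.card (Matrix.SpecialLinearGroup (Fin 2) (ZMod p)) := by
  have hp' : p.Prime := Fact.out
  haveI : Fact (2 < p) := ⟨lt_of_le_of_ne hp'.two_le (Ne.symm hp)⟩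
  have h : orderOf (-1 : Matrix.SpecialLinearGroup (Fin 2) (ZMod p)) = 2 := by
    refine orderOf_eq_prime (by simp) ?_
    intro h
    have h1 := congrArg (fun M : Matrix.SpecialLinearGroup (Fin 2) (ZMod p) => M.1 0 0) h
    simp at h1
    exact ZMod.neg_one_ne_one h1
  have h2 := orderOf_dvd_natCard (-1 : Matrix.SpecialLinearGroup (Fin 2) (ZMod p))
  rwa [h] at h2

/-- A group of odd order has no section isomorphic to `SL₂(p)`, `p` odd. -/
theorem not_sl2_section_of_odd {G : Type u} [Group G] [Finite G] (hodd : Odd (Nat.card G))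
    (p : ℕ) [Fact p.Prime] (hp : p ≠ 2) :
    ¬ ∃ (H K : Subgroup G) (hK : (K.subgroupOf H).Normal),
      Nonempty ((H ⧸ K.subgroupOf H) ≃* Matrix.SpecialLinearGroup (Fin 2) (ZMod p)) := by
  rintro ⟨H, K, hK, ⟨e⟩⟩
  have h1 : 2 ∣ Nat.card (H ⧸ K.subgroupOf H) := by
    rw [Nat.card_congr e.toEquiv]
    exact two_dvd_card_sl2 p hp
  have h2 : Nat.card (H ⧸ K.subgroupOf H) ∣ Nat.card H := Subgroup.card_quotient_dvd_card _
  have h3 : Nat.card H ∣ Nat.card G := Subgroup.card_subgroup_dvd_card H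
  exact (Nat.not_even_iff_odd.mpr hodd) (even_iff_two_dvd.mpr (h1.trans (h2.trans h3)))

/-- A finite nilpotent group of order divisible by `p` has a nontrivial `p`-quotient. -/
theorem exists_pquot_of_nilpotent {M : Type u} [Group M] [Finite M] [Group.IsNilpotent M]
    (p : ℕ) [Fact p.Prime] (hp : p ∣ Nat.card M) :
    ∃ (K : Subgroup M) (_ : K.Normal), K ≠ ⊤ ∧ IsPGroup p (M ⧸ K) := by
  have hp' : p.Prime := Fact.out
  let P : Sylow p M := default
  haveI hPn : (P : Subgroup M).Normal :=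
    Sylow.normal_of_normalizerCondition normalizerCondition_of_isNilpotent P
  obtain ⟨K, hK⟩ := Subgroup.exists_right_complement'_of_coprime P.card_coprime_index
  have hcardK : Nat.card K = (P : Subgroup M).index := (hK.symm.index_eq_card).symm
  have hidxK : K.index = Nat.card (P : Subgroup M) := hK.index_eq_card
  have hKp : (Nat.card K).Coprime p := by
    rw [hcardK]
    exact ((Nat.Prime.coprime_iff_not_dvd hp').mpr P.not_dvd_index).symm
  have hcomm : ∀ u ∈ (P : Subgroup M), ∀ k ∈ K, u * k = k * u := by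
    intro u hu k hk
    obtain ⟨j, hj⟩ := P.isPGroup' ⟨u, hu⟩
    have hj' : u ^ (p ^ j) = 1 := by simpa using congrArg Subtype.val hj
    have hk' : orderOf k ∣ Nat.card K := by
      have := orderOf_dvd_natCard (⟨k, hk⟩ : ↥K)
      rwa [Subgroup.orderOf_mk] at this
    have hco : (orderOf u).Coprime (orderOf k) :=
      Nat.Coprime.coprime_dvd_left (orderOf_dvd_of_pow_eq_one hj')
        (Nat.Coprime.coprime_dvd_right hk' (Nat.Coprime.pow_left j hKp.symm))
    exact (commute_of_coprime_orderOf u k hco).eq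
  have hKn : K.Normal := by
    refine ⟨fun k hk g => ?_⟩
    obtain ⟨⟨u, k'⟩, hg, -⟩ := hK.existsUnique g
    have hg' : (u : M) * (k' : M) = g := hg
    have h1 : g * k * g⁻¹ = (u : M) * ((k' : M) * k * (k' : M)⁻¹) * (u : M)⁻¹ := by
      rw [← hg']; group
    have h2 : (k' : M) * k * (k' : M)⁻¹ ∈ K := K.mul_mem (K.mul_mem k'.2 hk) (K.inv_mem k'.2)
    rw [h1, hcomm u u.2 _ h2, mul_assoc, mul_inv_cancel, mul_one]
    exact h2
  refine ⟨K, hKn, ?_, ?_⟩
  · intro htop
    rw [htop, Subgroup.index_top] at hidxK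
    have h1 : (P : Subgroup M) = ⊥ := Subgroup.card_eq_one.mp hidxK.symm
    exact P.ne_bot_of_dvd_card hp h1
  · haveI := hKn
    obtain ⟨n, hn⟩ := IsPGroup.iff_card.mp P.isPGroup'
    apply IsPGroup.of_card (n := n)
    rw [← hn, ← hidxK]
    rfl

/-- In a finite `p`-group, a proper subgroup is properly contained in its normalizer. -/
theorem exists_mem_normalizer_not_mem {G : Type u} [Group G] [Finite G] {p : ℕ} [Fact p.Prime]
    {D P : Subgroup G} (hP : IsPGroup p P) (hDP : D < P) :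
    ∃ u ∈ P, u ∉ D ∧ u ∈ Subgroup.normalizer (D : Set G) := by
  haveI : Group.IsNilpotent ↥P := hP.isNilpotent
  have hlt : D.subgroupOf P < ⊤ := by
    rw [lt_top_iff_ne_top, Ne, Subgroup.subgroupOf_eq_top]
    exact not_le_of_gt hDP
  have hnc := (normalizerCondition_of_isNilpotent (G := ↥P)) (D.subgroupOf P) hlt
  obtain ⟨u', hu'N, hu'D⟩ := SetLike.exists_of_lt hnc
  refine ⟨(u' : G), u'.2, fun h => hu'D (Subgroup.mem_subgroupOf.mpr h), ?_⟩
  rw [Subgroup.mem_normalizer_iff] at hu'N ⊢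
  intro x
  constructor
  · intro hx
    have h1 := (hu'N ⟨x, hDP.le hx⟩).mp (Subgroup.mem_subgroupOf.mpr hx)
    exact Subgroup.mem_subgroupOf.mp h1
  · intro hx
    have hxP : x ∈ P := by
      have h1 : (u' : G)⁻¹ * ((u' : G) * x * (u' : G)⁻¹) * (u' : G) ∈ P :=
        P.mul_mem (P.mul_mem (P.inv_mem u'.2) (hDP.le hx)) u'.2
      have h2 : (u' : G)⁻¹ * ((u' : G) * x * (u' : G)⁻¹) * (u' : G) = x := by group
      rwa [h2] at h1
    have h1 := (hu'N ⟨x, hxP⟩).mpr (Subgroup.mem_subgroupOf.mpr hx)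
    exact Subgroup.mem_subgroupOf.mp h1

/-- `p`-elements lie in a normal Hall subgroup of order divisible by `p`. -/
theorem mem_of_pow_of_hall {M : Type u} [Group M] [Finite M] (K : Subgroup M) [K.Normal]
    (hK : (Nat.card K).Coprime K.index) (p : ℕ) [Fact p.Prime] (hp : p ∣ Nat.card K) (x : M)
    (k : ℕ) (hx : x ^ (p ^ k) = 1) : x ∈ K := by
  have hp' : p.Prime := Fact.out
  rw [← QuotientGroup.eq_one_iff]
  have h1 : orderOf (x : M ⧸ K) ∣ p ^ k := by
    apply orderOf_dvd_of_pow_eq_one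
    rw [← QuotientGroup.mk_pow, hx]
    rfl
  have h2 : orderOf (x : M ⧸ K) ∣ K.index := by
    have := orderOf_dvd_natCard (x : M ⧸ K)
    exact this
  have h3 : (p ^ k).Coprime K.index := by
    apply Nat.Coprime.pow_left
    exact Nat.Coprime.coprime_dvd_left hp hK
  exact orderOf_eq_one_iff.mp (Nat.Coprime.eq_one_of_dvd (Nat.Coprime.coprime_dvd_left h1 h3) h2)

/-- `p`-elements of a nilpotent subgroup containing a Sylow `p`-subgroup `P` of `G` lie in `P`. -/
theorem mem_sylow_of_nilpotent {G : Type u} [Group G] [Finite G] {p : ℕ} [Fact p.Prime]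
    (P : Sylow p G) {L : Subgroup G} (hL : Group.IsNilpotent L) (hPL : (P : Subgroup G) ≤ L)
    {x : G} (hx : x ∈ L) {k : ℕ} (hxk : x ^ (p ^ k) = 1) : x ∈ P := by
  haveI := hL
  have hn : ((P.subtype hPL : Sylow p ↥L) : Subgroup ↥L).Normal :=
    Sylow.normal_of_normalizerCondition normalizerCondition_of_isNilpotent _
  have h1 : (⟨x, hx⟩ : ↥L) ∈ (P.subtype hPL : Sylow p ↥L) :=
    mem_normal_sylow p (P.subtype hPL) hn ⟨x, hx⟩ k (Subtype.ext (by simpa using hxk))
  have h2 : (⟨x, hx⟩ : ↥L) ∈ ((P.subtype hPL : Sylow p ↥L) : Subgroup ↥L) := h1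
  rw [Sylow.coe_subtype, Subgroup.mem_subgroupOf] at h2
  exact h2

end Cfsg.Agent.Lib.Helper34
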