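import Mathlib
import Cfsg.Prelude.Def_OddOrder
import Cfsg.Agent.Lib.Helper34.MS1
import Cfsg.Agent.Lib.Helper34.Quad3
import Cfsg.Agent.Lib.Helper3.ZJ6
import Cfsg.Agent.Lib.Helper26.ThompsonJ
import Cfsg.Agent.S0118
import Cfsg.Agent.S1242

/-!
# Minimal simple groups of odd order: `N_G(Z(J(P)))` has no `p`-quotient
-/

set_option autoImplicit false

namespace Cfsg.Agent.Lib.Helper34

open Cfsg

universe u v

section

variable {G : Type u} [Group G]

theorem normalizer_le_normalizer_ctO (p : ℕ) (P : Subgroup G) :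
    Subgroup.normalizer (P : Set G) ≤ Subgroup.normalizer (centerThompsonOf p P : Set G) :=
  (Cfsg.Agent.Lib.Helper26.normalizer_le_normalizer_thompsonOf (p := p) P).trans
    (Cfsg.Agent.Lib.Helper26.normalizer_le_normalizer_zc _)

theorem ctO_ne_bot [Finite G] (p : ℕ) [Fact p.Prime] {P : Subgroup G} (hP : IsPGroup p P)
    (hne : P ≠ ⊥) : centerThompsonOf p P ≠ ⊥ :=
  Cfsg.Agent.Lib.Helper26.zc_ne_bot (hP.to_le (Cfsg.Agent.Lib.Helper14.thompsonOf_le P))
    (Cfsg.Agent.Lib.Helper26.thompsonOf_ne_bot hP hne)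

theorem ctO_comm (p : ℕ) (P : Subgroup G) :
    ∀ x ∈ centerThompsonOf p P, ∀ y ∈ centerThompsonOf p P, x * y = y * x := by
  intro x hx y hy
  have hx' := Subgroup.mem_inf.mp hx
  have hy' := Subgroup.mem_inf.mp hy
  exact (Subgroup.mem_centralizer_iff.mp hx'.2 y hy'.1).symm

theorem ms_commutator_top (hG : IsMinSimpleOddOrder G) : commutator G = ⊤ := by
  haveI := hG.2.1
  have hn : (commutator G).Normal := by rw [commutator_def]; infer_instance
  rcases hn.eq_bot_or_eq_top with h | h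
  · exfalso
    apply hG.2.2.1
    have hc : Subgroup.center G = ⊤ := (_root_.commutator_eq_bot_iff_center_eq_top (G := G)).mp h
    refine ⟨⟨fun a b => ?_⟩⟩
    have hb : b ∈ Subgroup.center G := by rw [hc]; trivial
    exact Subgroup.mem_center_iff.mp hb a
  · exact h

/-- a nontrivial subgroup with commuting elements has proper normalizer -/
theorem ms_normalizer_ne_top (hG : IsMinSimpleOddOrder G) {Z : Subgroup G} (hZ : Z ≠ ⊥)
    (hc : ∀ x ∈ Z, ∀ y ∈ Z, x * y = y * x) : Subgroup.normalizer (Z : Set G) ≠ ⊤ := by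
  intro h
  haveI := hG.2.1
  have hn : Z.Normal := Subgroup.normalizer_eq_top_iff.mp h
  rcases hn.eq_bot_or_eq_top with h1 | h1
  · exact hZ h1
  · apply hG.2.2.1
    refine ⟨⟨fun a b => ?_⟩⟩
    exact hc a (by rw [h1]; trivial) b (by rw [h1]; trivial)

theorem ms_solvable (hG : IsMinSimpleOddOrder G) {M : Subgroup G} (hM : M ≠ ⊤) :
    Group.IsSolvable ↥M := hG.2.2.2 M hM

theorem ms_odd_subgroup [Finite G] (hG : IsMinSimpleOddOrder G) (M : Subgroup G) :
    Odd (Nat.card ↥M) := hG.1.of_dvd_nat (Subgroup.card_subgroup_dvd_card M)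

/-- **Transfer.** In a minimal simple group of odd order, `N_G(Z(J(P)))` has no nontrivial
`p`-quotient. -/
theorem ms_no_pquot [Finite G] (hG : IsMinSimpleOddOrder G) (p : ℕ) [Fact p.Prime]
    (P : Sylow p G) (N : Subgroup G)
    (hN : N = Subgroup.normalizer (centerThompsonOf p (P : Subgroup G) : Set G))
    {Q : Type v} [Group Q] (ψ : ↥N →* Q) (hψ : ∀ x, ∃ k : ℕ, ψ x ^ (p ^ k) = 1) :
    ∀ x, ψ x = 1 := by
  have hp : p.Prime := Fact.out
  by_cases hp2 : p = 2
  · intro x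
    obtain ⟨k, hk⟩ := hψ x
    have h1 : orderOf (ψ x) ∣ p ^ k := orderOf_dvd_of_pow_eq_one hk
    have h2 : orderOf (ψ x) ∣ Nat.card ↥N := (orderOf_map_dvd ψ x).trans (orderOf_dvd_natCard x)
    have h3 : Odd (Nat.card ↥N) := ms_odd_subgroup hG N
    have h4 : (p ^ k).Coprime (Nat.card ↥N) := by
      rw [hp2]
      exact Nat.Coprime.pow_left k (Nat.coprime_two_left.mpr h3)
    exact orderOf_eq_one_iff.mp (Nat.Coprime.eq_one_of_dvd (Nat.Coprime.coprime_dvd_left h1 h4) h2)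
  · have hPN : (P : Subgroup G) ≤ N := by
      rw [hN]
      exact Subgroup.le_normalizer.trans (normalizer_le_normalizer_ctO p _)
    have hidx : Nat.Coprime p N.index :=
      (Nat.Prime.coprime_iff_not_dvd hp).mpr
        (fun h => P.not_dvd_index (h.trans (Subgroup.index_dvd_of_le hPN)))
    have hfree := not_sl2_section_of_odd hG.1 p hp2
    have hfus : ∀ g ∈ N, (∃ k : ℕ, orderOf g = p ^ k) → ∀ a : G, a * g * a⁻¹ ∈ N →
        ∃ h ∈ N, h * g * h⁻¹ = a * g * a⁻¹ := by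
      rintro g hg ⟨k, hk⟩ a ha
      have hgp : g ^ (p ^ k) = 1 := by rw [← hk]; exact pow_orderOf_eq_one g
      have hgp' : (a * g * a⁻¹) ^ (p ^ k) = 1 := by rw [conj_pow, hgp]; group
      obtain ⟨m, hm, hmP⟩ := Cfsg.Agent.Lib.Helper3.ZJ.exists_conj_mem_sylow P N hPN
        (Subgroup.zpowers g) (isPGroup_zpowers_of_pow hgp) ((Subgroup.zpowers_le).mpr hg)
      obtain ⟨m', hm', hm'P⟩ := Cfsg.Agent.Lib.Helper3.ZJ.exists_conj_mem_sylow P N hPN
        (Subgroup.zpowers (a * g * a⁻¹)) (isPGroup_zpowers_of_pow hgp')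
        ((Subgroup.zpowers_le).mpr ha)
      have hx : m * g * m⁻¹ ∈ (P : Subgroup G) := hmP g (Subgroup.mem_zpowers g)
      have hy : m' * (a * g * a⁻¹) * m'⁻¹ ∈ (P : Subgroup G) :=
        hm'P _ (Subgroup.mem_zpowers _)
      obtain ⟨n, hn, hn'⟩ := Cfsg.Agent.S0118.result hp2 hfree P {m * g * m⁻¹}
        (by intro w hw; rw [Set.mem_singleton_iff] at hw; rw [hw]; exact hx)
        (m' * a * m⁻¹)⁻¹
        (by
          rintro _ ⟨w, hw, rfl⟩
          rw [Set.mem_singleton_iff] at hw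
          rw [hw]
          have : (m' * a * m⁻¹)⁻¹⁻¹ * (m * g * m⁻¹) * (m' * a * m⁻¹)⁻¹ =
              m' * (a * g * a⁻¹) * m'⁻¹ := by group
          show (m' * a * m⁻¹)⁻¹⁻¹ * (m * g * m⁻¹) * (m' * a * m⁻¹)⁻¹ ∈ (P : Set G)
          rw [this]
          exact hy)
      have hn2 := hn' (m * g * m⁻¹) rfl
      rw [← hN] at hn
      refine ⟨m'⁻¹ * n⁻¹ * m, N.mul_mem (N.mul_mem (N.inv_mem hm') (N.inv_mem hn)) hm, ?_⟩
      calc m'⁻¹ * n⁻¹ * m * g * (m'⁻¹ * n⁻¹ * m)⁻¹
          = m'⁻¹ * (n⁻¹ * (m * g * m⁻¹) * n) * m' := by group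
        _ = m'⁻¹ * ((m' * a * m⁻¹)⁻¹⁻¹ * (m * g * m⁻¹) * (m' * a * m⁻¹)⁻¹) * m' := by rw [hn2]
        _ = a * g * a⁻¹ := by group
    have key := Cfsg.Agent.S1242.result (p := p) N hidx hfus
    rw [ms_commutator_top hG, sup_top_eq, top_inf_eq] at key
    apply no_pquot_of_residual p ?_ ψ hψ
    rw [eq_top_iff]
    intro x _
    have hx : (x : G) ∈ Subgroup.map N.subtype (pResidual p ↥N ⊔ commutator ↥N) := by
      rw [← key]; exact x.2
    obtain ⟨y, hy, hyx⟩ := hx
    have : y = x := Subtype.ext hyx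
    rwa [← this]

/-- A Sylow subgroup of a maximal subgroup `M` with `Z(J)` normal in `M` is a Sylow subgroup
of `G`, and `M = N_G(Z(J))`. -/
theorem ms_coatom_sylow [Finite G] (hG : IsMinSimpleOddOrder G) {M : Subgroup G}
    (hM : IsCoatom M) (p : ℕ) [Fact p.Prime] (P₁ : Sylow p ↥M)
    (hne : (P₁ : Subgroup ↥M) ≠ ⊥)
    (hnorm : (centerThompsonOf p (P₁ : Subgroup ↥M)).Normal) :
    ∃ P : Sylow p G, (P : Subgroup G) = (P₁ : Subgroup ↥M).map M.subtype ∧
      M = Subgroup.normalizer (centerThompsonOf p (P : Subgroup G) : Set G) := by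
  set D : Subgroup G := (P₁ : Subgroup ↥M).map M.subtype with hDdef
  have hD : IsPGroup p D := P₁.isPGroup'.map _
  have hDM : D ≤ M := Subgroup.map_subtype_le _
  have hDne : D ≠ ⊥ := fun h =>
    hne ((Subgroup.map_eq_bot_iff_of_injective _ M.subtype_injective).mp h)
  have hZ : centerThompsonOf p D = (centerThompsonOf p (P₁ : Subgroup ↥M)).map M.subtype :=
    Cfsg.Agent.Lib.Helper3.ZJ.ctO_map M.subtype _ (fun u _ hu => Subtype.ext hu)
  have hMN : M ≤ Subgroup.normalizer (centerThompsonOf p D : Set G) := by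
    intro m hm
    rw [hZ]
    have h1 := Subgroup.le_normalizer_map M.subtype
      (H := centerThompsonOf p (P₁ : Subgroup ↥M))
    rw [Subgroup.normalizer_eq_top_iff.mpr hnorm] at h1
    exact h1 ⟨⟨m, hm⟩, Subgroup.mem_top _, rfl⟩
  have hZne : centerThompsonOf p D ≠ ⊥ := ctO_ne_bot p hD hDne
  have hNtop : Subgroup.normalizer (centerThompsonOf p D : Set G) ≠ ⊤ :=
    ms_normalizer_ne_top hG hZne (ctO_comm p D)
  have hNM : Subgroup.normalizer (centerThompsonOf p D : Set G) = M :=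
    (hM.le_iff.mp hMN).resolve_left hNtop
  obtain ⟨P, hDP⟩ := hD.exists_le_sylow
  have hDP' : D = (P : Subgroup G) := by
    by_contra hneq
    have hlt : D < (P : Subgroup G) := lt_of_le_of_ne hDP hneq
    obtain ⟨u, huP, huD, huN⟩ := exists_mem_normalizer_not_mem P.isPGroup' hlt
    have huM : u ∈ M := by
      rw [← hNM]
      exact normalizer_le_normalizer_ctO p D huN
    have hS : IsPGroup p ((P : Subgroup G).subgroupOf M) :=
      P.isPGroup'.comap_of_injective _ M.subtype_injective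
    have hle : (P₁ : Subgroup ↥M) ≤ (P : Subgroup G).subgroupOf M := by
      intro x hx
      rw [Subgroup.mem_subgroupOf]
      exact hDP ⟨x, hx, rfl⟩
    have heq := P₁.is_maximal' hS hle
    have h1 : (⟨u, huM⟩ : ↥M) ∈ (P : Subgroup G).subgroupOf M := Subgroup.mem_subgroupOf.mpr huP
    rw [heq] at h1
    exact huD ⟨⟨u, huM⟩, h1, rfl⟩
  refine ⟨P, hDP'.symm, ?_⟩
  rw [← hDP', hNM]

/-- **Transfer for maximal subgroups.** -/
theorem ms_coatom_no_pquot [Finite G] (hG : IsMinSimpleOddOrder G) {M : Subgroup G}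
    (hM : IsCoatom M) (p : ℕ) [Fact p.Prime] (P₁ : Sylow p ↥M)
    (hne : (P₁ : Subgroup ↥M) ≠ ⊥)
    (hnorm : (centerThompsonOf p (P₁ : Subgroup ↥M)).Normal)
    {Q : Type v} [Group Q] (ψ : ↥M →* Q) (hψ : ∀ x, ∃ k : ℕ, ψ x ^ (p ^ k) = 1) :
    ∀ x, ψ x = 1 := by
  obtain ⟨P, -, hN⟩ := ms_coatom_sylow hG hM p P₁ hne hnorm
  exact ms_no_pquot hG p P M hN ψ hψ

end

end Cfsg.Agent.Lib.Helper34
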