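import Mathlib
import Cfsg.Agent.Lib.Helper34.MS2
import Cfsg.Agent.Lib.Helper34.CN9
import Cfsg.Agent.S1458

/-!
# Maximal subgroups of a minimal simple CN-group of odd order are Frobenius groups
-/

set_option autoImplicit false

namespace Cfsg.Agent.Lib.Helper34

open Cfsg

universe u v

/-- CN-groups of odd order with a nontrivial normal Sylow subgroup, not nilpotent. -/
theorem cn_normal_sylow_structure_odd {G : Type u} [Group G] [Finite G] (hCN : IsCNGroup G)
    (hodd : Odd (Nat.card G))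
    (hnn : ¬ Group.IsNilpotent G) (p : ℕ) [Fact p.Prime] (P : Sylow p G)
    (hP1 : (P : Subgroup G) ≠ ⊥) (hPn : (P : Subgroup G).Normal) :
    fittingHall G ≠ ⊥ ∧ fittingHall G ≠ ⊤ ∧ Group.IsNilpotent ↥(fittingHall G) ∧
      (Nat.card (fittingHall G)).Coprime (fittingHall G).index ∧
      IsCyclic (G ⧸ fittingHall G) ∧
      ∃ E : Subgroup G, Subgroup.IsComplement' (fittingHall G) E ∧
        ∀ e ∈ E, e ≠ 1 → fittingHall G ⊓ Subgroup.centralizer ({e} : Set G) = ⊥ := by
  have hp : p.Prime := Fact.out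
  haveI := hPn
  obtain ⟨hK1, hKtop, ⟨E, hE, -, hfpf⟩, hnil⟩ := cn_normal_sylow_structure hCN hnn p P hP1 hPn
  obtain ⟨z, hzP, hz1, hzc⟩ := exists_center_elt p (P : Subgroup G) P.isPGroup' hP1
  have hHeq := cn_fittingHall_eq hCN p P hPn z hzP hz1 hzc
  have hKnil : Group.IsNilpotent ↥(fittingHall G) := by rw [hHeq]; exact hCN z hz1
  have hHall : (Nat.card (fittingHall G)).Coprime (fittingHall G).index := by
    rw [hHeq]; exact cn_centralizer_hall hCN p P hPn z hzP hz1 hzc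
  refine ⟨hK1, hKtop, hKnil, hHall, ?_, E, hE, hfpf⟩
  haveI := hnil
  haveI hEnil : Group.IsNilpotent ↥E := Group.nilpotent_of_mulEquiv hE.symm.QuotientMulEquiv
  have hPK : (P : Subgroup G) ≤ fittingHall G :=
    le_sSup ⟨hPn, P.isPGroup'.isNilpotent, P.card_coprime_index⟩
  have hEp : (Nat.card E).Coprime p := by
    have h1 : Nat.card E = (fittingHall G).index := (hE.symm.index_eq_card).symm
    rw [h1]
    exact ((Nat.Prime.coprime_iff_not_dvd hp).mpr (fun h =>
      P.not_dvd_index (dvd_trans h (Subgroup.index_dvd_of_le hPK)))).symm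
  have hfpfE : ∀ d ∈ E, d ≠ 1 →
      (P : Subgroup G) ⊓ Subgroup.centralizer ({d} : Set G) = ⊥ := by
    intro d hd hd1
    rw [eq_bot_iff, ← hfpf d hd hd1]
    exact inf_le_inf_right _ hPK
  obtain ⟨ρ, hf⟩ := exists_fpf_action (P : Subgroup G) E hfpfE
  obtain ⟨hVcomm, hVp, hV⟩ := center_facts p (P : Subgroup G) P.isPGroup' hP1
  have hEodd : Odd (Nat.card E) := hodd.of_dvd_nat (Subgroup.card_subgroup_dvd_card E)
  have hZ : IsZGroup ↥E := by
    refine ⟨fun q hq Q => ?_⟩
    haveI : Fact q.Prime := ⟨hq⟩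
    by_cases hq2 : q = 2
    · subst hq2
      obtain ⟨m, hm⟩ := IsPGroup.iff_card.mp Q.isPGroup'
      have h3 : Nat.card (Q : Subgroup ↥E) ∣ Nat.card E := Subgroup.card_subgroup_dvd_card _
      rw [hm] at h3
      rcases Nat.eq_zero_or_pos m with h0 | h0
      · rw [h0, pow_zero] at hm
        haveI : Subsingleton ↥(Q : Subgroup ↥E) := (Nat.card_eq_one_iff_unique.mp hm).1
        exact isCyclic_of_subsingleton
      · exfalso
        exact (Nat.not_even_iff_odd.mpr hEodd)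
          (even_iff_two_dvd.mpr (dvd_trans (dvd_pow_self 2 h0.ne') h3))
    · exact fpf_isCyclic_of_pgroup hVcomm p hVp hV hEp ρ hf q hq2 (Q : Subgroup ↥E) Q.isPGroup'
  haveI := hZ
  haveI : IsCyclic ↥E := inferInstance
  exact isCyclic_of_surjective hE.symm.QuotientMulEquiv.symm.toMonoidHom (MulEquiv.surjective _)

section

variable {G : Type u} [Group G]

theorem ms_coatom_ne_bot (hG : IsMinSimpleOddOrder G) {M : Subgroup G}
    (hM : IsCoatom M) : M ≠ ⊥ := by
  intro hbot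
  subst hbot
  haveI := hG.2.1
  obtain ⟨x, hx⟩ := exists_ne (1 : G)
  have h1 : Subgroup.zpowers x = ⊤ := by
    rcases hM.le_iff.mp (bot_le : (⊥ : Subgroup G) ≤ Subgroup.zpowers x) with h | h
    · exact h
    · exfalso
      apply hx
      have : x ∈ Subgroup.zpowers x := Subgroup.mem_zpowers x
      rw [h] at this
      exact Subgroup.mem_bot.mp this
  apply hG.2.2.1
  refine ⟨⟨fun a b => ?_⟩⟩
  have ha : a ∈ Subgroup.zpowers x := by rw [h1]; trivial
  have hb : b ∈ Subgroup.zpowers x := by rw [h1]; trivial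
  obtain ⟨i, rfl⟩ := Subgroup.mem_zpowers_iff.mp ha
  obtain ⟨j, rfl⟩ := Subgroup.mem_zpowers_iff.mp hb
  rw [← zpow_add, ← zpow_add, add_comm]

theorem ms_coatom_not_nilpotent [Finite G] (hG : IsMinSimpleOddOrder G) {M : Subgroup G}
    (hM : IsCoatom M) : ¬ Group.IsNilpotent ↥M := by
  intro hnil
  haveI := hnil
  have hMne : M ≠ ⊥ := ms_coatom_ne_bot hG hM
  have hcard : Nat.card ↥M ≠ 1 := fun h => hMne (Subgroup.card_eq_one.mp h)
  obtain ⟨p, hp, hpd⟩ := Nat.exists_prime_and_dvd hcard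
  haveI : Fact p.Prime := ⟨hp⟩
  let P₁ : Sylow p ↥M := default
  haveI hPn : (P₁ : Subgroup ↥M).Normal :=
    Sylow.normal_of_normalizerCondition normalizerCondition_of_isNilpotent P₁
  have hne : (P₁ : Subgroup ↥M) ≠ ⊥ := P₁.ne_bot_of_dvd_card hpd
  have hnorm : (centerThompsonOf p (P₁ : Subgroup ↥M)).Normal := by
    rw [← Subgroup.normalizer_eq_top_iff, eq_top_iff]
    refine le_trans ?_ (normalizer_le_normalizer_ctO p (P₁ : Subgroup ↥M))
    rw [Subgroup.normalizer_eq_top_iff.mpr hPn]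
  obtain ⟨K, hKn, hKtop, hKp⟩ := exists_pquot_of_nilpotent (M := ↥M) p hpd
  haveI := hKn
  have h1 := ms_coatom_no_pquot hG hM p P₁ hne hnorm (QuotientGroup.mk' K) (fun x => hKp _)
  apply hKtop
  rw [eq_top_iff]
  intro x _
  exact (QuotientGroup.eq_one_iff x).mp (h1 x)

theorem ms_no_three_step_coatom [Finite G] (hG : IsMinSimpleOddOrder G) (hCN : IsCNGroup G)
    {M : Subgroup G} (hM : IsCoatom M) (p : ℕ) [Fact p.Prime]
    (hP1 : pCore p ↥M ≠ ⊥)
    (hcent : Subgroup.centralizer (pCore p ↥M : Set ↥M) ≤ pCore p ↥M)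
    (hnS : p ∣ (pCore p ↥M).index) : False := by
  have hp : p.Prime := Fact.out
  haveI : Group.IsSolvable ↥M := ms_solvable hG hM.1
  have hoddM : Odd (Nat.card ↥M) := ms_odd_subgroup hG M
  have hCNM : IsCNGroup ↥M := fun g hg => cn_centralizer_subgroup_nilpotent hCN M g hg
  have hPp : IsPGroup p (pCore p ↥M) := Helper30.pCore_isPGroup p
  haveI hPn : (pCore p ↥M).Normal := Helper30.pCore_normal p ↥M
  have hpp : pPrimeCore p ↥M = ⊥ := by
    have hcop : (Nat.card (pCore p ↥M)).Coprime (Nat.card (pPrimeCore p ↥M)) := by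
      obtain ⟨n, hn⟩ := IsPGroup.iff_card.mp hPp
      rw [hn]
      exact Nat.Coprime.pow_left n (Helper30.pPrimeCore_coprime p).symm
    have hdis : Disjoint (pCore p ↥M) (pPrimeCore p ↥M) :=
      disjoint_iff.mpr (Subgroup.inf_eq_bot_of_coprime hcop)
    have hle : pPrimeCore p ↥M ≤ Subgroup.centralizer (pCore p ↥M : Set ↥M) := by
      intro x hx
      apply Subgroup.mem_centralizer_iff.mpr
      intro y hy
      exact (Subgroup.commute_of_normal_of_disjoint _ _ (Helper30.pCore_normal p ↥M)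
        (Helper30.pPrimeCore_normal p ↥M) hdis y x hy hx).eq
    rw [eq_bot_iff]
    intro x hx
    exact hdis.le_bot ⟨hcent (hle hx), hx⟩
  let P₁ : Sylow p ↥M := default
  have hPP : pCore p ↥M ≤ P₁ := IsPGroup.le_sylow_of_normal hPp P₁
  have hne : (P₁ : Subgroup ↥M) ≠ ⊥ := by
    intro h
    rw [h, le_bot_iff] at hPP
    exact hP1 hPP
  have hnorm : (centerThompsonOf p (P₁ : Subgroup ↥M)).Normal := by
    have h := Cfsg.Agent.S1458.result hoddM p P₁
    rwa [hpp, sup_bot_eq] at h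
  obtain ⟨-, A, -, -, -, -, hn, htop, ⟨n, hidx⟩, -, -⟩ := cn_three_step hCNM p hP1 hcent hnS
  haveI := hn
  have hKp : IsPGroup p (↥M ⧸ (pCore p ↥M ⊔ A)) := by
    apply IsPGroup.of_card (n := n)
    rw [← hidx]
    rfl
  have h1 := ms_coatom_no_pquot hG hM p P₁ hne hnorm (QuotientGroup.mk' (pCore p ↥M ⊔ A))
    (fun x => hKp _)
  apply htop
  rw [eq_top_iff]
  intro x _
  exact (QuotientGroup.eq_one_iff x).mp (h1 x)

/-- **Structure of maximal subgroups** of a minimal simple CN-group of odd order. -/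
theorem ms_coatom_structure [Finite G] (hG : IsMinSimpleOddOrder G) (hCN : IsCNGroup G)
    {M : Subgroup G} (hM : IsCoatom M) :
    fittingHall ↥M ≠ ⊥ ∧ fittingHall ↥M ≠ ⊤ ∧ Group.IsNilpotent ↥(fittingHall ↥M) ∧
      (Nat.card (fittingHall ↥M)).Coprime (fittingHall ↥M).index ∧
      IsCyclic (↥M ⧸ fittingHall ↥M) ∧
      ∃ E : Subgroup ↥M, Subgroup.IsComplement' (fittingHall ↥M) E ∧
        ∀ e ∈ E, e ≠ 1 → fittingHall ↥M ⊓ Subgroup.centralizer ({e} : Set ↥M) = ⊥ := by
  haveI : Group.IsSolvable ↥M := ms_solvable hG hM.1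
  have hoddM : Odd (Nat.card ↥M) := ms_odd_subgroup hG M
  have hCNM : IsCNGroup ↥M := fun g hg => cn_centralizer_subgroup_nilpotent hCN M g hg
  have hnn := ms_coatom_not_nilpotent hG hM
  rcases cn_solvable_dichotomy hCNM hnn with ⟨p, hp, P, hP1, hPn⟩ | ⟨p, hp, h1, h2, h3⟩
  · haveI := hp
    exact cn_normal_sylow_structure_odd hCNM hoddM hnn p P hP1 hPn
  · haveI := hp
    exact (ms_no_three_step_coatom hG hCN hM p h1 h2 h3).elim

end

end Cfsg.Agent.Lib.Helper34
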