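import Mathlib
import Cfsg.Agent.Lib.Helper34.MS3
import Cfsg.Agent.Lib.Helper34.Rank2d
import Cfsg.Agent.Lib.Helper34.CN2

/-!
# The kernels of the maximal subgroups of a minimal simple CN-group of odd order
-/

set_option autoImplicit false

namespace Cfsg.Agent.Lib.Helper34

open Cfsg

universe u v

section

variable {G : Type u} [Group G]

theorem zpowers_isNilpotent (x : G) : Group.IsNilpotent ↥(Subgroup.zpowers x) := by
  have : IsCyclic ↥(Subgroup.zpowers x) := inferInstance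
  let _i : CommGroup ↥(Subgroup.zpowers x) := IsCyclic.commGroup
  exact CommGroup.isNilpotent

theorem mem_fho_iff {M : Subgroup G} {x : G} :
    x ∈ fittingHallOf M ↔ ∃ hx : x ∈ M, (⟨x, hx⟩ : ↥M) ∈ fittingHall ↥M := by
  unfold fittingHallOf
  constructor
  · rintro ⟨y, hy, rfl⟩
    exact ⟨y.2, hy⟩
  · rintro ⟨hx, h⟩
    exact ⟨⟨x, hx⟩, h, rfl⟩

theorem fho_le (M : Subgroup G) : fittingHallOf M ≤ M := Subgroup.map_subtype_le _

theorem fho_conj_mem {M : Subgroup G} {m h : G} (hm : m ∈ M) (hh : h ∈ fittingHallOf M) :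
    m * h * m⁻¹ ∈ fittingHallOf M := by
  obtain ⟨hhM, hh'⟩ := mem_fho_iff.mp hh
  exact mem_fho_iff.mpr ⟨M.mul_mem (M.mul_mem hm hhM) (M.inv_mem hm),
    (inferInstance : (fittingHall ↥M).Normal).conj_mem _ hh' ⟨m, hm⟩⟩

theorem le_normalizer_fho (M : Subgroup G) :
    M ≤ Subgroup.normalizer (fittingHallOf M : Set G) := by
  intro m hm
  rw [Subgroup.mem_normalizer_iff]
  intro h
  constructor
  · exact fho_conj_mem hm
  · intro hh
    have h1 := fho_conj_mem (M.inv_mem hm) hh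
    have e : m⁻¹ * (m * h * m⁻¹) * m⁻¹⁻¹ = h := by group
    rwa [e] at h1

theorem card_fho (M : Subgroup G) :
    Nat.card (fittingHallOf M) = Nat.card (fittingHall ↥M) :=
  Subgroup.card_map_of_injective M.subtype_injective

variable [Finite G]

theorem ms_fho_nilpotent (hG : IsMinSimpleOddOrder G) (hCN : IsCNGroup G) {M : Subgroup G}
    (hM : IsCoatom M) : Group.IsNilpotent ↥(fittingHallOf M) := by
  obtain ⟨-, -, hnil, -⟩ := ms_coatom_structure hG hCN hM
  haveI := hnil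
  exact Group.nilpotent_of_mulEquiv
    ((fittingHall ↥M).equivMapOfInjective M.subtype M.subtype_injective)

theorem ms_fho_ne_bot (hG : IsMinSimpleOddOrder G) (hCN : IsCNGroup G) {M : Subgroup G}
    (hM : IsCoatom M) : fittingHallOf M ≠ ⊥ := by
  obtain ⟨h1, -⟩ := ms_coatom_structure hG hCN hM
  intro h
  exact h1 ((Subgroup.map_eq_bot_iff_of_injective _ M.subtype_injective).mp h)

theorem ms_comm_mem_fho (hG : IsMinSimpleOddOrder G) (hCN : IsCNGroup G) {M : Subgroup G}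
    (hM : IsCoatom M) {a b : G} (ha : a ∈ M) (hb : b ∈ M) :
    a * b * a⁻¹ * b⁻¹ ∈ fittingHallOf M := by
  obtain ⟨-, -, -, -, hcyc, -⟩ := ms_coatom_structure hG hCN hM
  haveI := hcyc
  rw [mem_fho_iff]
  refine ⟨M.mul_mem (M.mul_mem (M.mul_mem ha hb) (M.inv_mem ha)) (M.inv_mem hb), ?_⟩
  have h1 : (QuotientGroup.mk' (fittingHall ↥M))
      ((⟨a, ha⟩ : ↥M) * ⟨b, hb⟩ * (⟨a, ha⟩ : ↥M)⁻¹ * (⟨b, hb⟩ : ↥M)⁻¹) = 1 := by
    rw [map_mul, map_mul, map_mul, map_inv, map_inv,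
      commute_of_isCyclic (QuotientGroup.mk' _ (⟨a, ha⟩ : ↥M)) (QuotientGroup.mk' _ ⟨b, hb⟩)]
    group
  exact (QuotientGroup.eq_one_iff _).mp h1

theorem ms_coatom_complement (hG : IsMinSimpleOddOrder G) (hCN : IsCNGroup G) {M : Subgroup G}
    (hM : IsCoatom M) :
    ∃ E' : Subgroup G, IsComplIn (fittingHallOf M) E' M ∧ E' ≠ ⊥ ∧
      (Nat.card E').Coprime (Nat.card (fittingHallOf M)) ∧
      ∀ e ∈ E', e ≠ 1 → fittingHallOf M ⊓ Subgroup.centralizer ({e} : Set G) = ⊥ := by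
  obtain ⟨-, htop, -, hHall, -, E, hE, hfpf⟩ := ms_coatom_structure hG hCN hM
  have hcardE : Nat.card E = (fittingHall ↥M).index := (hE.symm.index_eq_card).symm
  refine ⟨E.map M.subtype, ⟨fho_le M, Subgroup.map_subtype_le _, ?_, ?_⟩, ?_, ?_, ?_⟩
  · rw [eq_bot_iff]
    rintro x ⟨hx1, ⟨e, he, rfl⟩⟩
    obtain ⟨hxM, hx'⟩ := mem_fho_iff.mp hx1
    have h1 : e ∈ fittingHall ↥M ⊓ E := ⟨hx', he⟩
    rw [hE.disjoint.eq_bot, Subgroup.mem_bot] at h1
    rw [Subgroup.mem_bot, h1]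
    rfl
  · intro m hm
    obtain ⟨⟨k, e⟩, hg, -⟩ := hE.existsUnique (⟨m, hm⟩ : ↥M)
    refine ⟨((k : ↥M) : G), mem_fho_iff.mpr ⟨(k : ↥M).2, k.2⟩, ((e : ↥M) : G),
      ⟨(e : ↥M), e.2, rfl⟩, ?_⟩
    have h2 := congrArg Subtype.val hg
    exact h2.symm
  · intro h
    have h1 : E = ⊥ := (Subgroup.map_eq_bot_iff_of_injective _ M.subtype_injective).mp h
    apply htop
    apply Subgroup.index_eq_one.mp
    rw [← hcardE, h1, Subgroup.card_bot]
  · rw [Subgroup.card_map_of_injective M.subtype_injective, card_fho, hcardE]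
    exact hHall.symm
  · rintro _ ⟨e, he, rfl⟩ he1
    rw [eq_bot_iff]
    rintro x ⟨hx1, hx2⟩
    obtain ⟨hxM, hx'⟩ := mem_fho_iff.mp hx1
    have h1 : (⟨x, hxM⟩ : ↥M) ∈ fittingHall ↥M ⊓ Subgroup.centralizer ({e} : Set ↥M) := by
      refine ⟨hx', ?_⟩
      apply mem_centralizer_singleton.mpr
      apply Subtype.ext
      exact mem_centralizer_singleton.mp hx2
    rw [hfpf e he (fun h => he1 (by rw [h]; rfl)), Subgroup.mem_bot] at h1
    rw [Subgroup.mem_bot]
    exact congrArg Subtype.val h1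

theorem ms_coatom_sylow_of_dvd (hG : IsMinSimpleOddOrder G) (hCN : IsCNGroup G) {M : Subgroup G}
    (hM : IsCoatom M) (p : ℕ) [Fact p.Prime] (hp : p ∣ Nat.card (fittingHallOf M)) :
    ∃ P : Sylow p G, (P : Subgroup G) ≤ fittingHallOf M ∧ (P : Subgroup G) ≠ ⊥ ∧
      M = Subgroup.normalizer (centerThompsonOf p (P : Subgroup G) : Set G) := by
  obtain ⟨-, -, hnil, hHall, -, -⟩ := ms_coatom_structure hG hCN hM
  rw [card_fho] at hp
  let P₁ : Sylow p ↥M := default
  have hP₁K : (P₁ : Subgroup ↥M) ≤ fittingHall ↥M := by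
    intro x hx
    obtain ⟨k, hk⟩ := exists_pow_of_mem_sylow p P₁ x hx
    exact mem_of_pow_of_hall (fittingHall ↥M) hHall p hp x k hk
  have hP₁n : (P₁ : Subgroup ↥M).Normal := by
    refine ⟨fun x hx g => ?_⟩
    obtain ⟨k, hk⟩ := exists_pow_of_mem_sylow p P₁ x hx
    have h1 : g * x * g⁻¹ ∈ fittingHall ↥M :=
      (inferInstance : (fittingHall ↥M).Normal).conj_mem x (hP₁K hx) g
    have h2 : (g * x * g⁻¹) ^ (p ^ k) = 1 := by rw [conj_pow, hk]; group
    exact mem_sylow_of_nilpotent P₁ hnil hP₁K h1 h2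
  have hne : (P₁ : Subgroup ↥M) ≠ ⊥ :=
    P₁.ne_bot_of_dvd_card (dvd_trans hp (Subgroup.card_subgroup_dvd_card _))
  have hnorm : (centerThompsonOf p (P₁ : Subgroup ↥M)).Normal := by
    rw [← Subgroup.normalizer_eq_top_iff, eq_top_iff]
    refine le_trans ?_ (normalizer_le_normalizer_ctO p (P₁ : Subgroup ↥M))
    rw [Subgroup.normalizer_eq_top_iff.mpr hP₁n]
  obtain ⟨P, hP, hMN⟩ := ms_coatom_sylow hG hM p P₁ hne hnorm
  refine ⟨P, ?_, ?_, hMN⟩
  · rw [hP]; exact Subgroup.map_mono hP₁K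
  · rw [hP]
    intro h
    exact hne ((Subgroup.map_eq_bot_iff_of_injective _ M.subtype_injective).mp h)

/-- the kernel of a maximal subgroup is a maximal nilpotent subgroup of `G` -/
theorem ms_fho_maxNilp (hG : IsMinSimpleOddOrder G) (hCN : IsCNGroup G) {M : Subgroup G}
    (hM : IsCoatom M) :
    ∀ L : Subgroup G, Group.IsNilpotent L → fittingHallOf M ≤ L → L = fittingHallOf M := by
  intro L hL hHL
  have hne := ms_fho_ne_bot hG hCN hM
  have hcard : Nat.card (fittingHallOf M) ≠ 1 := fun h => hne (Subgroup.card_eq_one.mp h)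
  obtain ⟨p, hp, hpd⟩ := Nat.exists_prime_and_dvd hcard
  haveI : Fact p.Prime := ⟨hp⟩
  obtain ⟨P, hPH, hP1, hMN⟩ := ms_coatom_sylow_of_dvd hG hCN hM p hpd
  obtain ⟨E', ⟨-, -, -, hdec⟩, -, hcop, hfpf⟩ := ms_coatom_complement hG hCN hM
  have hPL : (P : Subgroup G) ≤ L := hPH.trans hHL
  have hLM : L ≤ M := by
    intro l hl
    rw [hMN]
    apply normalizer_le_normalizer_ctO p (P : Subgroup G)
    rw [Subgroup.mem_normalizer_iff]
    intro x
    constructor
    · intro hx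
      obtain ⟨k, hk⟩ := exists_pow_of_mem_sylow p P x hx
      exact mem_sylow_of_nilpotent P hL hPL (L.mul_mem (L.mul_mem hl (hPL hx)) (L.inv_mem hl))
        (k := k) (by rw [conj_pow, hk]; group)
    · intro hx
      obtain ⟨k, hk⟩ := exists_pow_of_mem_sylow p P _ hx
      have h1 : x ∈ L := by
        have h2 := L.mul_mem (L.mul_mem (L.inv_mem hl) (hPL hx)) hl
        have e : l⁻¹ * (l * x * l⁻¹) * l = x := by group
        rwa [e] at h2
      refine mem_sylow_of_nilpotent P hL hPL h1 (k := k) ?_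
      rw [conj_pow] at hk
      have e : x ^ (p ^ k) = l⁻¹ * (l * x ^ (p ^ k) * l⁻¹) * l := by group
      rw [e, hk]; group
  apply le_antisymm _ hHL
  intro l hl
  obtain ⟨a, ha, b, hb, hab⟩ := hdec l (hLM hl)
  by_cases hb1 : b = 1
  · rw [hab, hb1, mul_one]; exact ha
  · exfalso
    have hbL : b ∈ L := by
      have e : b = a⁻¹ * l := by rw [hab]; group
      rw [e]; exact L.mul_mem (L.inv_mem (hHL ha)) hl
    obtain ⟨z, hzP, hz1⟩ := (P : Subgroup G).bot_or_exists_ne_one.resolve_left hP1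
    obtain ⟨k, hk⟩ := exists_pow_of_mem_sylow p P z hzP
    have hbE : b ^ Nat.card E' = 1 := pow_card_subgroup_eq_one E' b hb
    have hcop' : (Nat.card E').Coprime (p ^ k) :=
      Nat.Coprime.pow_right k (Nat.Coprime.coprime_dvd_right hpd hcop)
    have hcomm := commute_of_nilpotent_of_pow hL hbL (hPL hzP) _ _ hcop' hbE hk
    have hz : z ∈ fittingHallOf M ⊓ Subgroup.centralizer ({b} : Set G) :=
      ⟨hPH hzP, mem_centralizer_singleton.mpr hcomm⟩
    rw [hfpf b hb hb1, Subgroup.mem_bot] at hz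
    exact hz1 hz

/-- **Lemma Z.** A Sylow subgroup `P` lies in the kernel of every maximal subgroup containing
`N_G(Z(J(P)))`. -/
theorem ms_sylow_le_fho (hG : IsMinSimpleOddOrder G) (hCN : IsCNGroup G) {M : Subgroup G}
    (hM : IsCoatom M) (p : ℕ) [Fact p.Prime] (P : Sylow p G)
    (hNM : Subgroup.normalizer (centerThompsonOf p (P : Subgroup G) : Set G) ≤ M) :
    (P : Subgroup G) ≤ fittingHallOf M := by
  have hp : p.Prime := Fact.out
  obtain ⟨-, -, -, -, hcyc, -⟩ := ms_coatom_structure hG hCN hM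
  haveI := hcyc
  have hPN : (P : Subgroup G) ≤
      Subgroup.normalizer (centerThompsonOf p (P : Subgroup G) : Set G) :=
    le_trans Subgroup.le_normalizer (normalizer_le_normalizer_ctO p (P : Subgroup G))
  have hc0 : Nat.card (↥M ⧸ fittingHall ↥M) ≠ 0 := Nat.card_pos.ne'
  let φ : ↥(Subgroup.normalizer (centerThompsonOf p (P : Subgroup G) : Set G)) →*
      ↥M ⧸ fittingHall ↥M :=
    (QuotientGroup.mk' (fittingHall ↥M)).comp (Subgroup.inclusion hNM)
  let ψ : ↥(Subgroup.normalizer (centerThompsonOf p (P : Subgroup G) : Set G)) →*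
      ↥M ⧸ fittingHall ↥M :=
    { toFun := fun x => φ x ^ (ordCompl[p] (Nat.card (↥M ⧸ fittingHall ↥M)))
      map_one' := by rw [map_one, one_pow]
      map_mul' := fun x y => by
        rw [map_mul]
        exact Commute.mul_pow (commute_of_isCyclic (φ x) (φ y)) _ }
  have hψ : ∀ x, ∃ k : ℕ, ψ x ^ (p ^ k) = 1 := by
    intro x
    refine ⟨(Nat.card (↥M ⧸ fittingHall ↥M)).factorization p, ?_⟩
    show (φ x ^ (ordCompl[p] (Nat.card (↥M ⧸ fittingHall ↥M)))) ^
      (p ^ (Nat.card (↥M ⧸ fittingHall ↥M)).factorization p) = 1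
    rw [← pow_mul, mul_comm, Nat.ordProj_mul_ordCompl_eq_self]
    exact pow_card_eq_one'
  have hkill := ms_no_pquot hG p P _ rfl ψ hψ
  intro x hx
  obtain ⟨j, hj⟩ := exists_pow_of_mem_sylow p P x hx
  have h1 : φ ⟨x, hPN hx⟩ ^ (ordCompl[p] (Nat.card (↥M ⧸ fittingHall ↥M))) = 1 :=
    hkill ⟨x, hPN hx⟩
  have h2 : φ ⟨x, hPN hx⟩ ^ (p ^ j) = 1 := by
    rw [← map_pow]
    have e : (⟨x, hPN hx⟩ :
        ↥(Subgroup.normalizer (centerThompsonOf p (P : Subgroup G) : Set G))) ^ (p ^ j) = 1 :=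
      Subtype.ext (by simpa using hj)
    rw [e, map_one]
  have h3 : φ ⟨x, hPN hx⟩ = 1 := by
    have hd := Nat.dvd_gcd (orderOf_dvd_of_pow_eq_one h1) (orderOf_dvd_of_pow_eq_one h2)
    have hcop : Nat.Coprime (ordCompl[p] (Nat.card (↥M ⧸ fittingHall ↥M))) (p ^ j) :=
      Nat.Coprime.pow_right j (Nat.coprime_ordCompl hp hc0).symm
    rw [Nat.Coprime.gcd_eq_one hcop] at hd
    exact orderOf_eq_one_iff.mp (Nat.dvd_one.mp hd)
  rw [mem_fho_iff]
  exact ⟨hNM (hPN hx), (QuotientGroup.eq_one_iff _).mp h3⟩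

/-- In a CN-group, a maximal nilpotent subgroup containing a Sylow subgroup `P` is the
centralizer of every nontrivial element of `Z(P)`. -/
theorem cn_maxNilp_eq_centralizer (hCN : IsCNGroup G) {L : Subgroup G}
    (hL : Group.IsNilpotent L)
    (hmax : ∀ L' : Subgroup G, Group.IsNilpotent L' → L ≤ L' → L' = L) {p : ℕ} [Fact p.Prime]
    (P : Sylow p G) (hPL : (P : Subgroup G) ≤ L) {z : G} (hzP : z ∈ P) (hz1 : z ≠ 1)
    (hzc : ∀ u ∈ P, u * z = z * u) : Subgroup.centralizer ({z} : Set G) = L := by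
  have hp : p.Prime := Fact.out
  apply centralizer_eq_of_central hCN hmax hz1
  have hle : L ≤ Subgroup.centralizer ({z} : Set G) := by
    apply le_of_primary_mem
    intro r hr x hx k hk
    rw [mem_centralizer_singleton]
    by_cases hrp : r = p
    · subst hrp
      exact (hzc x (mem_sylow_of_nilpotent P hL hPL hx hk)).symm
    · obtain ⟨j, hj⟩ := exists_pow_of_mem_sylow p P z hzP
      exact commute_of_nilpotent_of_pow hL (hPL hzP) hx (p ^ j) (r ^ k)
        (Nat.Coprime.pow _ _ ((Nat.coprime_primes hp hr).mpr (Ne.symm hrp))) hj hk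
  intro h hh
  exact (mem_centralizer_singleton.mp (hle hh)).symm

/-- every maximal nilpotent subgroup is the kernel of a maximal subgroup -/
theorem ms_maxNilp_eq_fho (hG : IsMinSimpleOddOrder G) (hCN : IsCNGroup G) {H : Subgroup G}
    (hH : Group.IsNilpotent H)
    (hmax : ∀ L : Subgroup G, Group.IsNilpotent L → H ≤ L → L = H) :
    ∃ M : Subgroup G, IsCoatom M ∧ H = fittingHallOf M := by
  haveI := hG.2.1
  have hHne : H ≠ ⊥ := by
    intro h
    obtain ⟨x, hx⟩ := exists_ne (1 : G)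
    have h1 := hmax (Subgroup.zpowers x) (zpowers_isNilpotent x) (by rw [h]; exact bot_le)
    have h2 : x ∈ Subgroup.zpowers x := Subgroup.mem_zpowers x
    rw [h1, h] at h2
    exact hx (Subgroup.mem_bot.mp h2)
  have hcard : Nat.card H ≠ 1 := fun h => hHne (Subgroup.card_eq_one.mp h)
  obtain ⟨p, hp, hpd⟩ := Nat.exists_prime_and_dvd hcard
  haveI : Fact p.Prime := ⟨hp⟩
  obtain ⟨P, hPH⟩ := exists_sylow_le_of_maxNilp hCN hH hmax p hpd
  have hP1 : (P : Subgroup G) ≠ ⊥ :=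
    P.ne_bot_of_dvd_card (dvd_trans hpd (Subgroup.card_subgroup_dvd_card H))
  have hNtop := ms_normalizer_ne_top hG (ctO_ne_bot p P.isPGroup' hP1)
    (ctO_comm p (P : Subgroup G))
  obtain ⟨M, hM, hNM⟩ := (eq_top_or_exists_le_coatom _).resolve_left hNtop
  refine ⟨M, hM, ?_⟩
  have hPM := ms_sylow_le_fho hG hCN hM p P hNM
  obtain ⟨z, hzP, hz1, hzc⟩ := exists_center_elt p (P : Subgroup G) P.isPGroup' hP1
  rw [← cn_maxNilp_eq_centralizer hCN hH hmax P hPH hzP hz1 hzc]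
  exact cn_maxNilp_eq_centralizer hCN (ms_fho_nilpotent hG hCN hM) (ms_fho_maxNilp hG hCN hM) P
    hPM hzP hz1 hzc

end

end Cfsg.Agent.Lib.Helper34
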