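import Mathlib
import Cfsg.Agent.Lib.Helper34.MS4
import Cfsg.Agent.S1477

/-!
# Sylow subgroups and maximal nilpotent subgroups of a minimal simple CN-group of odd order
are TI
-/

set_option autoImplicit false

namespace Cfsg.Agent.Lib.Helper34

open Cfsg

universe u v

section

variable {G : Type u} [Group G]

theorem isCoatom_map_conj {M : Subgroup G} (hM : IsCoatom M) (g : G) :
    IsCoatom (M.map (MulAut.conj g).toMonoidHom) :=
  ((MulAut.conj g).mapSubgroup.isCoatom_iff M).mpr hM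

theorem maxNilp_map_conj {H : Subgroup G}
    (hmax : ∀ L : Subgroup G, Group.IsNilpotent L → H ≤ L → L = H) (g : G) :
    ∀ L : Subgroup G, Group.IsNilpotent L → H.map (MulAut.conj g).toMonoidHom ≤ L →
      L = H.map (MulAut.conj g).toMonoidHom := by
  intro L hL hle
  have h1 := hmax (L.map (MulAut.conj g⁻¹).toMonoidHom) (isNilpotent_map_conj hL g⁻¹) (by
    intro h hh
    rw [mem_map_conj, inv_inv]
    apply hle
    rw [mem_map_conj]
    have e : g⁻¹ * (g * h * g⁻¹) * g = h := by group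
    rw [e]; exact hh)
  ext a
  rw [mem_map_conj, ← h1, mem_map_conj, inv_inv]
  have e : g * (g⁻¹ * a * g) * g⁻¹ = a := by group
  rw [e]

variable [Finite G]

/-- two `p`-subgroups of a maximal subgroup with a common nontrivial element lie in a common
Sylow `p`-subgroup of `G` -/
theorem ms_exists_sylow_ge (hG : IsMinSimpleOddOrder G) (hCN : IsCNGroup G) {M₁ : Subgroup G}
    (hM : IsCoatom M₁) (p : ℕ) [Fact p.Prime] {S₁ S₂ : Subgroup G} (hS₁ : IsPGroup p S₁)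
    (hS₂ : IsPGroup p S₂) (h₁ : S₁ ≤ M₁) (h₂ : S₂ ≤ M₁) {d : G} (hd₁ : d ∈ S₁) (hd₂ : d ∈ S₂)
    (hd : d ≠ 1) : ∃ Q₃ : Sylow p G, S₁ ≤ Q₃ ∧ S₂ ≤ Q₃ := by
  have hp : p.Prime := Fact.out
  by_cases hpd : p ∣ Nat.card (fittingHallOf M₁)
  · obtain ⟨P₃, hP₃K, -, -⟩ := ms_coatom_sylow_of_dvd hG hCN hM p hpd
    obtain ⟨-, -, -, hHall, -, -⟩ := ms_coatom_structure hG hCN hM
    have key : ∀ x ∈ M₁, ∀ k : ℕ, x ^ (p ^ k) = 1 → x ∈ P₃ := by
      intro x hx k hk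
      have h1 : (⟨x, hx⟩ : ↥M₁) ∈ fittingHall ↥M₁ :=
        mem_of_pow_of_hall (fittingHall ↥M₁) hHall p (by rw [← card_fho]; exact hpd) ⟨x, hx⟩ k
          (Subtype.ext (by simpa using hk))
      exact mem_sylow_of_nilpotent P₃ (ms_fho_nilpotent hG hCN hM) hP₃K
        (mem_fho_iff.mpr ⟨hx, h1⟩) hk
    refine ⟨P₃, fun x hx => ?_, fun x hx => ?_⟩
    · obtain ⟨k, hk⟩ := exists_pow_of_mem_pgroup p S₁ hS₁ x hx
      exact key x (h₁ hx) k hk
    · obtain ⟨k, hk⟩ := exists_pow_of_mem_pgroup p S₂ hS₂ x hx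
      exact key x (h₂ hx) k hk
  · have hab : ∀ S : Subgroup G, IsPGroup p S → S ≤ M₁ → ∀ a ∈ S, ∀ b ∈ S, a * b = b * a := by
      intro S hS hSM a ha b hb
      have hc : a * b * a⁻¹ * b⁻¹ ∈ fittingHallOf M₁ :=
        ms_comm_mem_fho hG hCN hM (hSM ha) (hSM hb)
      have hcS : a * b * a⁻¹ * b⁻¹ ∈ S :=
        S.mul_mem (S.mul_mem (S.mul_mem ha hb) (S.inv_mem ha)) (S.inv_mem hb)
      obtain ⟨k, hk⟩ := exists_pow_of_mem_pgroup p S hS _ hcS
      have h1 := pow_card_subgroup_eq_one (fittingHallOf M₁) _ hc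
      have hcop : (p ^ k).Coprime (Nat.card (fittingHallOf M₁)) :=
        Nat.Coprime.pow_left k ((Nat.Prime.coprime_iff_not_dvd hp).mpr hpd)
      have h2 : a * b * a⁻¹ * b⁻¹ = 1 := by
        have hd := Nat.dvd_gcd (orderOf_dvd_of_pow_eq_one hk) (orderOf_dvd_of_pow_eq_one h1)
        rw [Nat.Coprime.gcd_eq_one hcop] at hd
        exact orderOf_eq_one_iff.mp (Nat.dvd_one.mp hd)
      calc a * b = (a * b * a⁻¹ * b⁻¹) * (b * a) := by group
        _ = b * a := by rw [h2, one_mul]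
    have hC := hCN d hd
    haveI := hC
    let T : Sylow p ↥(Subgroup.centralizer ({d} : Set G)) := default
    have hTn : (T : Subgroup ↥(Subgroup.centralizer ({d} : Set G))).Normal :=
      Sylow.normal_of_normalizerCondition normalizerCondition_of_isNilpotent T
    obtain ⟨Q₃, hQ₃⟩ :=
      (T.isPGroup'.map (Subgroup.centralizer ({d} : Set G)).subtype).exists_le_sylow
    have key : ∀ S : Subgroup G, IsPGroup p S → S ≤ M₁ → d ∈ S → S ≤ Q₃ := by
      intro S hS hSM hdS x hx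
      obtain ⟨k, hk⟩ := exists_pow_of_mem_pgroup p S hS x hx
      have hxC : x ∈ Subgroup.centralizer ({d} : Set G) :=
        mem_centralizer_singleton.mpr (hab S hS hSM d hdS x hx)
      have h1 := mem_normal_sylow p T hTn ⟨x, hxC⟩ k (Subtype.ext (by simpa using hk))
      exact hQ₃ ⟨⟨x, hxC⟩, h1, rfl⟩
    exact ⟨Q₃, key S₁ hS₁ h₁ hd₁, key S₂ hS₂ h₂ hd₂⟩

/-- **Sylow subgroups are TI.** -/
theorem ms_sylow_TI (hG : IsMinSimpleOddOrder G) (hCN : IsCNGroup G) (p : ℕ) [Fact p.Prime]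
    (Q₁ Q₂ : Sylow p G) (hne : Q₁ ≠ Q₂) : (Q₁ : Subgroup G) ⊓ (Q₂ : Subgroup G) = ⊥ := by
  by_contra hbot
  haveI := hG.2.1
  haveI : Nonempty {pr : Sylow p G × Sylow p G //
      pr.1 ≠ pr.2 ∧ (pr.1 : Subgroup G) ⊓ (pr.2 : Subgroup G) ≠ ⊥} :=
    ⟨⟨(Q₁, Q₂), hne, hbot⟩⟩
  obtain ⟨⟨⟨R₁, R₂⟩, hR, hRbot⟩, hmaxR⟩ := Finite.exists_max
    (fun pr : {pr : Sylow p G × Sylow p G //
      pr.1 ≠ pr.2 ∧ (pr.1 : Subgroup G) ⊓ (pr.2 : Subgroup G) ≠ ⊥} =>
      Nat.card ((pr.1.1 : Subgroup G) ⊓ (pr.1.2 : Subgroup G) : Subgroup G))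
  have hR : R₁ ≠ R₂ := hR
  have hRbot : (R₁ : Subgroup G) ⊓ (R₂ : Subgroup G) ≠ ⊥ := hRbot
  have hmax' : ∀ T₁ T₂ : Sylow p G, T₁ ≠ T₂ → (T₁ : Subgroup G) ⊓ (T₂ : Subgroup G) ≠ ⊥ →
      Nat.card ((T₁ : Subgroup G) ⊓ (T₂ : Subgroup G) : Subgroup G) ≤
        Nat.card ((R₁ : Subgroup G) ⊓ (R₂ : Subgroup G) : Subgroup G) :=
    fun T₁ T₂ h1 h2 => hmaxR ⟨(T₁, T₂), h1, h2⟩
  clear hmaxR
  generalize hD : (R₁ : Subgroup G) ⊓ (R₂ : Subgroup G) = D at hRbot hmax'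
  have hDR₁ : D ≤ R₁ := by rw [← hD]; exact inf_le_left
  have hDR₂ : D ≤ R₂ := by rw [← hD]; exact inf_le_right
  have hD1 : D < (R₁ : Subgroup G) := by
    refine lt_of_le_of_ne hDR₁ (fun h => hR ?_)
    have hle : (R₁ : Subgroup G) ≤ R₂ := by rw [← h]; exact hDR₂
    exact Sylow.ext (R₁.is_maximal' R₂.isPGroup' hle).symm
  have hD2 : D < (R₂ : Subgroup G) := by
    refine lt_of_le_of_ne hDR₂ (fun h => hR ?_)
    have hle : (R₂ : Subgroup G) ≤ R₁ := by rw [← h]; exact hDR₁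
    exact Sylow.ext (R₂.is_maximal' R₁.isPGroup' hle)
  obtain ⟨u₁, hu₁R, hu₁D, hu₁N⟩ := exists_mem_normalizer_not_mem R₁.isPGroup' hD1
  obtain ⟨u₂, hu₂R, hu₂D, hu₂N⟩ := exists_mem_normalizer_not_mem R₂.isPGroup' hD2
  have hNtop : Subgroup.normalizer (D : Set G) ≠ ⊤ := by
    intro h
    have hn : D.Normal := Subgroup.normalizer_eq_top_iff.mp h
    rcases hn.eq_bot_or_eq_top with h1 | h1
    · exact hRbot h1
    · apply hD1.ne
      exact le_antisymm hD1.le (by rw [h1]; exact le_top)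
  obtain ⟨M₁, hM₁, hNM⟩ := (eq_top_or_exists_le_coatom _).resolve_left hNtop
  obtain ⟨d, hdD, hd1⟩ := D.bot_or_exists_ne_one.resolve_left hRbot
  have hDN : D ≤ Subgroup.normalizer (D : Set G) := Subgroup.le_normalizer
  obtain ⟨Q₃, h31, h32⟩ := ms_exists_sylow_ge hG hCN hM₁ p
    (S₁ := (R₁ : Subgroup G) ⊓ Subgroup.normalizer (D : Set G))
    (S₂ := (R₂ : Subgroup G) ⊓ Subgroup.normalizer (D : Set G))
    (R₁.isPGroup'.to_le inf_le_left) (R₂.isPGroup'.to_le inf_le_left)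
    (inf_le_right.trans hNM) (inf_le_right.trans hNM) (d := d)
    ⟨hD1.le hdD, hDN hdD⟩ ⟨hD2.le hdD, hDN hdD⟩ hd1
  have hQR : ∀ (R : Sylow p G) (u : G), D ≤ R → u ∈ R → u ∉ D →
      u ∈ Subgroup.normalizer (D : Set G) →
      (R : Subgroup G) ⊓ Subgroup.normalizer (D : Set G) ≤ Q₃ → Q₃ = R := by
    intro R u hDR huR huD huN hle
    by_contra hne3
    have hDle : D ≤ (Q₃ : Subgroup G) ⊓ (R : Subgroup G) :=
      le_inf (fun x hx => hle ⟨hDR hx, hDN hx⟩) hDR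
    have hbot3 : (Q₃ : Subgroup G) ⊓ (R : Subgroup G) ≠ ⊥ := by
      intro h
      rw [h, le_bot_iff] at hDle
      exact hRbot hDle
    have hcard := hmax' Q₃ R hne3 hbot3
    have heq := Subgroup.eq_of_le_of_card_ge hDle hcard
    apply huD
    rw [heq]
    exact ⟨hle ⟨huR, huN⟩, huR⟩
  have e1 := hQR R₁ u₁ hD1.le hu₁R hu₁D hu₁N h31
  have e2 := hQR R₂ u₂ hD2.le hu₂R hu₂D hu₂N h32
  exact hR (e1.symm.trans e2)

/-- **Maximal nilpotent subgroups are TI.** -/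
theorem ms_maxNilp_TI (hG : IsMinSimpleOddOrder G) (hCN : IsCNGroup G) {H : Subgroup G}
    (hH : Group.IsNilpotent H)
    (hmax : ∀ L : Subgroup G, Group.IsNilpotent L → H ≤ L → L = H) :
    ∀ g : G, H.map (MulAut.conj g).toMonoidHom ≠ H →
      H ⊓ H.map (MulAut.conj g).toMonoidHom = ⊥ := by
  obtain ⟨-, h2, -⟩ := Cfsg.Agent.S1477.result hCN H hH hmax
  by_cases hpp : IsPrimePow (Nat.card H)
  · obtain ⟨p, k, hp, hk, hcard⟩ := hpp
    haveI : Fact p.Prime := ⟨Nat.prime_iff.mpr hp⟩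
    have hHp : IsPGroup p H := IsPGroup.of_card hcard.symm
    obtain ⟨Q, hQ⟩ := hHp.exists_le_sylow
    have hHQ : (Q : Subgroup G) = H := hmax Q Q.isPGroup'.isNilpotent hQ
    intro g hg
    have hmap : H.map (MulAut.conj g).toMonoidHom = ((g • Q : Sylow p G) : Subgroup G) := by
      ext a
      rw [mem_map_conj, mem_sylow_smul, hHQ]
    rw [hmap, ← hHQ]
    apply ms_sylow_TI hG hCN p
    intro h
    apply hg
    rw [hmap, ← h, hHQ]
  · by_cases h1 : Nat.card H = 1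
    · intro g _
      rw [Subgroup.card_eq_one.mp h1, bot_inf_eq]
    · exact h2 hpp h1

theorem ms_normalizer_fho (hG : IsMinSimpleOddOrder G) (hCN : IsCNGroup G) {M : Subgroup G}
    (hM : IsCoatom M) : Subgroup.normalizer (fittingHallOf M : Set G) = M := by
  refine (hM.le_iff.mp (le_normalizer_fho M)).resolve_left ?_
  intro h
  haveI := hG.2.1
  have hn : (fittingHallOf M).Normal := Subgroup.normalizer_eq_top_iff.mp h
  rcases hn.eq_bot_or_eq_top with h1 | h1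
  · exact ms_fho_ne_bot hG hCN hM h1
  · apply hM.1
    rw [eq_top_iff, ← h1]
    exact fho_le M

/-- the kernel of a maximal subgroup `M` is the only maximal nilpotent subgroup normalized
by `M` -/
theorem ms_fho_unique (hG : IsMinSimpleOddOrder G) (hCN : IsCNGroup G) {M : Subgroup G}
    (hM : IsCoatom M) {L : Subgroup G} (hL : Group.IsNilpotent L)
    (hmax : ∀ L' : Subgroup G, Group.IsNilpotent L' → L ≤ L' → L' = L)
    (hML : M ≤ Subgroup.normalizer (L : Set G)) : L = fittingHallOf M := by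
  obtain ⟨M', hM', hLM'⟩ := ms_maxNilp_eq_fho hG hCN hL hmax
  have h1 : Subgroup.normalizer (L : Set G) = M' := by
    rw [hLM']
    exact ms_normalizer_fho hG hCN hM'
  rw [h1] at hML
  rcases hM.le_iff.mp hML with h | h
  · exact (hM'.1 h).elim
  · rw [hLM', h]

theorem ms_fho_map_conj (hG : IsMinSimpleOddOrder G) (hCN : IsCNGroup G) {M : Subgroup G}
    (hM : IsCoatom M) (g : G) :
    fittingHallOf (M.map (MulAut.conj g).toMonoidHom) =
      (fittingHallOf M).map (MulAut.conj g).toMonoidHom := by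
  symm
  apply ms_fho_unique hG hCN (isCoatom_map_conj hM g)
    (isNilpotent_map_conj (ms_fho_nilpotent hG hCN hM) g)
    (maxNilp_map_conj (ms_fho_maxNilp hG hCN hM) g)
  intro x hx
  rw [mem_map_conj] at hx
  rw [Subgroup.mem_normalizer_iff]
  intro h
  change h ∈ (fittingHallOf M).map (MulAut.conj g).toMonoidHom ↔
    x * h * x⁻¹ ∈ (fittingHallOf M).map (MulAut.conj g).toMonoidHom
  rw [mem_map_conj, mem_map_conj]
  have e : g⁻¹ * (x * h * x⁻¹) * g = (g⁻¹ * x * g) * (g⁻¹ * h * g) * (g⁻¹ * x * g)⁻¹ := by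
    group
  rw [e]
  constructor
  · exact fho_conj_mem hx
  · intro hh
    have h1 := fho_conj_mem (M.inv_mem hx) hh
    have e2 : (g⁻¹ * x * g)⁻¹ * ((g⁻¹ * x * g) * (g⁻¹ * h * g) * (g⁻¹ * x * g)⁻¹) *
        (g⁻¹ * x * g)⁻¹⁻¹ = g⁻¹ * h * g := by group
    rwa [e2] at h1

end

end Cfsg.Agent.Lib.Helper34
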