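import Mathlib
import Cfsg.Agent.Lib.Helper34.MS5

/-!
# Counting lemmas for the kernels of the maximal subgroups
-/

set_option autoImplicit false

namespace Cfsg.Agent.Lib.Helper34

open Cfsg

open scoped Pointwise

universe u v

section

variable {G : Type u} [Group G]

theorem exists_mul_of_mem_sup_normal {K A : Subgroup G} [K.Normal] {c : G} (h : c ∈ K ⊔ A) :
    ∃ k ∈ K, ∃ a ∈ A, k * a = c := by
  have hmul : ((K ⊔ A : Subgroup G) : Set G) = (K : Set G) * (A : Set G) :=
    Subgroup.normal_mul K A
  have h' : c ∈ (K : Set G) * (A : Set G) := by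
    rw [← hmul]
    exact h
  obtain ⟨k, hk, a, ha, hka⟩ := Set.mem_mul.mp h'
  exact ⟨k, hk, a, ha, hka⟩

/-- a product of pairwise coprime divisors of `n` divides `n` -/
theorem prod_dvd_of_pairwise_coprime {ι : Type*} (s : Finset ι) (f : ι → ℕ) (n : ℕ)
    (hdvd : ∀ i ∈ s, f i ∣ n)
    (hcop : ∀ i ∈ s, ∀ j ∈ s, i ≠ j → (f i).Coprime (f j)) : ∏ i ∈ s, f i ∣ n := by
  classical
  induction s using Finset.induction_on with
  | empty => simp
  | insert a s ha ih =>
    rw [Finset.prod_insert ha]
    apply Nat.Coprime.mul_dvd_of_dvd_of_dvd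
    · apply Nat.Coprime.prod_right
      intro i hi
      exact hcop a (Finset.mem_insert_self a s) i (Finset.mem_insert_of_mem hi)
        (fun h => ha (h ▸ hi))
    · exact hdvd a (Finset.mem_insert_self a s)
    · exact ih (fun i hi => hdvd i (Finset.mem_insert_of_mem hi))
        (fun i hi j hj hij => hcop i (Finset.mem_insert_of_mem hi) j
          (Finset.mem_insert_of_mem hj) hij)

end

end Cfsg.Agent.Lib.Helper34
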