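import Mathlib
import Cfsg.Agent.Lib.Helper34.MS6

/-!
# CN-groups of odd order: reduction of solvability to the minimal simple case
-/

set_option autoImplicit false

namespace Cfsg.Agent.Lib.Helper34

open Cfsg

universe u v

section

variable {G : Type u} [Group G] [Finite G]

omit [Finite G] in
theorem solvable_of_normal_of_quotient (K : Subgroup G) [K.Normal] (h1 : Group.IsSolvable ↥K)
    (h2 : Group.IsSolvable (G ⧸ K)) : Group.IsSolvable G := by
  haveI := h1
  haveI := h2
  refine Group.isSolvable_of_ker_le_range K.subtype (QuotientGroup.mk' K) ?_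
  rw [QuotientGroup.ker_mk', Subgroup.range_subtype]

theorem isSolvable_of_isPGroup {p : ℕ} [Fact p.Prime] {K : Subgroup G} (hK : IsPGroup p K) :
    Group.IsSolvable ↥K := by
  haveI : Group.IsNilpotent ↥K := hK.isNilpotent
  infer_instance

/-- a group with a nontrivial normal Sylow subgroup all of whose proper subgroups are solvable
is solvable -/
theorem solvable_of_normal_sylow (hsub : ∀ H : Subgroup G, H ≠ ⊤ → Group.IsSolvable ↥H) (p : ℕ)
    [Fact p.Prime] (P : Sylow p G) (hP1 : (P : Subgroup G) ≠ ⊥)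
    (hPn : (P : Subgroup G).Normal) : Group.IsSolvable G := by
  haveI := hPn
  obtain ⟨H, hH⟩ := Subgroup.exists_right_complement'_of_coprime P.card_coprime_index
  have hcardH : Nat.card H = (P : Subgroup G).index := (hH.symm.index_eq_card).symm
  have hHtop : H ≠ ⊤ := by
    intro h
    apply hP1
    rw [h, Subgroup.card_top] at hcardH
    have h2 := Subgroup.card_mul_index (P : Subgroup G)
    rw [← hcardH] at h2
    have h3 : Nat.card (P : Subgroup G) = 1 := by
      have hpos : 0 < Nat.card G := Nat.card_pos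
      exact Nat.eq_of_mul_eq_mul_right hpos (by rw [h2, one_mul])
    exact Subgroup.card_eq_one.mp h3
  haveI := hsub H hHtop
  have hq : Group.IsSolvable (G ⧸ (P : Subgroup G)) :=
    Group.isSolvable_of_surjective (f := hH.symm.QuotientMulEquiv.symm.toMonoidHom)
      (MulEquiv.surjective _)
  exact solvable_of_normal_of_quotient (P : Subgroup G) (isSolvable_of_isPGroup P.isPGroup') hq

theorem exists_pCore_ne_bot_of_solvable [Group.IsSolvable G] [Nontrivial G] :
    ∃ p : ℕ, p.Prime ∧ pCore p G ≠ ⊥ := by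
  have hF1 : fittingSubgroup G ≠ ⊥ := by
    intro h
    obtain ⟨x, hx⟩ := exists_ne (1 : G)
    apply hx
    have h2 : x ∈ Subgroup.centralizer (fittingSubgroup G : Set G) := by
      apply Subgroup.mem_centralizer_iff.mpr
      intro y hy
      rw [h] at hy
      have hy' : y = 1 := Subgroup.mem_bot.mp hy
      rw [hy']; group
    have h3 := solv_centralizer_fitting_le h2
    rwa [h, Subgroup.mem_bot] at h3
  obtain ⟨x, hxF, hx1⟩ := (fittingSubgroup G).bot_or_exists_ne_one.resolve_left hF1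
  obtain ⟨p, m, hp, hm⟩ := exists_pow_prime_order hx1
  haveI : Fact p.Prime := ⟨hp⟩
  have hxm1 : x ^ m ≠ 1 := ne_one_of_orderOf_prime hp hm
  have hxmP : x ^ m ∈ pCore p G := by
    apply mem_pCore_of_mem_fitting p _ ((fittingSubgroup G).pow_mem hxF m) 1
    rw [pow_one, ← hm, pow_orderOf_eq_one]
  refine ⟨p, hp, ?_⟩
  intro h
  rw [h] at hxmP
  exact hxm1 (Subgroup.mem_bot.mp hxmP)

theorem exists_normal_pgroup_of_normal_solvable (N : Subgroup G) [N.Normal]
    (hN : Group.IsSolvable ↥N) (hN1 : N ≠ ⊥) :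
    ∃ (p : ℕ) (_ : Fact p.Prime) (K : Subgroup G), K.Normal ∧ IsPGroup p K ∧ K ≠ ⊥ := by
  haveI := hN
  haveI : Nontrivial ↥N := (Subgroup.nontrivial_iff_ne_bot _).mpr hN1
  obtain ⟨p, hp, hne⟩ := exists_pCore_ne_bot_of_solvable (G := ↥N)
  haveI : Fact p.Prime := ⟨hp⟩
  haveI : (pCore p ↥N).Characteristic := Helper30.pCore_characteristic p
  refine ⟨p, ⟨hp⟩, (pCore p ↥N).map N.subtype, ConjAct.normal_of_characteristic_of_normal,
    (Helper30.pCore_isPGroup p).map _, ?_⟩
  intro h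
  exact hne ((Subgroup.map_eq_bot_iff_of_injective _ N.subtype_injective).mp h)

/-- In a CN-group, if a nontrivial `q`-element centralizes a nontrivial element of a normal
`p`-subgroup (`q ≠ p`), then the Sylow `q`-subgroup is normal. -/
theorem cn_normal_sylow_of_commute (hCN : IsCNGroup G) (p : ℕ) [Fact p.Prime] (K : Subgroup G)
    [hKn : K.Normal] (hK : IsPGroup p K) (q : ℕ) [Fact q.Prime] (hqp : q ≠ p) (y : G)
    (hy1 : y ≠ 1) (j : ℕ) (hy : y ^ (q ^ j) = 1) (k : G) (hkK : k ∈ K) (hk1 : k ≠ 1)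
    (hyk : y * k = k * y) :
    ∃ Q : Sylow q G, (Q : Subgroup G) ≠ ⊥ ∧ (Q : Subgroup G).Normal := by
  have hp : p.Prime := Fact.out
  have hq : q.Prime := Fact.out
  have hK1 : K ≠ ⊥ := fun h => hk1 (by rw [h] at hkK; exact Subgroup.mem_bot.mp hkK)
  have hcop : ∀ a b : ℕ, Nat.Coprime (q ^ a) (p ^ b) := fun a b =>
    Nat.Coprime.pow _ _ ((Nat.coprime_primes hq hp).mpr hqp)
  obtain ⟨z, hzK, hz1, hzc⟩ := exists_center_elt p K hK hK1
  obtain ⟨iz, hiz⟩ := exists_pow_of_mem_pgroup p K hK z hzK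
  have hyz : y * z = z * y :=
    commute_of_nilpotent_of_pow (hCN k hk1) (mem_centralizer_singleton.mpr hyk.symm)
      (mem_centralizer_singleton.mpr (hzc k hkK)) _ _ (hcop j iz) hy hiz
  have hqK : ∀ x : G, ∀ i : ℕ, x ^ (q ^ i) = 1 → z * x = x * z → ∀ u ∈ K, x * u = u * x := by
    intro x i hx hzx u hu
    obtain ⟨iu, hiu⟩ := exists_pow_of_mem_pgroup p K hK u hu
    exact commute_of_nilpotent_of_pow (hCN z hz1) (mem_centralizer_singleton.mpr hzx)
      (mem_centralizer_singleton.mpr (hzc u hu).symm) _ _ (hcop i iu) hx hiu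
  have hCmem : ∀ x : G, x ∈ Subgroup.centralizer (K : Set G) ↔ ∀ u ∈ K, u * x = x * u :=
    fun x => Subgroup.mem_centralizer_iff
  have hCn : (Subgroup.centralizer (K : Set G)).Normal := by
    refine ⟨fun c hc g => ?_⟩
    rw [hCmem] at hc ⊢
    intro u hu
    have h1 := hc (g⁻¹ * u * g) (by
      have h2 := hKn.conj_mem u hu g⁻¹
      rwa [inv_inv] at h2)
    calc u * (g * c * g⁻¹) = g * ((g⁻¹ * u * g) * c) * g⁻¹ := by group
      _ = g * (c * (g⁻¹ * u * g)) * g⁻¹ := by rw [h1]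
      _ = (g * c * g⁻¹) * u := by group
  have hCnil : Group.IsNilpotent ↥(Subgroup.centralizer (K : Set G)) :=
    cn_nilpotent_of_central hCN _ z hz1 (fun d hd => ((hCmem d).mp hd z hzK).symm)
  haveI := hCnil
  let T : Sylow q ↥(Subgroup.centralizer (K : Set G)) := default
  have hTn : (T : Subgroup ↥(Subgroup.centralizer (K : Set G))).Normal :=
    Sylow.normal_of_normalizerCondition normalizerCondition_of_isNilpotent T
  have hyC : y ∈ Subgroup.centralizer (K : Set G) :=
    (hCmem y).mpr (fun u hu => (hqK y j hy hyz.symm u hu).symm)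
  have hVq : IsPGroup q ((T : Subgroup ↥(Subgroup.centralizer (K : Set G))).map
      (Subgroup.centralizer (K : Set G)).subtype) := T.isPGroup'.map _
  have hVmem : ∀ x : G, ∀ i : ℕ, x ^ (q ^ i) = 1 → x ∈ Subgroup.centralizer (K : Set G) →
      x ∈ (T : Subgroup ↥(Subgroup.centralizer (K : Set G))).map
        (Subgroup.centralizer (K : Set G)).subtype := fun x i hxi hx =>
    ⟨⟨x, hx⟩, mem_normal_sylow q T hTn ⟨x, hx⟩ i (Subtype.ext (by simpa using hxi)), rfl⟩
  have hVC : (T : Subgroup ↥(Subgroup.centralizer (K : Set G))).map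
      (Subgroup.centralizer (K : Set G)).subtype ≤ Subgroup.centralizer (K : Set G) :=
    Subgroup.map_subtype_le _
  generalize hVdef : (T : Subgroup ↥(Subgroup.centralizer (K : Set G))).map
      (Subgroup.centralizer (K : Set G)).subtype = V at hVq hVmem hVC
  have hV1 : V ≠ ⊥ := fun h => hy1 (by
    have h2 := hVmem y j hy hyC
    rw [h] at h2
    exact Subgroup.mem_bot.mp h2)
  have hVn : V.Normal := by
    refine ⟨fun v hv g => ?_⟩
    obtain ⟨i, hi⟩ := exists_pow_of_mem_pgroup q V hVq v hv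
    exact hVmem _ i (by rw [conj_pow, hi]; group) (hCn.conj_mem v (hVC hv) g)
  have hall : ∀ x : G, ∀ i : ℕ, x ^ (q ^ i) = 1 → x ∈ V := by
    intro x i hx
    haveI := hVn
    obtain ⟨w, hwV, hw1, hwx⟩ := exists_fixed_of_pelement q V hVq hV1 x i hx
    have hwK : ∀ u ∈ K, u * w = w * u := (hCmem w).mp (hVC hwV)
    apply hVmem x i hx
    rw [hCmem]
    intro u hu
    obtain ⟨iu, hiu⟩ := exists_pow_of_mem_pgroup p K hK u hu
    exact (commute_of_nilpotent_of_pow (hCN w hw1) (mem_centralizer_singleton.mpr hwx)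
      (mem_centralizer_singleton.mpr (hwK u hu).symm) _ _ (hcop i iu) hx hiu).symm
  obtain ⟨Q, hQ⟩ := hVq.exists_le_sylow
  have hQV : (Q : Subgroup G) = V := by
    apply le_antisymm _ hQ
    intro x hx
    obtain ⟨i, hi⟩ := exists_pow_of_mem_sylow q Q x hx
    exact hall x i hi
  exact ⟨Q, by rw [hQV]; exact hV1, by rw [hQV]; exact hVn⟩

omit [Finite G] in
theorem exists_lift_prime_order (p : ℕ) [Fact p.Prime] (K : Subgroup G) [K.Normal]
    (hK : IsPGroup p K) (r : ℕ) (hr : r.Prime) (hrp : r ≠ p) (ybar : G ⧸ K)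
    (hy : orderOf ybar = r) : ∃ y : G, QuotientGroup.mk' K y = ybar ∧ y ^ r = 1 := by
  have hp : p.Prime := Fact.out
  obtain ⟨y₀, rfl⟩ := QuotientGroup.mk'_surjective K ybar
  have h0 : (QuotientGroup.mk' K y₀) ^ r = 1 := by
    rw [← hy]
    exact pow_orderOf_eq_one _
  have h1 : y₀ ^ r ∈ K := by
    rw [← QuotientGroup.eq_one_iff]
    rw [← map_pow] at h0
    exact h0
  obtain ⟨j, hj⟩ := exists_pow_of_mem_pgroup p K hK _ h1
  have hcop : Nat.Coprime (p ^ j) r :=
    Nat.Coprime.pow_left j ((Nat.coprime_primes hp hr).mpr (Ne.symm hrp))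
  obtain ⟨u, -, hu⟩ := Nat.exists_mul_mod_eq_one_of_coprime hcop hr.one_lt
  refine ⟨y₀ ^ (p ^ j * u), ?_, ?_⟩
  · rw [map_pow, ← pow_mod_orderOf, hy, hu, pow_one]
  · calc (y₀ ^ (p ^ j * u)) ^ r = ((y₀ ^ r) ^ (p ^ j)) ^ u := by
          rw [← pow_mul, ← pow_mul, ← pow_mul]
          congr 1
          ring
      _ = 1 := by rw [hj, one_pow]

/-- conjugacy in a coset of `K` under an element acting without fixed points on `K` -/
theorem exists_conj_of_fpf (K : Subgroup G) [hKn : K.Normal] (y : G)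
    (hfp : ∀ k ∈ K, y * k = k * y → k = 1) (g : G) (hg : g * y * g⁻¹ * y⁻¹ ∈ K) :
    ∃ k ∈ K, g * y * g⁻¹ = k * y * k⁻¹ := by
  let f : ↥K → ↥K := fun k => ⟨(k : G) * y * (k : G)⁻¹ * y⁻¹, by
    have h1 : y * (k : G)⁻¹ * y⁻¹ ∈ K := hKn.conj_mem _ (K.inv_mem k.2) y
    have e : (k : G) * y * (k : G)⁻¹ * y⁻¹ = (k : G) * (y * (k : G)⁻¹ * y⁻¹) := by group
    rw [e]
    exact K.mul_mem k.2 h1⟩
  have hinj : Function.Injective f := by
    intro k k' hkk
    have h1 : (k : G) * y * (k : G)⁻¹ * y⁻¹ = (k' : G) * y * (k' : G)⁻¹ * y⁻¹ :=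
      congrArg Subtype.val hkk
    have h3 : (k : G) * y * (k : G)⁻¹ = (k' : G) * y * (k' : G)⁻¹ := by
      have h4 := congrArg (· * y) h1
      simpa using h4
    have h2 : (k' : G)⁻¹ * (k : G) = 1 := by
      apply hfp _ (K.mul_mem (K.inv_mem k'.2) k.2)
      calc y * ((k' : G)⁻¹ * (k : G))
          = (k' : G)⁻¹ * ((k' : G) * y * (k' : G)⁻¹) * (k : G) := by group
        _ = (k' : G)⁻¹ * ((k : G) * y * (k : G)⁻¹) * (k : G) := by rw [h3]
        _ = (k' : G)⁻¹ * (k : G) * y := by group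
    apply Subtype.ext
    have e : (k : G) = (k' : G) * ((k' : G)⁻¹ * (k : G)) := by group
    rw [e, h2, mul_one]
  obtain ⟨k₀, hk₀⟩ := Finite.surjective_of_injective hinj ⟨_, hg⟩
  have h1 : (k₀ : G) * y * (k₀ : G)⁻¹ * y⁻¹ = g * y * g⁻¹ * y⁻¹ := congrArg Subtype.val hk₀
  refine ⟨k₀, k₀.2, ?_⟩
  have h4 := congrArg (· * y) h1
  simpa using h4.symm

/-- lifting centralizers of `p'`-elements of prime order modulo a normal `p`-subgroup on which
they act without fixed points -/
theorem cn_quot_centralizer_lift (p : ℕ) [Fact p.Prime] (K : Subgroup G) [hKn : K.Normal]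
    (hK : IsPGroup p K)
    (hfpf : ∀ y : G, y ≠ 1 → ∀ q : ℕ, q.Prime → q ≠ p → y ^ q = 1 →
      ∀ k ∈ K, y * k = k * y → k = 1)
    (r : ℕ) (hr : r.Prime) (hrp : r ≠ p) (ybar : G ⧸ K) (hy : orderOf ybar = r) :
    ∃ y : G, y ≠ 1 ∧ y ^ r = 1 ∧ QuotientGroup.mk' K y = ybar ∧
      ∀ g : G, QuotientGroup.mk' K g ∈ Subgroup.centralizer ({ybar} : Set (G ⧸ K)) →
        ∃ c ∈ Subgroup.centralizer ({y} : Set G),
          QuotientGroup.mk' K c = QuotientGroup.mk' K g := by
  obtain ⟨y, hyb, hyr⟩ := exists_lift_prime_order p K hK r hr hrp ybar hy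
  have hy1 : y ≠ 1 := by
    rintro rfl
    rw [map_one] at hyb
    rw [← hyb, orderOf_one] at hy
    exact hr.one_lt.ne hy
  refine ⟨y, hy1, hyr, hyb, ?_⟩
  intro g hg
  have hcomm : ybar * QuotientGroup.mk' K g = QuotientGroup.mk' K g * ybar :=
    mem_centralizer_singleton.mp hg
  have hgK : g * y * g⁻¹ * y⁻¹ ∈ K := by
    rw [← QuotientGroup.eq_one_iff]
    have h1 : QuotientGroup.mk' K (g * y * g⁻¹ * y⁻¹) = 1 := by
      rw [map_mul, map_mul, map_mul, map_inv, map_inv, hyb, ← hcomm]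
      group
    exact h1
  obtain ⟨k, hkK, hk⟩ := exists_conj_of_fpf K y (hfpf y hy1 r hr hrp hyr) g hgK
  refine ⟨k⁻¹ * g, ?_, ?_⟩
  · apply mem_centralizer_singleton.mpr
    calc y * (k⁻¹ * g) = k⁻¹ * (k * y * k⁻¹) * g := by group
      _ = k⁻¹ * (g * y * g⁻¹) * g := by rw [hk]
      _ = k⁻¹ * g * y := by group
  · rw [map_mul, map_inv]
    have h1 : QuotientGroup.mk' K k = 1 := (QuotientGroup.eq_one_iff k).mpr hkK
    rw [h1, inv_one, one_mul]

theorem cn_quot_nilpotent_of_ne (hCN : IsCNGroup G) (p : ℕ) [Fact p.Prime] (K : Subgroup G)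
    [hKn : K.Normal] (hK : IsPGroup p K)
    (hfpf : ∀ y : G, y ≠ 1 → ∀ q : ℕ, q.Prime → q ≠ p → y ^ q = 1 →
      ∀ k ∈ K, y * k = k * y → k = 1)
    (r : ℕ) (hr : r.Prime) (hrp : r ≠ p) (ybar : G ⧸ K) (hy : orderOf ybar = r) :
    Group.IsNilpotent ↥(Subgroup.centralizer ({ybar} : Set (G ⧸ K))) := by
  obtain ⟨y, hy1, hyr, hyb, hlift⟩ := cn_quot_centralizer_lift p K hK hfpf r hr hrp ybar hy
  haveI := hCN y hy1
  let φ : ↥(Subgroup.centralizer ({y} : Set G)) →*
      ↥(Subgroup.centralizer ({ybar} : Set (G ⧸ K))) :=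
    { toFun := fun c => ⟨QuotientGroup.mk' K (c : G), by
        apply mem_centralizer_singleton.mpr
        rw [← hyb, ← map_mul, ← map_mul, mem_centralizer_singleton.mp c.2]⟩
      map_one' := Subtype.ext (map_one _)
      map_mul' := fun a b => Subtype.ext (map_mul _ _ _) }
  have hsurj : Function.Surjective φ := by
    rintro ⟨gbar, hgbar⟩
    obtain ⟨g, rfl⟩ := QuotientGroup.mk'_surjective K gbar
    obtain ⟨c, hc, hcg⟩ := hlift g hgbar
    exact ⟨⟨c, hc⟩, Subtype.ext hcg⟩
  exact Group.nilpotent_of_surjective φ hsurj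

theorem cn_quot_nilpotent_of_eq (hCN : IsCNGroup G) (p : ℕ) [Fact p.Prime] (K : Subgroup G)
    [hKn : K.Normal] (hK : IsPGroup p K) (hK1 : K ≠ ⊥)
    (hfpf : ∀ y : G, y ≠ 1 → ∀ q : ℕ, q.Prime → q ≠ p → y ^ q = 1 →
      ∀ k ∈ K, y * k = k * y → k = 1)
    (ybar : G ⧸ K) (hy : orderOf ybar = p) :
    Group.IsNilpotent ↥(Subgroup.centralizer ({ybar} : Set (G ⧸ K))) := by
  have hp : p.Prime := Fact.out
  suffices h : IsPGroup p ↥(Subgroup.centralizer ({ybar} : Set (G ⧸ K))) from h.isNilpotent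
  by_contra hnp
  obtain ⟨s, hs, hsd, hsp⟩ := exists_other_prime_of_not_isPGroup hnp
  haveI : Fact s.Prime := ⟨hs⟩
  obtain ⟨wbar', hw'⟩ := exists_prime_orderOf_dvd_card' s hsd
  have hwo : orderOf ((wbar' : G ⧸ K)) = s := by
    rw [Subgroup.orderOf_coe]
    exact hw'
  obtain ⟨w, hw1, hws, hwb, hlift⟩ := cn_quot_centralizer_lift p K hK hfpf s hs hsp _ hwo
  obtain ⟨y₀, rfl⟩ := QuotientGroup.mk'_surjective K ybar
  have hyw : QuotientGroup.mk' K y₀ ∈
      Subgroup.centralizer ({(wbar' : G ⧸ K)} : Set (G ⧸ K)) := by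
    apply mem_centralizer_singleton.mpr
    exact (mem_centralizer_singleton.mp wbar'.2).symm
  obtain ⟨c, hc, hcy⟩ := hlift y₀ hyw
  have hc0 : orderOf c ≠ 0 := (orderOf_pos c).ne'
  have hc₁pow : (c ^ (ordCompl[p] (orderOf c))) ^ (p ^ (orderOf c).factorization p) = 1 := by
    rw [← pow_mul, mul_comm, Nat.ordProj_mul_ordCompl_eq_self, pow_orderOf_eq_one]
  have hc₁K : c ^ (ordCompl[p] (orderOf c)) ∉ K := by
    intro h
    have h1 : (QuotientGroup.mk' K y₀) ^ (ordCompl[p] (orderOf c)) = 1 := by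
      rw [← hcy, ← map_pow]
      exact (QuotientGroup.eq_one_iff _).mpr h
    have h2 := orderOf_dvd_of_pow_eq_one h1
    rw [hy] at h2
    exact Nat.not_dvd_ordCompl hp hc0 h2
  have hc₁1 : c ^ (ordCompl[p] (orderOf c)) ≠ 1 := fun h => hc₁K (by rw [h]; exact K.one_mem)
  have hc₁w : w * c ^ (ordCompl[p] (orderOf c)) = c ^ (ordCompl[p] (orderOf c)) * w := by
    have h1 : Commute w c := mem_centralizer_singleton.mp hc
    exact h1.pow_right _
  obtain ⟨k₁, hk₁K, hk₁1, hk₁c⟩ := exists_fixed_of_pelement p K hK hK1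
    (c ^ (ordCompl[p] (orderOf c))) _ hc₁pow
  obtain ⟨ik, hik⟩ := exists_pow_of_mem_pgroup p K hK k₁ hk₁K
  have hwk : w * k₁ = k₁ * w :=
    commute_of_nilpotent_of_pow (hCN _ hc₁1) (mem_centralizer_singleton.mpr hc₁w.symm)
      (mem_centralizer_singleton.mpr hk₁c.symm) s (p ^ ik)
      (Nat.Coprime.pow_right ik ((Nat.coprime_primes hs hp).mpr hsp)) hws hik
  exact hk₁1 (hfpf w hw1 s hs hsp hws k₁ hk₁K hwk)

/-- If every `p'`-element of prime order acts without fixed points on the nontrivial normal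
`p`-subgroup `K` of the CN-group `G`, then `G / K` is a CN-group. -/
theorem cn_quotient_of_fpf (hCN : IsCNGroup G) (p : ℕ) [Fact p.Prime] (K : Subgroup G)
    [hKn : K.Normal] (hK : IsPGroup p K) (hK1 : K ≠ ⊥)
    (hfpf : ∀ y : G, y ≠ 1 → ∀ q : ℕ, q.Prime → q ≠ p → y ^ q = 1 →
      ∀ k ∈ K, y * k = k * y → k = 1) : IsCNGroup (G ⧸ K) := by
  intro xbar hx
  obtain ⟨r, m, hr, hm⟩ := exists_pow_prime_order hx
  have hnil : Group.IsNilpotent ↥(Subgroup.centralizer ({xbar ^ m} : Set (G ⧸ K))) := by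
    by_cases hrp : r = p
    · rw [hrp] at hm
      exact cn_quot_nilpotent_of_eq hCN p K hK hK1 hfpf _ hm
    · exact cn_quot_nilpotent_of_ne hCN p K hK hfpf r hr hrp _ hm
  haveI := hnil
  have hle : Subgroup.centralizer ({xbar} : Set (G ⧸ K)) ≤
      Subgroup.centralizer ({xbar ^ m} : Set (G ⧸ K)) := by
    intro g hg
    apply mem_centralizer_singleton.mpr
    have h1 : Commute xbar g := mem_centralizer_singleton.mp hg
    exact h1.pow_left m
  exact Group.nilpotent_of_mulEquiv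
    (MonoidHom.ofInjective (Subgroup.inclusion_injective hle)).symm

end

/-- **Reduction.** If no minimal simple CN-group of odd order exists, every CN-group of odd
order is solvable. -/
theorem cn_odd_solvable_of_simple_case
    (hfinal : ∀ (G : Type u) [Group G] [Finite G], IsMinSimpleOddOrder G → IsCNGroup G → False) :
    ∀ (G : Type u) [Group G] [Finite G], Odd (Nat.card G) → IsCNGroup G →
      Group.IsSolvable G := by
  suffices H : ∀ n : ℕ, ∀ (G : Type u) [Group G] [Finite G], Nat.card G = n →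
      Odd (Nat.card G) → IsCNGroup G → Group.IsSolvable G from
    fun G _ _ hodd hCN => H _ G rfl hodd hCN
  intro n
  induction n using Nat.strong_induction_on with
  | _ n ih =>
    intro G _ _ hn hodd hCN
    have hsub : ∀ H : Subgroup G, H ≠ ⊤ → Group.IsSolvable ↥H := by
      intro H hH
      have hlt : Nat.card H < n := by
        rw [← hn]
        exact lt_of_le_of_ne (Subgroup.card_le_card_group H)
          (fun h => hH (Subgroup.eq_top_of_card_eq H h))
      exact ih _ hlt ↥H rfl (hodd.of_dvd_nat (Subgroup.card_subgroup_dvd_card H))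
        (fun g hg => cn_centralizer_subgroup_nilpotent hCN H g hg)
    by_cases hsimple : IsSimpleGroup G
    · by_cases hcomm : IsMulCommutative G
      · exact Group.isSolvable_of_comm (fun a b => hcomm.is_comm.comm a b)
      · exact (hfinal G ⟨hodd, hsimple, hcomm, hsub⟩ hCN).elim
    · by_cases htriv : Subsingleton G
      · infer_instance
      · haveI : Nontrivial G := not_subsingleton_iff_nontrivial.mp htriv
        obtain ⟨N, hNn, hN1, hNtop⟩ : ∃ N : Subgroup G, N.Normal ∧ N ≠ ⊥ ∧ N ≠ ⊤ := by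
          by_contra hcon
          push Not at hcon
          apply hsimple
          exact ⟨fun N hN => by
            by_cases h : N = ⊥
            · exact Or.inl h
            · exact Or.inr (hcon N hN h)⟩
        haveI := hNn
        obtain ⟨p, hp, K, hKn, hK, hK1⟩ :=
          exists_normal_pgroup_of_normal_solvable N (hsub N hNtop) hN1
        haveI := hp
        haveI := hKn
        by_cases hA : ∃ (q : ℕ) (_ : Fact q.Prime) (Q : Sylow q G),
            (Q : Subgroup G) ≠ ⊥ ∧ (Q : Subgroup G).Normal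
        · obtain ⟨q, hq, Q, hQ1, hQn⟩ := hA
          haveI := hq
          exact solvable_of_normal_sylow hsub q Q hQ1 hQn
        · have hfpf : ∀ y : G, y ≠ 1 → ∀ q : ℕ, q.Prime → q ≠ p → y ^ q = 1 →
              ∀ k ∈ K, y * k = k * y → k = 1 := by
            intro y hy1 q hq hqp hyq k hkK hyk
            by_contra hk1
            haveI : Fact q.Prime := ⟨hq⟩
            obtain ⟨Q, hQ1, hQn⟩ := cn_normal_sylow_of_commute hCN p K hK q hqp y hy1 1
              (by rw [pow_one]; exact hyq) k hkK hk1 hyk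
            exact hA ⟨q, ⟨hq⟩, Q, hQ1, hQn⟩
          have hCNq : IsCNGroup (G ⧸ K) := cn_quotient_of_fpf hCN p K hK hK1 hfpf
          have hcardq : Nat.card (G ⧸ K) < n := by
            rw [← hn, Subgroup.card_eq_card_quotient_mul_card_subgroup K]
            exact (Nat.lt_mul_iff_one_lt_right Nat.card_pos).mpr
              ((Subgroup.one_lt_card_iff_ne_bot K).mpr hK1)
          have hoddq : Odd (Nat.card (G ⧸ K)) :=
            hodd.of_dvd_nat (Subgroup.card_quotient_dvd_card K)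
          have hsolq : Group.IsSolvable (G ⧸ K) := ih _ hcardq (G ⧸ K) rfl hoddq hCNq
          exact solvable_of_normal_of_quotient K (isSolvable_of_isPGroup hK) hsolq

end Cfsg.Agent.Lib.Helper34
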