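import Mathlib
import Cfsg.Agent.Lib.Helper34.MS7
import Cfsg.Agent.S1484

/-!
# CN-groups of odd order are solvable, given the final character-theoretic contradiction
-/

set_option autoImplicit false

namespace Cfsg.Agent.Lib.Helper34

open Cfsg

universe u v

/-- representatives of the conjugacy classes of maximal subgroups -/
theorem exists_coatom_reps (G : Type u) [Group G] [Finite G] :
    ∃ (k : ℕ) (Mrep : Fin k → Subgroup G), (∀ i, IsCoatom (Mrep i)) ∧
      (∀ i j, i ≠ j → ∀ g : G, Mrep j ≠ (Mrep i).map (MulAut.conj g).toMonoidHom) ∧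
      ∀ M : Subgroup G, IsCoatom M →
        ∃ i, ∃ g : G, M = (Mrep i).map (MulAut.conj g).toMonoidHom := by
  let s : Setoid {M : Subgroup G // IsCoatom M} :=
    { r := fun M M' => ∃ g : G, M'.1 = M.1.map (MulAut.conj g).toMonoidHom
      iseqv :=
        { refl := fun M => ⟨1, by
            ext a
            rw [mem_map_conj]
            simp⟩
          symm := fun {M M'} ⟨g, hg⟩ => ⟨g⁻¹, by
            ext a
            rw [mem_map_conj (g := g⁻¹), hg, mem_map_conj (g := g)]
            have e : g⁻¹ * (g⁻¹⁻¹ * a * g⁻¹) * g = a := by group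
            rw [e]⟩
          trans := fun {M M' M''} ⟨g, hg⟩ ⟨h, hh⟩ => ⟨h * g, by
            ext a
            rw [mem_map_conj (g := h * g), hh, mem_map_conj (g := h), hg,
              mem_map_conj (g := g)]
            have e : g⁻¹ * (h⁻¹ * a * h) * g = (h * g)⁻¹ * a * (h * g) := by group
            rw [e]⟩ } }
  haveI : Finite (Quotient s) := inferInstance
  let e : Quotient s ≃ Fin (Nat.card (Quotient s)) := Finite.equivFin _
  refine ⟨Nat.card (Quotient s), fun i => (Quotient.out (e.symm i)).1,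
    fun i => (Quotient.out (e.symm i)).2, ?_, ?_⟩
  · intro i j hij g hg
    apply hij
    have h1 : s.r (Quotient.out (e.symm i)) (Quotient.out (e.symm j)) := ⟨g, hg⟩
    have h2 : (⟦Quotient.out (e.symm i)⟧ : Quotient s) = ⟦Quotient.out (e.symm j)⟧ :=
      Quotient.sound h1
    rw [Quotient.out_eq, Quotient.out_eq] at h2
    exact e.symm.injective h2
  · intro M hM
    refine ⟨e ⟦⟨M, hM⟩⟧, ?_⟩
    show ∃ g : G, M = ((e.symm (e ⟦⟨M, hM⟩⟧)).out).1.map (MulAut.conj g).toMonoidHom
    rw [Equiv.symm_apply_apply]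
    exact Quotient.mk_out (s := s) ⟨M, hM⟩

/-- the hypothesis of the final contradiction (the statement of `S1526` for `ι = Fin k`) -/
def FinalHyp (G : Type u) [Group G] : Prop :=
  ∀ (k : ℕ), 2 ≤ k → ∀ (L H : Fin k → Subgroup G), (∀ i, H i < L i) → (∀ i, H i ≠ ⊥) →
    (∀ i, ∀ x ∈ L i, ∀ h ∈ H i, x * h * x⁻¹ ∈ H i) →
    (∀ i, ∀ h ∈ H i, h ≠ 1 → L i ⊓ Subgroup.centralizer ({h} : Set G) ≤ H i) →
    (∀ i j, i ≠ j → Nat.Coprime (Nat.card (H i)) (Nat.card (H j))) →
    (∀ i, IsTISubset (H i : Set G) ∧ Subgroup.normalizer (H i : Set G) = L i) →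
    (∀ g : G, g ≠ 1 → ∃ i, ∃ x : G, x * g * x⁻¹ ∈ H i) → False

/-- a minimal simple CN-group of odd order satisfies the hypotheses of the final
contradiction -/
theorem ms_cn_false {G : Type u} [Group G] [Finite G] (hS : FinalHyp G)
    (hG : IsMinSimpleOddOrder G) (hCN : IsCNGroup G) : False := by
  obtain ⟨k, Mrep, hmax, hnc, hall⟩ := exists_coatom_reps G
  obtain ⟨hcop, hprod, hcover⟩ := Cfsg.Agent.S1484.result hG hCN k Mrep hmax hnc hall
  haveI := hG.2.1
  have hk : 2 ≤ k := by
    by_contra hk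
    have hk' : k = 0 ∨ k = 1 := by omega
    rcases hk' with rfl | rfl
    · rw [Fin.prod_univ_zero] at hprod
      have h1 := Finite.one_lt_card (α := G)
      omega
    · rw [Fin.prod_univ_one] at hprod
      have h1 : fittingHallOf (Mrep 0) = ⊤ := Subgroup.eq_top_of_card_eq _ hprod
      apply (hmax 0).1
      rw [eq_top_iff, ← h1]
      exact fho_le _
  refine hS k hk Mrep (fun i => fittingHallOf (Mrep i)) ?_ ?_ ?_ ?_ hcop ?_ ?_
  · intro i
    refine lt_of_le_of_ne (fho_le _) ?_
    intro h
    obtain ⟨-, htop, -⟩ := ms_coatom_structure hG hCN (hmax i)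
    apply htop
    rw [eq_top_iff]
    intro x _
    have hx : (x : G) ∈ fittingHallOf (Mrep i) := by
      rw [h]
      exact x.2
    obtain ⟨hx', hx''⟩ := mem_fho_iff.mp hx
    exact hx''
  · intro i
    exact ms_fho_ne_bot hG hCN (hmax i)
  · intro i x hx h hh
    exact fho_conj_mem hx hh
  · intro i h hh hh1
    have hnil := ms_fho_nilpotent hG hCN (hmax i)
    have hmx := ms_fho_maxNilp hG hCN (hmax i)
    exact inf_le_right.trans ((Cfsg.Agent.S1477.result hCN _ hnil hmx).2.2
      (ms_maxNilp_TI hG hCN hnil hmx) h hh hh1)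
  · intro i
    refine ⟨?_, ms_normalizer_fho hG hCN (hmax i)⟩
    intro g hg x hx hgx
    have hnil := ms_fho_nilpotent hG hCN (hmax i)
    have hmx := ms_fho_maxNilp hG hCN (hmax i)
    have hne : (fittingHallOf (Mrep i)).map (MulAut.conj g⁻¹).toMonoidHom ≠
        fittingHallOf (Mrep i) := by
      intro h
      apply hg
      rw [Subgroup.mem_normalizer_iff]
      intro a
      have h1 : a ∈ (fittingHallOf (Mrep i)).map (MulAut.conj g⁻¹).toMonoidHom ↔
          g * a * g⁻¹ ∈ fittingHallOf (Mrep i) := by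
        rw [mem_map_conj, inv_inv]
      rw [h] at h1
      exact h1
    have hbot := ms_maxNilp_TI hG hCN hnil hmx g⁻¹ hne
    have hmem : x ∈ fittingHallOf (Mrep i) ⊓
        (fittingHallOf (Mrep i)).map (MulAut.conj g⁻¹).toMonoidHom := by
      refine ⟨hx, ?_⟩
      apply mem_map_conj.mpr
      rw [inv_inv]
      exact hgx
    rw [hbot] at hmem
    exact Subgroup.mem_bot.mp hmem
  · intro g _
    exact hcover g

/-- **CN-theorem for odd order**, modulo the final contradiction. -/
theorem cn_odd_solvable_of_finalHyp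
    (hS : ∀ (G : Type u) [Group G] [Finite G], Odd (Nat.card G) → FinalHyp G) :
    ∀ (G : Type u) [Group G] [Finite G], Odd (Nat.card G) → IsCNGroup G →
      Group.IsSolvable G :=
  cn_odd_solvable_of_simple_case (fun G _ _ hG hCN => ms_cn_false (hS G hG.1) hG hCN)

end Cfsg.Agent.Lib.Helper34
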