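import Mathlib
import Cfsg.Prelude.Def_GeometricClasses
import Cfsg.Agent.Lib.Helper71.Asch0
import Cfsg.Agent.Lib.Helper71.Asch8

/-!
# S5630, piece MUE (B8): the easy lemmas MUT, MUC, MUI, MUS, INV on matrix units
(project of helper71, proofs by helper34)
-/

set_option autoImplicit false

namespace Cfsg.Agent.Lib.Helper34.ASMUE

open Matrix Cfsg.Geo Cfsg.Agent.Lib.Helper71.Asch

variable {n : ℕ} {F : Type*} [Field F] [Fintype F]

/-- MUT: transport of matrix units by conjugation. -/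
theorem MUT {m : ℕ} (N : Subgroup (GL (Fin n) F)) (U : Fin m → Fin m → Matrix (Fin n) (Fin n) F)
    (hU : IsMU N U) (h : GL (Fin n) F) :
    IsMU (N.map (MulAut.conj h).toMonoidHom)
      (fun a b => h.1 * U a b * (h⁻¹ : GL (Fin n) F).1) := by
  have hh1 : (h⁻¹ : GL (Fin n) F).1 * h.1 = 1 := by rw [← Units.val_mul, inv_mul_cancel]; rfl
  have hh2 : h.1 * (h⁻¹ : GL (Fin n) F).1 = 1 := by rw [← Units.val_mul, mul_inv_cancel]; rfl
  have hh1' : ∀ Z : Matrix (Fin n) (Fin n) F, (h⁻¹ : GL (Fin n) F).1 * (h.1 * Z) = Z := by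
    intro Z; rw [← mul_assoc, hh1, one_mul]
  have hh2' : ∀ Z : Matrix (Fin n) (Fin n) F, h.1 * ((h⁻¹ : GL (Fin n) F).1 * Z) = Z := by
    intro Z; rw [← mul_assoc, hh2, one_mul]
  -- `X` commutes with `h N h⁻¹` implies `h⁻¹ X h` commutes with `N`
  have key : ∀ X : Matrix (Fin n) (Fin n) F,
      (∀ x ∈ N.map (MulAut.conj h).toMonoidHom, X * x.1 = x.1 * X) →
      ∀ x ∈ N, ((h⁻¹ : GL (Fin n) F).1 * X * h.1) * x.1
        = x.1 * ((h⁻¹ : GL (Fin n) F).1 * X * h.1) := by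
    intro X hX x hx
    have h1 := hX (h * x * h⁻¹) ⟨x, hx, by simp [MulAut.conj_apply]⟩
    simp only [Units.val_mul] at h1
    calc (h⁻¹ : GL (Fin n) F).1 * X * h.1 * x.1
        = (h⁻¹ : GL (Fin n) F).1 * (X * (h.1 * x.1 * (h⁻¹ : GL (Fin n) F).1)) * h.1 := by
          simp only [mul_assoc, hh1, mul_one]
      _ = (h⁻¹ : GL (Fin n) F).1 * ((h.1 * x.1 * (h⁻¹ : GL (Fin n) F).1) * X) * h.1 := by rw [h1]
      _ = x.1 * ((h⁻¹ : GL (Fin n) F).1 * X * h.1) := by
          simp only [mul_assoc, hh1']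
  -- `Y` commutes with `N` implies `h Y h⁻¹` commutes with `h N h⁻¹`
  have key' : ∀ Y : Matrix (Fin n) (Fin n) F, (∀ x ∈ N, Y * x.1 = x.1 * Y) →
      ∀ x ∈ N.map (MulAut.conj h).toMonoidHom,
        (h.1 * Y * (h⁻¹ : GL (Fin n) F).1) * x.1 = x.1 * (h.1 * Y * (h⁻¹ : GL (Fin n) F).1) := by
    intro Y hY
    rintro _ ⟨x, hx, rfl⟩
    simp only [MulEquiv.coe_toMonoidHom, MulAut.conj_apply, Units.val_mul]
    calc h.1 * Y * (h⁻¹ : GL (Fin n) F).1 * (h.1 * x.1 * (h⁻¹ : GL (Fin n) F).1)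
        = h.1 * (Y * x.1) * (h⁻¹ : GL (Fin n) F).1 := by
          simp only [mul_assoc, hh1']
      _ = h.1 * (x.1 * Y) * (h⁻¹ : GL (Fin n) F).1 := by rw [hY x hx]
      _ = h.1 * x.1 * (h⁻¹ : GL (Fin n) F).1 * (h.1 * Y * (h⁻¹ : GL (Fin n) F).1) := by
          simp only [mul_assoc, hh1']
  refine ⟨?_, ?_, ?_, ?_⟩
  · intro a b c d
    calc h.1 * U a b * (h⁻¹ : GL (Fin n) F).1 * (h.1 * U c d * (h⁻¹ : GL (Fin n) F).1)
        = h.1 * (U a b * U c d) * (h⁻¹ : GL (Fin n) F).1 := by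
          simp only [mul_assoc, hh1']
      _ = _ := by
          rw [hU.mul]
          split_ifs
          · rfl
          · rw [mul_zero, zero_mul]
  · rw [← Finset.sum_mul, ← Finset.mul_sum, hU.sum, mul_one, hh2]
  · intro X hX a b
    have h1 := hU.dc _ (key X hX) a b
    calc h.1 * U a b * (h⁻¹ : GL (Fin n) F).1 * X
        = h.1 * (U a b * ((h⁻¹ : GL (Fin n) F).1 * X * h.1)) * (h⁻¹ : GL (Fin n) F).1 := by
          simp only [mul_assoc, hh2, mul_one]
      _ = h.1 * (((h⁻¹ : GL (Fin n) F).1 * X * h.1) * U a b) * (h⁻¹ : GL (Fin n) F).1 := by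
          rw [h1]
      _ = X * (h.1 * U a b * (h⁻¹ : GL (Fin n) F).1) := by
          simp only [mul_assoc, hh2']
  · intro X hX
    have h1 : ∀ Y : Matrix (Fin n) (Fin n) F, (∀ x ∈ N, Y * x.1 = x.1 * Y) →
        ((h⁻¹ : GL (Fin n) F).1 * X * h.1) * Y = Y * ((h⁻¹ : GL (Fin n) F).1 * X * h.1) := by
      intro Y hY
      have h3 := hX _ (key' Y hY)
      calc (h⁻¹ : GL (Fin n) F).1 * X * h.1 * Y
          = (h⁻¹ : GL (Fin n) F).1 * (X * (h.1 * Y * (h⁻¹ : GL (Fin n) F).1)) * h.1 := by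
            simp only [mul_assoc, hh1, mul_one]
        _ = (h⁻¹ : GL (Fin n) F).1 * ((h.1 * Y * (h⁻¹ : GL (Fin n) F).1) * X) * h.1 := by
            rw [h3]
        _ = Y * ((h⁻¹ : GL (Fin n) F).1 * X * h.1) := by
            simp only [mul_assoc, hh1']
    obtain ⟨c, hc⟩ := hU.span _ h1
    refine ⟨c, ?_⟩
    have h4 : X = h.1 * ((h⁻¹ : GL (Fin n) F).1 * X * h.1) * (h⁻¹ : GL (Fin n) F).1 := by
      simp only [mul_assoc, hh2, hh2', mul_one]
    rw [h4, hc]
    simp only [Finset.mul_sum, Finset.sum_mul, Matrix.mul_smul, Matrix.smul_mul]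

/-- MUC: matrix units of commuting subgroups commute. -/
theorem MUC {m m' : ℕ} (N N' : Subgroup (GL (Fin n) F))
    (U : Fin m → Fin m → Matrix (Fin n) (Fin n) F) (U' : Fin m' → Fin m' → Matrix (Fin n) (Fin n) F)
    (hU : IsMU N U) (hU' : IsMU N' U') (hc : ∀ x ∈ N, ∀ y ∈ N', x * y = y * x) :
    ∀ a b c d, U a b * U' c d = U' c d * U a b := by
  intro a b c d
  have h1 : ∀ y ∈ N', U a b * y.1 = y.1 * U a b := by
    intro y hy
    refine hU.dc y.1 (fun x hx => ?_) a b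
    rw [← Units.val_mul, ← Units.val_mul, hc x hx y hy]
  exact (hU'.dc (U a b) h1 c d).symm

/-- MUI: a subspace invariant under the matrix units is invariant under the group. -/
theorem MUI {m : ℕ} (N : Subgroup (GL (Fin n) F)) (U : Fin m → Fin m → Matrix (Fin n) (Fin n) F)
    (hU : IsMU N U) (W : Submodule F (Fin n → F))
    (hW : ∀ a b, W.map (Matrix.toLin' (U a b)) ≤ W) :
    ∀ x ∈ N, W.map (Matrix.toLin' x.1) ≤ W := by
  intro x hx
  obtain ⟨c, hc⟩ := hU.span x.1 (fun Y hY => (hY x hx).symm)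
  rw [hc]
  rintro _ ⟨v, hv, rfl⟩
  rw [Matrix.toLin'_apply, Matrix.sum_mulVec]
  refine Submodule.sum_mem _ (fun a _ => ?_)
  rw [Matrix.sum_mulVec]
  refine Submodule.sum_mem _ (fun b _ => ?_)
  rw [Matrix.smul_mulVec]
  refine Submodule.smul_mem _ _ ?_
  exact hW a b ⟨v, hv, by rw [Matrix.toLin'_apply]⟩

/-- MUS: conjugation maps the span of the matrix units of `N` into that of `N' = h N h⁻¹`. -/
theorem MUS {m m' : ℕ} (N N' : Subgroup (GL (Fin n) F))
    (U : Fin m → Fin m → Matrix (Fin n) (Fin n) F) (U' : Fin m' → Fin m' → Matrix (Fin n) (Fin n) F)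
    (hU : IsMU N U) (hU' : IsMU N' U') (h : GL (Fin n) F)
    (hh : N.map (MulAut.conj h).toMonoidHom = N') :
    ∀ a b, ∃ c : Fin m' → Fin m' → F,
      h.1 * U a b * (h⁻¹ : GL (Fin n) F).1 = ∑ a', ∑ b', c a' b' • U' a' b' := by
  intro a b
  subst hh
  apply hU'.span
  intro Y hY
  exact (MUT N U hU h).dc Y hY a b

/-- INV: invariance of a subspace passes to the generated subgroup. -/
theorem INV (W : Submodule F (Fin n → F)) (S : Set (GL (Fin n) F))
    (hS : ∀ x ∈ S, W.map (Matrix.toLin' x.1) ≤ W) :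
    ∀ x ∈ Subgroup.closure S, W.map (Matrix.toLin' x.1) ≤ W := by
  intro x hx
  induction hx using Subgroup.closure_induction with
  | mem x hx => exact hS x hx
  | one => simp
  | mul x y _ _ hx hy =>
    rw [Units.val_mul, Matrix.toLin'_mul, Submodule.map_comp]
    exact (Submodule.map_mono hy).trans hx
  | inv x _ hx =>
    have hinj : Function.Injective (Matrix.toLin' x.1) := by
      apply Function.LeftInverse.injective (g := Matrix.toLin' (x⁻¹ : GL (Fin n) F).1)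
      intro v
      rw [← LinearMap.comp_apply, ← Matrix.toLin'_mul, ← Units.val_mul, inv_mul_cancel]
      simp
    have heq : W.map (Matrix.toLin' x.1) = W := by
      apply Submodule.eq_of_le_of_finrank_eq hx
      exact (LinearEquiv.finrank_eq (Submodule.equivMapOfInjective _ hinj W)).symm
    conv_lhs => rw [← heq]
    rw [← Submodule.map_comp, ← Matrix.toLin'_mul, ← Units.val_mul, inv_mul_cancel]
    simp

end Cfsg.Agent.Lib.Helper34.ASMUE
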