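import Mathlib
import Cfsg.Agent.Lib.Helper80.CTDefs

/-!
# S5748, piece PGL (helper34 for helper80): `PGL₂(F) ≃* PSL₂(F)` for a finite field of order `2^f`.
-/

set_option autoImplicit false

namespace Cfsg.Agent.Lib.Helper34.CTPGL

/-- piece PGL -/
theorem PGL_equiv_PSL (F : Type) [Field F] [Fintype F] (f : ℕ) (hF : Fintype.card F = 2 ^ f) :
    Nonempty (Matrix.ProjGenLinGroup (Fin 2) F ≃* Matrix.ProjectiveSpecialLinearGroup (Fin 2) F) := by
  have hf : 1 ≤ f := by
    by_contra h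
    have h0 : f = 0 := by omega
    rw [h0, pow_zero] at hF
    have := Fintype.one_lt_card (α := F)
    omega
  have hroots : ∀ r : Fˣ, ∃ k : Fˣ, k ^ Fintype.card (Fin 2) = r := by
    intro r
    refine ⟨r ^ (2 ^ (f - 1)), ?_⟩
    rw [Fintype.card_fin, ← pow_mul, ← pow_succ]
    have hf' : f - 1 + 1 = f := by omega
    rw [hf']
    apply Units.ext
    rw [Units.val_pow_eq_pow_val, ← hF]
    exact FiniteField.pow_card (r : F)
  exact ⟨(MulEquiv.ofBijective Matrix.ProjectiveSpecialLinearGroup.toPGL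
    ⟨Matrix.ProjectiveSpecialLinearGroup.toPGL_injective,
      Matrix.ProjectiveSpecialLinearGroup.toPGL_surj_of_roots hroots⟩).symm⟩

end Cfsg.Agent.Lib.Helper34.CTPGL
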