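import Mathlib

/-!
S2080 (helper38's project, Out(Fi23) = 1), piece S3: the involutions centralising an element `x0`
of order 13 whose centraliser contains a subgroup `S₃`.
-/

set_option autoImplicit false

namespace Cfsg.Agent.Lib.Helper34.OutS3

variable {G : Type} [Group G]

theorem outs3_key (x0 d1 d2 : G) (hx : x0 ^ 13 = 1)
    (hK : ∀ k : G, k * x0 = x0 * k → k * d1 = d1 * k → k * d2 = d2 * k → ∃ n : ℕ, k = x0 ^ n)
    (t : G) (ht2 : t * t = 1) (htx : t * x0 = x0 * t)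
    (s : G) (hsx : s * x0 = x0 * s) (hs6 : s ^ 6 = 1)
    (hs1 : s * d1 * s⁻¹ = t * d1 * t⁻¹) (hs2 : s * d2 * s⁻¹ = t * d2 * t⁻¹) : t = s := by
  have hsc : Commute s x0 := hsx
  have htc : Commute t x0 := htx
  have hk0 : s⁻¹ * t * x0 = x0 * (s⁻¹ * t) := (hsc.inv_left.mul_left htc).eq
  have hk1 : s⁻¹ * t * d1 = d1 * (s⁻¹ * t) := by
    have h : t * d1 = s * d1 * s⁻¹ * t := by rw [hs1]; group
    calc s⁻¹ * t * d1 = s⁻¹ * (t * d1) := by group
      _ = s⁻¹ * (s * d1 * s⁻¹ * t) := by rw [h]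
      _ = d1 * (s⁻¹ * t) := by group
  have hk2 : s⁻¹ * t * d2 = d2 * (s⁻¹ * t) := by
    have h : t * d2 = s * d2 * s⁻¹ * t := by rw [hs2]; group
    calc s⁻¹ * t * d2 = s⁻¹ * (t * d2) := by group
      _ = s⁻¹ * (s * d2 * s⁻¹ * t) := by rw [h]
      _ = d2 * (s⁻¹ * t) := by group
  obtain ⟨n, hn⟩ := hK (s⁻¹ * t) hk0 hk1 hk2
  have ht : t = s * x0 ^ n := by rw [← hn]; group
  have hcomm : Commute s (x0 ^ n) := hsc.pow_right n
  have h1 : (s * x0 ^ n) ^ 2 = 1 := by rw [← ht, pow_two, ht2]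
  have h2 : (s * x0 ^ n) ^ 6 = 1 := by
    calc (s * x0 ^ n) ^ 6 = ((s * x0 ^ n) ^ 2) ^ 3 := by rw [← pow_mul]
      _ = 1 := by rw [h1, one_pow]
  rw [hcomm.mul_pow, hs6, one_mul] at h2
  have h4 : (x0 ^ n) ^ 13 = 1 := by rw [← pow_mul, mul_comm, pow_mul, hx, one_pow]
  have h3 : x0 ^ n = 1 := by
    calc x0 ^ n = (x0 ^ n) ^ 13 * (((x0 ^ n) ^ 6)⁻¹) ^ 2 := by group
      _ = 1 := by rw [h4, h2]; simp
  rw [ht, h3, mul_one]

/-- The involutions centralising `x0` (of order 13).  `d1, d2, d3` are the three involutions of a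
subgroup `S₃` centralising `x0` (`d3 = d2 d1 d2 = d1 d2 d1`).  `hS`: the only conjugates of `d1`
commuting with `x0` are `d1, d2, d3`.  `hK`: an element commuting with `x0`, `d1`, `d2` is a power of
`x0`.  Then every involution `t` commuting with `x0` is one of `d1, d2, d3`. -/
theorem invol_of_cent (x0 d1 d2 d3 : G) (hx : x0 ^ 13 = 1)
    (h1 : d1 * d1 = 1) (h2 : d2 * d2 = 1) (h3 : d3 = d2 * d1 * d2) (h3' : d3 = d1 * d2 * d1)
    (c1 : d1 * x0 = x0 * d1) (c2 : d2 * x0 = x0 * d2)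
    (hS : ∀ g : G, (g * d1 * g⁻¹) * x0 = x0 * (g * d1 * g⁻¹) →
      g * d1 * g⁻¹ = d1 ∨ g * d1 * g⁻¹ = d2 ∨ g * d1 * g⁻¹ = d3)
    (hK : ∀ k : G, k * x0 = x0 * k → k * d1 = d1 * k → k * d2 = d2 * k → ∃ n : ℕ, k = x0 ^ n)
    (t : G) (ht2 : t * t = 1) (ht1 : t ≠ 1) (htx : t * x0 = x0 * t) :
    t = d1 ∨ t = d2 ∨ t = d3 := by
  have htc : Commute t x0 := htx
  have c1c : Commute d1 x0 := c1
  have c2c : Commute d2 x0 := c2
  have inv1 : d1⁻¹ = d1 := inv_eq_of_mul_eq_one_left h1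
  have inv2 : d2⁻¹ = d2 := inv_eq_of_mul_eq_one_left h2
  have hbr : d2 * d1 * d2 = d1 * d2 * d1 := h3.symm.trans h3'
  have h33 : d3 * d3 = 1 := by
    calc d3 * d3 = (d2 * d1 * d2) * (d2 * d1 * d2) := by rw [← h3]
      _ = d2 * d1 * (d2 * d2) * d1 * d2 := by group
      _ = d2 * (d1 * d1) * d2 := by rw [h2]; group
      _ = 1 := by rw [h1, mul_one, h2]
  have inv3 : d3⁻¹ = d3 := inv_eq_of_mul_eq_one_left h33
  have c3c : Commute d3 x0 := by
    rw [h3]
    exact (c2c.mul_left c1c).mul_left c2c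
  -- the conjugation table
  have e121 : d1 * d2 * d1 * d2⁻¹ * d1⁻¹ = d2 := by
    rw [← hbr]; group
  have e212 : d2 * d1 * d2 * d1⁻¹ * d2⁻¹ = d1 := by
    rw [hbr]; group
  have ha := hS t ((htc.mul_left c1c).mul_left htc.inv_left).eq
  have hbe : t * d1 * d2 * d1 * (t * d1 * d2)⁻¹ = t * d2 * t⁻¹ := by
    calc t * d1 * d2 * d1 * (t * d1 * d2)⁻¹ = t * (d1 * d2 * d1 * d2⁻¹ * d1⁻¹) * t⁻¹ := by group
      _ = t * d2 * t⁻¹ := by rw [e121]
  have hb := hS (t * d1 * d2) (by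
    rw [hbe]
    exact ((htc.mul_left c2c).mul_left htc.inv_left).eq)
  rw [hbe] at hb
  have key := outs3_key x0 d1 d2 hx hK t ht2 htx
  by_cases hd : d1 = d2
  · subst hd
    have hd3 : d3 = d1 := by rw [h3, h1, one_mul]
    have ha' : t * d1 * t⁻¹ = d1 := by
      rcases ha with ha | ha | ha
      · exact ha
      · exact ha
      · rw [ha, hd3]
    have ht : t = 1 := key 1 (by simp) (one_pow 6) (by simp [ha']) (by simp [ha'])
    exact absurd ht ht1
  · have hab : t * d1 * t⁻¹ ≠ t * d2 * t⁻¹ := by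
      intro h
      exact hd (mul_left_cancel (mul_right_cancel h))
    have hs1pow : d1 ^ 6 = 1 := by
      calc d1 ^ 6 = (d1 * d1) ^ 3 := by rw [← pow_two, ← pow_mul]
        _ = 1 := by rw [h1, one_pow]
    have hs2pow : d2 ^ 6 = 1 := by
      calc d2 ^ 6 = (d2 * d2) ^ 3 := by rw [← pow_two, ← pow_mul]
        _ = 1 := by rw [h2, one_pow]
    have hs3pow : d3 ^ 6 = 1 := by
      calc d3 ^ 6 = (d3 * d3) ^ 3 := by rw [← pow_two, ← pow_mul]
        _ = 1 := by rw [h33, one_pow]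
    have h12 : (d1 * d2) ^ 3 = 1 := by
      calc (d1 * d2) ^ 3 = (d1 * d2 * d1) * (d2 * d1 * d2) := by
            simp only [pow_succ, pow_zero, one_mul, mul_assoc]
        _ = 1 := by rw [← h3', ← h3, h33]
    have h21 : (d2 * d1) ^ 3 = 1 := by
      calc (d2 * d1) ^ 3 = (d2 * d1 * d2) * (d1 * d2 * d1) := by
            simp only [pow_succ, pow_zero, one_mul, mul_assoc]
        _ = 1 := by rw [← h3', ← h3, h33]
    have hnot : ∀ s : G, s ^ 3 = 1 → t ≠ s := by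
      intro s hs hts
      apply ht1
      have ht3 : t ^ 3 = 1 := by rw [hts]; exact hs
      calc t = t ^ 3 * (t * t)⁻¹ := by group
        _ = 1 := by rw [ht3, ht2]; simp
    rcases ha with ha | ha | ha <;> rcases hb with hb | hb | hb
    · exact absurd (ha.trans hb.symm) hab
    · -- (d1, d2): s = 1
      have ht : t = 1 := key 1 (by simp) (one_pow 6) (by simp [ha]) (by simp [hb])
      exact absurd ht ht1
    · -- (d1, d3): s = d1
      left
      refine key d1 c1 hs1pow ?_ ?_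
      · rw [ha]; group
      · rw [hb, inv1, h3']
    · -- (d2, d1): s = d3
      right; right
      refine key d3 c3c.eq hs3pow ?_ ?_
      · rw [ha]
        calc d3 * d1 * d3⁻¹ = d1 * d2 * d1 * d1 * (d1 * d2 * d1)⁻¹ := by rw [← h3']
          _ = d1 * d2 * d1 * d2⁻¹ * d1⁻¹ := by group
          _ = d2 := e121
      · rw [hb]
        calc d3 * d2 * d3⁻¹ = d2 * d1 * d2 * d2 * (d2 * d1 * d2)⁻¹ := by rw [← h3]
          _ = d2 * d1 * d2 * d1⁻¹ * d2⁻¹ := by group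
          _ = d1 := e212
    · exact absurd (ha.trans hb.symm) hab
    · -- (d2, d3): s = d1 * d2
      exfalso
      refine hnot (d1 * d2) h12 (key (d1 * d2) (c1c.mul_left c2c).eq ?_ ?_ ?_)
      · rw [show (6 : ℕ) = 3 * 2 from rfl, pow_mul, h12, one_pow]
      · rw [ha]
        calc d1 * d2 * d1 * (d1 * d2)⁻¹ = d1 * d2 * d1 * d2⁻¹ * d1⁻¹ := by group
          _ = d2 := e121
      · rw [hb]
        calc d1 * d2 * d2 * (d1 * d2)⁻¹ = d1 * d2 * d1⁻¹ := by group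
          _ = d3 := by rw [inv1, h3']
    · -- (d3, d1): s = d2 * d1
      exfalso
      refine hnot (d2 * d1) h21 (key (d2 * d1) (c2c.mul_left c1c).eq ?_ ?_ ?_)
      · rw [show (6 : ℕ) = 3 * 2 from rfl, pow_mul, h21, one_pow]
      · rw [ha]
        calc d2 * d1 * d1 * (d2 * d1)⁻¹ = d2 * d1 * d2⁻¹ := by group
          _ = d3 := by rw [inv2, h3]
      · rw [hb]
        calc d2 * d1 * d2 * (d2 * d1)⁻¹ = d2 * d1 * d2 * d1⁻¹ * d2⁻¹ := by group
          _ = d1 := e212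
    · -- (d3, d2): s = d2
      right; left
      refine key d2 c2 hs2pow ?_ ?_
      · rw [ha, inv2, h3]
      · rw [hb]; group
    · exact absurd (ha.trans hb.symm) hab

end Cfsg.Agent.Lib.Helper34.OutS3
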