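import Cfsg.Agent.Lib.Helper4.TPDefs

/-!
# Project TP (helper4, S4033), piece RT1B (helper34)

`B` a normal `t`-subgroup with `|B : B ⊓ Cen w| = t` for every noncentral `p`-regular `w`: then
`|B : B ⊓ Z(G)| = t ^ 2`.  Take such a `w₀` and `b ∈ B` outside `Cen w₀`; `B ⊓ Cen w₀` and
`B ⊓ Cen b` are different subgroups of index `t` of the `t`-group `B` meeting in `B ⊓ Z(G)`.
-/

namespace Cfsg.Agent.Lib.Helper4.TP

universe u

theorem rt1b : RT1bStmt.{u} := by
  intro G _ _ p m t hp hH hA1 ht htp B hBn hBt hrel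
  obtain ⟨-, ⟨w0, hw0⟩, -⟩ := hH
  haveI : Fact t.Prime := ⟨ht⟩
  -- elements of `B` are `p`-regular
  have hBreg : ∀ u ∈ B, PReg p u := by
    intro u hu
    obtain ⟨k, hk⟩ := hBt ⟨u, hu⟩
    have h1 : orderOf u ∣ t ^ k := by
      apply orderOf_dvd_of_pow_eq_one
      have h2 := congrArg Subtype.val hk
      simpa using h2
    unfold PReg
    exact Nat.Coprime.coprime_dvd_left h1
      (Nat.Coprime.pow_left k ((Nat.coprime_primes ht hp).mpr htp))
  have hrel0 := hrel w0 hw0
  have hex : ∃ b ∈ B, b ∉ Cen w0 := by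
    by_contra hcon
    push Not at hcon
    have h1 : (Cen w0).relIndex B = 1 := Subgroup.relIndex_eq_one.mpr hcon
    rw [hrel0] at h1
    exact ht.one_lt.ne' h1
  obtain ⟨b, hbB, hbn⟩ := hex
  have hcen_le : ∀ x : G, Subgroup.center G ≤ Cen x :=
    fun x => Subgroup.center_le_centralizer _
  have hbnc : NC p b := ⟨hBreg b hbB, fun hc => hbn (hcen_le w0 hc)⟩
  have hrelb := hrel b hbnc
  have hmemb : b ∈ Cen b := by
    rw [Subgroup.mem_centralizer_iff]
    intro h hh
    rw [Set.mem_singleton_iff] at hh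
    rw [hh]
  have hinf : (Subgroup.center G).subgroupOf B =
      (Cen w0).subgroupOf B ⊓ (Cen b).subgroupOf B := by
    ext ⟨u, hu⟩
    rw [Subgroup.mem_inf, Subgroup.mem_subgroupOf, Subgroup.mem_subgroupOf,
      Subgroup.mem_subgroupOf]
    constructor
    · intro hc
      exact ⟨hcen_le w0 hc, hcen_le b hc⟩
    · rintro ⟨h1, h2⟩
      by_contra hnc
      have hunc : NC p u := ⟨hBreg u hu, hnc⟩
      have e1 : Cen b ≤ Cen u := hA1 b u hbnc hunc.1 h2
      have hw0u : w0 ∈ Cen u := by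
        rw [Subgroup.mem_centralizer_iff] at h1 ⊢
        intro h hh
        rw [Set.mem_singleton_iff] at hh
        rw [hh]
        exact (h1 w0 (Set.mem_singleton _)).symm
      have e2 : Cen u ≤ Cen w0 := hA1 u w0 hunc hw0.1 hw0u
      exact hbn (e2 (e1 hmemb))
  obtain ⟨k, hk⟩ := hBt.exists_card_eq
  have hk0 : k ≠ 0 := by
    rintro rfl
    rw [pow_zero] at hk
    have h2 : ((Cen w0).subgroupOf B).index ∣ Nat.card B := Subgroup.index_dvd_card _
    rw [hk] at h2
    have h1 : (Cen w0).relIndex B = 1 := Nat.dvd_one.mp h2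
    rw [hrel0] at h1
    exact ht.one_lt.ne' h1
  have hminfac : (Nat.card B).minFac = t := by
    rw [hk]
    exact ht.pow_minFac hk0
  haveI hn1 : ((Cen w0).subgroupOf B).Normal :=
    Subgroup.normal_of_index_eq_minFac_card (by rw [hminfac]; exact hrel0)
  have hdvd : ((Cen w0).subgroupOf B).relIndex ((Cen b).subgroupOf B) ∣ t := by
    have h3 := Subgroup.relIndex_dvd_index_of_normal ((Cen w0).subgroupOf B)
      ((Cen b).subgroupOf B)
    rwa [show ((Cen w0).subgroupOf B).index = t from hrel0] at h3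
  have hne1 : ((Cen w0).subgroupOf B).relIndex ((Cen b).subgroupOf B) ≠ 1 := by
    intro h1
    rw [Subgroup.relIndex_eq_one] at h1
    have hb2 : (⟨b, hbB⟩ : B) ∈ (Cen b).subgroupOf B := Subgroup.mem_subgroupOf.mpr hmemb
    exact hbn (Subgroup.mem_subgroupOf.mp (h1 hb2))
  have heq : ((Cen w0).subgroupOf B).relIndex ((Cen b).subgroupOf B) = t := by
    rcases (Nat.dvd_prime ht).mp hdvd with h | h
    · exact absurd h hne1
    · exact h
  show ((Subgroup.center G).subgroupOf B).index = t ^ 2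
  rw [hinf, ← Subgroup.relIndex_mul_index (inf_le_right :
      (Cen w0).subgroupOf B ⊓ (Cen b).subgroupOf B ≤ (Cen b).subgroupOf B),
    Subgroup.inf_relIndex_right, heq, show ((Cen b).subgroupOf B).index = t from hrelb, pow_two]

end Cfsg.Agent.Lib.Helper4.TP
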