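import Cfsg.Agent.Lib.Helper41.TW3
set_option autoImplicit false
namespace Cfsg.Agent.Lib.Helper34.TWP
open Cfsg Cfsg.Agent.Lib.Helper66 Cfsg.Agent.Lib.Helper41.TW
variable {G : Type*} [Group G] [Finite G] {X Y A1 B1 A2 B2 : Subgroup G}

/-- a set stable under conjugation by `K'`: `K'` normalizes its closure -/
theorem le_normalizer_closure_of_conj {K' : Subgroup G} {s : Set G}
    (h : ∀ k ∈ K', ∀ a ∈ s, k * a * k⁻¹ ∈ s) :
    K' ≤ Subgroup.normalizer ((Subgroup.closure s : Subgroup G) : Set G) := by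
  apply le_normalizer_of_conj
  intro k hk n hn
  induction hn using Subgroup.closure_induction with
  | mem a ha => exact Subgroup.subset_closure (h k hk a ha)
  | one => simp
  | mul a b _ _ iha ihb =>
    have : k * (a * b) * k⁻¹ = (k * a * k⁻¹) * (k * b * k⁻¹) := by group
    rw [this]; exact Subgroup.mul_mem _ iha ihb
  | inv a _ iha =>
    have : k * a⁻¹ * k⁻¹ = (k * a * k⁻¹)⁻¹ := by group
    rw [this]; exact Subgroup.inv_mem _ iha

theorem isPGroup_zpowers_conj {q : ℕ} {a : G} (x : G) (h : IsPGroup q (Subgroup.zpowers a)) :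
    IsPGroup q (Subgroup.zpowers (x * a * x⁻¹)) := by
  have : Subgroup.zpowers (x * a * x⁻¹)
      = (Subgroup.zpowers a).map (MulAut.conj x).toMonoidHom := by
    rw [MonoidHom.map_zpowers]; rfl
  rw [this]; exact h.map _

theorem step4b (S : Setting X Y A1 B1 A2 B2) {q : ℕ} (hq : q.Prime) {Q : Subgroup G}
    (hQA : Q ≤ A2) (hQ : IsPGroup q Q) (hidx : ¬ q ∣ Q.relIndex A2) (hQne : Q ≠ ⊥) :
    Subgroup.normalizer (Q : Set G) ⊓ Y ≤ X := by
  haveI : Fact q.Prime := ⟨hq⟩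
  obtain ⟨s, hs⟩ : ∃ s : Set G, s = {a | a ∈ A2 ∧ IsPGroup q (Subgroup.zpowers a)} := ⟨_, rfl⟩
  have hsmem : ∀ a, a ∈ s ↔ a ∈ A2 ∧ IsPGroup q (Subgroup.zpowers a) := by
    intro a; rw [hs]; rfl
  have hKA : Subgroup.closure s ≤ A2 :=
    (Subgroup.closure_le _).mpr (fun a ha => ((hsmem a).mp ha).1)
  have hKX : Subgroup.closure s ≤ X := hKA.trans S.A2_le_X
  have hXK : X ≤ Subgroup.normalizer ((Subgroup.closure s : Subgroup G) : Set G) := by
    apply le_normalizer_closure_of_conj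
    intro x hx a ha
    rw [hsmem] at ha ⊢
    exact ⟨conj_mem (S.X_norm_A2 hx) ha.1, isPGroup_zpowers_conj x ha.2⟩
  have hQK : Q ≤ Subgroup.closure s := by
    intro c hc
    apply Subgroup.subset_closure
    rw [hsmem]
    refine ⟨hQA hc, hQ.to_le ?_⟩
    rw [Subgroup.zpowers_le]; exact hc
  have hKne : Subgroup.closure s ≠ ⊥ := by
    intro h
    apply hQne
    rw [eq_bot_iff, ← h]; exact hQK
  have hNK : Subgroup.normalizer ((Subgroup.closure s : Subgroup G) : Set G) ≤ X :=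
    S.primX _ hKX hXK hKne
  refine le_trans ?_ hNK
  apply le_normalizer_closure_of_conj
  intro n hn a ha
  obtain ⟨hnQ, hnY⟩ := Subgroup.mem_inf.mp hn
  rw [hsmem] at ha ⊢
  obtain ⟨haA, haq⟩ := ha
  obtain ⟨m, hm, hmc⟩ := Cfsg.Agent.Lib.Helper41.exists_conj_le_of_not_dvd_relIndex A2 Q
    (Subgroup.zpowers a) hQ hidx (by rw [Subgroup.zpowers_le]; exact haA) haq
  have hc : m * a * m⁻¹ ∈ Q := hmc a (Subgroup.mem_zpowers a)
  have hc' : n * (m * a * m⁻¹) * n⁻¹ ∈ Q := conj_mem hnQ hc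
  have hb : n * m⁻¹ * n⁻¹ ∈ B1 := conj_mem (S.Y_norm_B1 hnY) (S.A2_le_B1 (A2.inv_mem hm))
  have heq : n * a * n⁻¹
      = (n * m⁻¹ * n⁻¹) * (n * (m * a * m⁻¹) * n⁻¹) * (n * m⁻¹ * n⁻¹)⁻¹ := by group
  rw [heq]
  refine ⟨conj_mem (S.B1_norm_A2 hb) (hQA hc'), ?_⟩
  apply isPGroup_zpowers_conj
  apply hQ.to_le
  rw [Subgroup.zpowers_le]; exact hc'

end Cfsg.Agent.Lib.Helper34.TWP
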